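import Groth.Agent.Lib.QCoh.Locality
import Groth.Agent.Lib.Cohom.AffineSections

/-!
# The localisation criterion for quasi-coherence

`SmulLift M g` and `SmulSep M g` say that restriction from `U` to `X_g` is surjective and injective
up to powers of `g`.
-/

universe u

open CategoryTheory CategoryTheory.Limits Opposite TopologicalSpace AlgebraicGeometry
open GrothLib.Cohom (map_map_apply map_self_apply ringMap_map_apply appIso_inv_fromSpec)

namespace GrothLib.QCoh

variable {X : Scheme.{u}}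

/-- Sections on `X_g` extend to `U` after multiplication by a power of `g`. -/
def SmulLift (M : X.Modules) {U : X.Opens} (g : Γ(X, U)) : Prop :=
  ∀ s : Γ(M, X.basicOpen g), ∃ (n : ℕ) (t : Γ(M, U)),
    M.presheaf.map (homOfLE (X.basicOpen_le g)).op t =
      (X.presheaf.map (homOfLE (X.basicOpen_le g)).op g) ^ n • s

/-- Sections on `U` vanishing on `X_g` are killed by a power of `g`. -/
def SmulSep (M : X.Modules) {U : X.Opens} (g : Γ(X, U)) : Prop :=
  ∀ t : Γ(M, U), M.presheaf.map (homOfLE (X.basicOpen_le g)).op t = 0 → ∃ n : ℕ, g ^ n • t = 0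

section Transport

variable {U : X.Opens} (hU : IsAffineOpen U) (M : X.Modules)

theorem image_basicOpen (g : Γ(X, U)) :
    hU.fromSpec ''ᵁ PrimeSpectrum.basicOpen g = X.basicOpen g :=
  hU.fromSpec_image_basicOpen g

theorem image_top : hU.fromSpec ''ᵁ ⊤ = U := by
  rw [Scheme.Hom.image_top_eq_opensRange, hU.opensRange_fromSpec]

/-- Sections of the restriction to `Spec Γ(X, U)` are sections on the image. -/
noncomputable def secIso (V : (Spec Γ(X, U)).Opens) {W : X.Opens} (e : hU.fromSpec ''ᵁ V = W) :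
    Γ(M.restrict hU.fromSpec, V) ≃+ Γ(M, W) :=
  (M.restrictAppIso hU.fromSpec V ≪≫
    M.presheaf.mapIso (eqToIso (congrArg op e))).addCommGroupIsoToAddEquiv

theorem secIso_apply {V : (Spec Γ(X, U)).Opens} {W : X.Opens} (e : hU.fromSpec ''ᵁ V = W)
    (x : Γ(M.restrict hU.fromSpec, V)) :
    secIso hU M V e x =
      M.presheaf.map (eqToHom e.symm).op ((M.restrictAppIso hU.fromSpec V).hom x) := by
  simp only [secIso, eqToHom_op]
  rfl

theorem secIso_map {V V' : (Spec Γ(X, U)).Opens} {W W' : X.Opens} (e : hU.fromSpec ''ᵁ V = W)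
    (e' : hU.fromSpec ''ᵁ V' = W') (h : V' ≤ V) (h' : W' ≤ W)
    (x : Γ(M.restrict hU.fromSpec, V)) :
    secIso hU M V' e' ((M.restrict hU.fromSpec).presheaf.map (homOfLE h).op x) =
      M.presheaf.map (homOfLE h').op (secIso hU M V e x) := by
  rw [secIso_apply, secIso_apply]
  change M.presheaf.map _ (M.presheaf.map (homOfLE (Scheme.Hom.image_mono hU.fromSpec h)).op
    ((M.restrictAppIso hU.fromSpec V).hom x)) = _
  rw [map_map_apply, map_map_apply]

theorem secIso_smul {V : (Spec Γ(X, U)).Opens} {W : X.Opens} (e : hU.fromSpec ''ᵁ V = W)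
    (hW : W ≤ U) (g : Γ(X, U)) (x : Γ(M.restrict hU.fromSpec, V)) :
    secIso hU M V e (g • x) = X.presheaf.map (homOfLE hW).op g • secIso hU M V e x := by
  rw [secIso_apply, secIso_apply, Scheme.Modules.smul_Spec_def,
    Scheme.Modules.smul_restrictAppIso_hom_apply, appIso_inv_fromSpec hU _ _ (e.le.trans hW),
    Scheme.Modules.map_smul, ringMap_map_apply]

theorem secIso_top_smul (g : Γ(X, U)) (x : Γ(M.restrict hU.fromSpec, ⊤)) :
    secIso hU M ⊤ (image_top hU) (g • x) = g • secIso hU M ⊤ (image_top hU) x := by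
  rw [secIso_smul hU M (image_top hU) le_rfl]
  congr 1
  rw [show (homOfLE (le_refl U)).op = 𝟙 _ from rfl, CategoryTheory.Functor.map_id]
  rfl

theorem isLocalizedModule_iff (g : Γ(X, U)) :
    IsLocalizedModule (.powers g)
        ((modulesSpecToSheaf.obj (M.restrict hU.fromSpec)).obj.map
          (PrimeSpectrum.basicOpen g).leTop.op).hom ↔
      SmulLift M g ∧ SmulSep M g := by
  let e₀ := secIso hU M ⊤ (image_top hU)
  let e₁ := secIso hU M (PrimeSpectrum.basicOpen g) (image_basicOpen hU g)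
  have hmap : ∀ x, e₁ ((M.restrict hU.fromSpec).presheaf.map (homOfLE le_top).op x) =
      M.presheaf.map (homOfLE (X.basicOpen_le g)).op (e₀ x) := fun x ↦
    secIso_map hU M _ _ le_top _ x
  have hs1 : ∀ (n : ℕ) x, e₁ (g ^ n • x) =
      (X.presheaf.map (homOfLE (X.basicOpen_le g)).op g) ^ n • e₁ x := fun n x ↦ by
    rw [secIso_smul hU M _ (X.basicOpen_le g), map_pow]
  have hs0 : ∀ (n : ℕ) x, e₀ (g ^ n • x) = g ^ n • e₀ x := fun n x ↦ secIso_top_smul hU M _ x
  constructor
  · intro h
    refine ⟨fun s ↦ ?_, fun t ht ↦ ?_⟩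
    · obtain ⟨⟨t, ⟨_, n, rfl⟩⟩, hn⟩ := h.surj (e₁.symm s)
      refine ⟨n, e₀ t, ?_⟩
      replace hn : g ^ n • e₁.symm s =
          (M.restrict hU.fromSpec).presheaf.map (homOfLE le_top).op t := hn
      exact ((hmap t).symm.trans (congrArg e₁ hn.symm)).trans
        ((hs1 n _).trans (by rw [AddEquiv.apply_symm_apply]))
    · have h0 : ((M.restrict hU.fromSpec).presheaf.map
          (homOfLE (le_top : PrimeSpectrum.basicOpen g ≤ ⊤)).op (e₀.symm t)) = 0 :=
        e₁.injective (((hmap (e₀.symm t)).trans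
          (by rw [AddEquiv.apply_symm_apply]; exact ht)).trans (map_zero e₁).symm)
      obtain ⟨⟨_, n, rfl⟩, hn⟩ := (IsLocalizedModule.eq_zero_iff (.powers g)
        ((modulesSpecToSheaf.obj (M.restrict hU.fromSpec)).obj.map
          (PrimeSpectrum.basicOpen g).leTop.op).hom (m := e₀.symm t)).mp h0
      refine ⟨n, ?_⟩
      have h2 : g ^ n • e₀ (e₀.symm t) = 0 :=
        (hs0 n (e₀.symm t)).symm.trans ((congrArg e₀ hn).trans (map_zero e₀))
      rwa [AddEquiv.apply_symm_apply] at h2
  · rintro ⟨hl, hsep⟩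
    refine IsLocalizedModule.Away.mk_of_addCommGroup
      (Scheme.Modules.isUnit_algebraMap_end_of_le_basicOpen g le_rfl) ?_ ?_
    · intro x
      obtain ⟨n, t, ht⟩ := hl (e₁ x)
      exact ⟨n, e₀.symm t, e₁.injective ((hs1 n x).trans
        (ht.symm.trans (((hmap (e₀.symm t)).trans (by rw [AddEquiv.apply_symm_apply])).symm)))⟩
    · intro x hx
      obtain ⟨n, hn⟩ := hsep (e₀ x) ((hmap x).symm.trans ((congrArg e₁ hx).trans (map_zero e₁)))
      exact ⟨n, e₀.injective ((hs0 n x).trans (hn.trans (map_zero e₀).symm))⟩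

theorem isIso_fromTildeΓ_restrict_iff :
    IsIso (M.restrict hU.fromSpec).fromTildeΓ ↔ ∀ g : Γ(X, U), SmulLift M g ∧ SmulSep M g := by
  rw [isIso_fromTildeΓ_iff_isLocalizing]
  exact forall_congr' (isLocalizedModule_iff hU M)

include hU in
theorem smulLift_and_smulSep_of_isAffineOpen [M.IsQuasicoherent] (g : Γ(X, U)) :
    SmulLift M g ∧ SmulSep M g :=
  (isIso_fromTildeΓ_restrict_iff hU M).1 inferInstance g

end Transport

/-- Quasi-coherence from the localisation criterion on an affine cover. -/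
theorem isQuasicoherent_of_smulLift_of_smulSep (M : X.Modules) {ι : Type u} (U : ι → X.Opens)
    (hU : IsOpenCover U) (hA : ∀ i, IsAffineOpen (U i))
    (h : ∀ (i : ι) (g : Γ(X, U i)), SmulLift M g ∧ SmulSep M g) : M.IsQuasicoherent := by
  refine isQuasicoherent_of_restrict M U hU fun i ↦ ?_
  have := (isIso_fromTildeΓ_restrict_iff (hA i) M).2 (h i)
  have : (M.restrict (hA i).fromSpec).IsQuasicoherent :=
    (isQuasicoherent_iff_isIso_fromTildeΓ _).2 this
  refine (SheafOfModules.isQuasicoherent (U i : Scheme.{u}).ringCatSheaf).prop_of_iso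
    (((Scheme.Modules.restrictFunctorComp (hA i).isoSpec.hom (hA i).fromSpec).symm.app M) ≪≫
      (Scheme.Modules.restrictFunctorCongr (hA i).isoSpec_hom_fromSpec).app M) ?_
  exact inferInstanceAs ((M.restrict (hA i).fromSpec).restrict (hA i).isoSpec.hom).IsQuasicoherent

/-- Quasi-coherence from the localisation criterion on all affine opens. -/
theorem isQuasicoherent_iff_smulLift_smulSep (M : X.Modules) :
    M.IsQuasicoherent ↔
      ∀ (U : X.Opens), IsAffineOpen U → ∀ g : Γ(X, U), SmulLift M g ∧ SmulSep M g :=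
  ⟨fun _ _ hU g ↦ smulLift_and_smulSep_of_isAffineOpen hU M g, fun h ↦
    isQuasicoherent_of_smulLift_of_smulSep M (fun U : X.affineOpens ↦ U.1)
      (iSup_affineOpens_eq_top X) (fun U ↦ U.2) fun U g ↦ h U.1 U.2 g⟩

end GrothLib.QCoh
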