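import Groth.Agent.Lib.QCoh.Affine
import Mathlib.AlgebraicGeometry.Morphisms.QuasiSeparated

/-!
# Sections on `X_g` for quasi-compact quasi-separated opens; direct images are quasi-coherent
-/

universe u

open CategoryTheory CategoryTheory.Limits Opposite TopologicalSpace AlgebraicGeometry
open GrothLib.Cohom (map_map_apply map_self_apply ringMap_map_apply)

namespace GrothLib.QCoh

variable {X : Scheme.{u}}

theorem eq_zero_of_finite_cover (M : X.Modules) {U : X.Opens} {ι : Type u} (V : ι → X.Opens)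
    (hle : ∀ i, V i ≤ U) (hcov : U ≤ ⨆ i, V i) (t : Γ(M, U))
    (h : ∀ i, M.presheaf.map (homOfLE (hle i)).op t = 0) : t = 0 :=
  TopCat.Sheaf.eq_of_locally_eq' ⟨M.presheaf, M.isSheaf⟩ V U (fun i ↦ homOfLE (hle i)) hcov t 0
    fun i ↦ (h i).trans (map_zero _).symm

/-- A compact open is covered by finitely many affine opens contained in it. -/
theorem exists_finite_affine_cover {U : X.Opens} (hU : IsCompact (U : Set X)) :
    ∃ (ι : Type u) (_ : Fintype ι) (V : ι → X.Opens),
      (∀ i, IsAffineOpen (V i)) ∧ (∀ i, V i ≤ U) ∧ U ≤ ⨆ i, V i := by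
  obtain ⟨S, hS, hS'⟩ :=
    (isCompact_and_isOpen_iff_finite_and_eq_biUnion_affineOpens (U := (U : Set X))).1 ⟨hU, U.isOpen⟩
  refine ⟨S, hS.fintype, fun i ↦ i.1.1, fun i ↦ i.1.2, fun i x hx ↦ ?_, fun x hx ↦ ?_⟩
  · exact hS'.ge (Set.mem_biUnion i.2 hx)
  · obtain ⟨i, hi, hxi⟩ := Set.mem_iUnion₂.1 (hS'.le hx)
    exact Opens.mem_iSup.2 ⟨⟨i, hi⟩, hxi⟩

theorem exists_uniform_pow (M : X.Modules) {ι : Type u} [Fintype ι] {V : ι → X.Opens}
    (g : ∀ i, Γ(X, V i)) (t : ∀ i, Γ(M, V i)) (h : ∀ i, ∃ n : ℕ, g i ^ n • t i = 0) :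
    ∃ N : ℕ, ∀ i, g i ^ N • t i = 0 := by
  choose n hn using h
  refine ⟨Finset.univ.sup n, fun i ↦ ?_⟩
  obtain ⟨k, hk⟩ := Nat.exists_eq_add_of_le (Finset.le_sup (f := n) (Finset.mem_univ i))
  rw [hk, pow_add, mul_comm, mul_smul, hn, smul_zero]

/-- On a compact open, sections vanishing on `X_g` are killed by a power of `g`. -/
theorem smulSep_of_isCompact (M : X.Modules) [M.IsQuasicoherent] {U : X.Opens}
    (hU : IsCompact (U : Set X)) (g : Γ(X, U)) : SmulSep M g := by
  intro t ht
  obtain ⟨ι, _, V, hVA, hVU, hUV⟩ := exists_finite_affine_cover hU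
  obtain ⟨N, hN⟩ := exists_uniform_pow M (fun i ↦ X.presheaf.map (homOfLE (hVU i)).op g)
    (fun i ↦ M.presheaf.map (homOfLE (hVU i)).op t) fun i ↦ by
      refine (smulLift_and_smulSep_of_isAffineOpen (hVA i) M _).2 _ ?_
      have hle : X.basicOpen (X.presheaf.map (homOfLE (hVU i)).op g) ≤ X.basicOpen g := by
        rw [X.basicOpen_res]; exact inf_le_right
      rw [map_map_apply, ← map_map_apply M (homOfLE (X.basicOpen_le g)) (homOfLE hle), ht, map_zero]
  refine ⟨N, eq_zero_of_finite_cover M V hVU hUV _ fun i ↦ ?_⟩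
  rw [Scheme.Modules.map_smul, map_pow, hN]

/-- On a quasi-compact quasi-separated open, sections on `X_g` extend after multiplication by a
power of `g`. -/
theorem smulLift_of_isCompact (M : X.Modules) [M.IsQuasicoherent] {U : X.Opens}
    (hU : IsCompact (U : Set X)) (hqs : IsQuasiSeparated (U : Set X)) (g : Γ(X, U)) :
    SmulLift M g := by
  intro s
  obtain ⟨ι, _, V, hVA, hVU, hUV⟩ := exists_finite_affine_cover hU
  have hle (i : ι) : X.basicOpen (X.presheaf.map (homOfLE (hVU i)).op g) ≤ X.basicOpen g := by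
    rw [X.basicOpen_res]; exact inf_le_right
  choose n t ht using fun i ↦ (smulLift_and_smulSep_of_isAffineOpen (hVA i) M
    (X.presheaf.map (homOfLE (hVU i)).op g)).1 (M.presheaf.map (homOfLE (hle i)).op s)
  let N := Finset.univ.sup n
  let t' (i : ι) : Γ(M, V i) := X.presheaf.map (homOfLE (hVU i)).op g ^ (N - n i) • t i
  have ht' (i : ι) : M.presheaf.map (homOfLE (X.basicOpen_le _)).op (t' i) =
      (X.presheaf.map (homOfLE ((hle i).trans (X.basicOpen_le g))).op g) ^ N •
        M.presheaf.map (homOfLE (hle i)).op s := by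
    rw [Scheme.Modules.map_smul, map_pow, ht, ringMap_map_apply, ← mul_smul, ← pow_add,
      Nat.sub_add_cancel (Finset.le_sup (f := n) (Finset.mem_univ i))]
  have hcompact (p : ι × ι) : IsCompact ((V p.1 ⊓ V p.2 : X.Opens) : Set X) :=
    hqs _ _ (hVU p.1) (V p.1).isOpen (hVA p.1).isCompact (hVU p.2) (V p.2).isOpen
      (hVA p.2).isCompact
  have hij (p : ι × ι) : V p.1 ⊓ V p.2 ≤ U := inf_le_left.trans (hVU p.1)
  obtain ⟨K, hK⟩ := exists_uniform_pow M (V := fun p : ι × ι ↦ V p.1 ⊓ V p.2)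
    (fun p ↦ X.presheaf.map (homOfLE (hij p)).op g)
    (fun p ↦ M.presheaf.map (homOfLE inf_le_left).op (t' p.1) -
      M.presheaf.map (homOfLE inf_le_right).op (t' p.2)) fun p ↦ by
      refine smulSep_of_isCompact M (hcompact p) _ _ ?_
      have hb : X.basicOpen (X.presheaf.map (homOfLE (hij p)).op g) =
          V p.1 ⊓ V p.2 ⊓ X.basicOpen g := X.basicOpen_res _ _
      have h1 : X.basicOpen (X.presheaf.map (homOfLE (hij p)).op g) ≤
          X.basicOpen (X.presheaf.map (homOfLE (hVU p.1)).op g) := by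
        rw [hb, X.basicOpen_res]; exact inf_le_inf_right _ inf_le_left
      have h2 : X.basicOpen (X.presheaf.map (homOfLE (hij p)).op g) ≤
          X.basicOpen (X.presheaf.map (homOfLE (hVU p.2)).op g) := by
        rw [hb, X.basicOpen_res]; exact inf_le_inf_right _ inf_le_right
      rw [map_sub, map_map_apply, map_map_apply,
        ← map_map_apply M (homOfLE (X.basicOpen_le _)) (homOfLE h1),
        ← map_map_apply M (homOfLE (X.basicOpen_le _)) (homOfLE h2), ht', ht']
      simp only [Scheme.Modules.map_smul, map_pow, ringMap_map_apply, map_map_apply, sub_self]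
  obtain ⟨a, ha, -⟩ := TopCat.Sheaf.existsUnique_gluing' ⟨M.presheaf, M.isSheaf⟩ V U
    (fun i ↦ homOfLE (hVU i)) hUV (fun i ↦ X.presheaf.map (homOfLE (hVU i)).op g ^ K • t' i)
    fun i j ↦ by
      have h := hK (i, j)
      rw [smul_sub, sub_eq_zero] at h
      change M.presheaf.map (homOfLE inf_le_left).op _ = M.presheaf.map (homOfLE inf_le_right).op _
      simp only [Scheme.Modules.map_smul, map_pow, ringMap_map_apply]
      exact h
  refine ⟨K + N, a, sub_eq_zero.1 (eq_zero_of_finite_cover M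
    (fun i ↦ X.basicOpen (X.presheaf.map (homOfLE (hVU i)).op g)) hle ?_ _ fun i ↦ ?_)⟩
  · intro x hx
    obtain ⟨i, hi⟩ := Opens.mem_iSup.1 (hUV (X.basicOpen_le g hx))
    refine Opens.mem_iSup.2 ⟨i, ?_⟩
    rw [X.basicOpen_res]
    exact ⟨hi, hx⟩
  · have hai : M.presheaf.map (homOfLE (hVU i)).op a =
        X.presheaf.map (homOfLE (hVU i)).op g ^ K • t' i := ha i
    rw [map_sub, sub_eq_zero, map_map_apply,
      ← map_map_apply M (homOfLE (hVU i)) (homOfLE (X.basicOpen_le _)), hai]
    simp only [Scheme.Modules.map_smul, map_pow, ringMap_map_apply, ht']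
    rw [← mul_smul, ← pow_add]

theorem pushforward_smul {Y : Scheme.{u}} (f : X ⟶ Y) (M : X.Modules) {U : Y.Opens} (r : Γ(Y, U))
    (x : Γ((Scheme.Modules.pushforward f).obj M, U)) :
    (show Γ(M, f ⁻¹ᵁ U) from r • x) = f.app U r • (show Γ(M, f ⁻¹ᵁ U) from x) := rfl

/-- Direct images of quasi-coherent modules along quasi-compact quasi-separated morphisms are
quasi-coherent. -/
theorem isQuasicoherent_pushforward {Y : Scheme.{u}} (f : X ⟶ Y) [QuasiCompact f]
    [QuasiSeparated f] (M : X.Modules) [M.IsQuasicoherent] :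
    ((Scheme.Modules.pushforward f).obj M).IsQuasicoherent := by
  rw [isQuasicoherent_iff_smulLift_smulSep]
  intro U hU g
  have hc : IsCompact ((f ⁻¹ᵁ U : X.Opens) : Set X) := f.isCompact_preimage hU.isCompact
  have hqs : IsQuasiSeparated ((f ⁻¹ᵁ U : X.Opens) : Set X) :=
    f.isQuasiSeparated_preimage hU.isQuasiSeparated
  have e : f ⁻¹ᵁ Y.basicOpen g = X.basicOpen (f.app U g) := Scheme.preimage_basicOpen f g
  have hnat : X.presheaf.map (homOfLE (e.le.trans (X.basicOpen_le _))).op (f.app U g) =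
      f.app (Y.basicOpen g) (Y.presheaf.map (homOfLE (Y.basicOpen_le g)).op g) :=
    (ConcreteCategory.congr_hom (f.naturality (homOfLE (Y.basicOpen_le g)).op) g).symm
  refine ⟨fun s ↦ ?_, fun t ht ↦ ?_⟩
  · obtain ⟨n, t, ht⟩ := smulLift_of_isCompact M hc hqs (f.app U g)
      (M.presheaf.map (eqToHom e.symm).op s)
    refine ⟨n, t, ?_⟩
    have h2 := congrArg (M.presheaf.map (eqToHom e).op) ht
    rw [Scheme.Modules.map_smul, map_map_apply, map_map_apply, map_self_apply, map_pow,
      ringMap_map_apply] at h2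
    refine Eq.trans h2 ?_
    rw [hnat, ← map_pow]
    exact (pushforward_smul f M _ s).symm
  · obtain ⟨n, hn⟩ := smulSep_of_isCompact M hc (f.app U g) t (by
      have h1 : M.presheaf.map (homOfLE (e.le.trans (X.basicOpen_le _))).op t = 0 := ht
      rw [← map_map_apply M (homOfLE (e.le.trans (X.basicOpen_le _))) (eqToHom e.symm), h1,
        map_zero])
    refine ⟨n, ?_⟩
    rw [← map_pow] at hn
    exact (pushforward_smul f M _ t).trans hn

end GrothLib.QCoh
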