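import Groth.Agent.Lib.QCoh.Abelian
import Mathlib.RingTheory.Finiteness.Basic
import Mathlib.RingTheory.Noetherian.Basic
import Mathlib.AlgebraicGeometry.Morphisms.QuasiSeparated
import Mathlib.AlgebraicGeometry.Noetherian

/-!
# Quasi-coherent modules of finite type and of finite presentation
-/

universe u

open CategoryTheory CategoryTheory.Limits Opposite TopologicalSpace AlgebraicGeometry
open AlgebraicGeometry.Scheme.Modules
open GrothLib.Cohom (map_map_apply map_self_apply ringMap_map_apply)

namespace GrothLib.QCoh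

variable {X : Scheme.{u}}

/-- Finite generation of sections on an affine open is local on basic opens. -/
theorem moduleFinite_of_basicOpen_cover {U : X.Opens} (hU : IsAffineOpen U) (M : X.Modules)
    [M.IsQuasicoherent]
    (h : ∀ x ∈ U, ∃ g : Γ(X, U), x ∈ X.basicOpen g ∧
      Module.Finite Γ(X, X.basicOpen g) Γ(M, X.basicOpen g)) :
    Module.Finite Γ(X, U) Γ(M, U) := by
  classical
  choose g hxg hfin using fun x : U ↦ h x.1 x.2
  obtain ⟨s, hs⟩ := hU.isCompact.elim_finite_subcover (fun x : U ↦ (X.basicOpen (g x) : Set X))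
    (fun x ↦ (X.basicOpen (g x)).isOpen) fun x hx ↦ Set.mem_iUnion.2 ⟨⟨x, hx⟩, hxg _⟩
  have hspan : Ideal.span ((s.image g : Finset Γ(X, U)) : Set Γ(X, U)) = ⊤ := by
    refine hU.iSup_basicOpen_eq_self_iff.1 (le_antisymm (iSup_le fun i ↦ X.basicOpen_le _) ?_)
    intro x hx
    obtain ⟨i, hi, hxi⟩ := Set.mem_iUnion₂.1 (hs hx)
    exact Opens.mem_iSup.2 ⟨⟨g i, Finset.mem_coe.2 (Finset.mem_image_of_mem g hi)⟩, hxi⟩
  choose G hG using fun x : U ↦ (hfin x).fg_top
  choose n t ht using fun (x : U) (y : G x) ↦
    (smulLift_and_smulSep_of_isAffineOpen hU M (g x)).1 y.1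
  let N : Submodule Γ(X, U) Γ(M, U) :=
    Submodule.span Γ(X, U) (⋃ x ∈ s, Set.range (t x))
  have hNfg : N.FG := Submodule.fg_span ((s.finite_toSet).biUnion fun x _ ↦ Set.finite_range _)
  refine ⟨(eq_top_iff.2 fun a _ ↦ ?_ : N = ⊤) ▸ hNfg⟩
  refine Submodule.mem_of_span_eq_top_of_smul_pow_mem N _ hspan a fun r ↦ ?_
  obtain ⟨x, hx, hxr⟩ := Finset.mem_image.1 (Finset.mem_coe.1 r.2)
  rw [← hxr]
  let ρ := X.presheaf.map (homOfLE (X.basicOpen_le (g x))).op
  let ρM := M.presheaf.map (homOfLE (X.basicOpen_le (g x))).op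
  suffices hb : ∀ b : Γ(M, X.basicOpen (g x)), ∃ k, ∃ u ∈ N, ρM u = ρ (g x) ^ k • b by
    obtain ⟨k, u, hu, hk⟩ := hb (ρM a)
    obtain ⟨m, hm⟩ := (smulLift_and_smulSep_of_isAffineOpen hU M (g x)).2 (g x ^ k • a - u) (by
      rw [map_sub, Scheme.Modules.map_smul, map_pow, sub_eq_zero]
      exact hk.symm)
    refine ⟨m + k, ?_⟩
    rw [smul_sub, sub_eq_zero, ← mul_smul, ← pow_add] at hm
    rw [hm]
    exact N.smul_mem _ hu
  intro b
  have hb : b ∈ Submodule.span Γ(X, X.basicOpen (g x)) (G x : Set Γ(M, X.basicOpen (g x))) :=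
    (hG x).symm ▸ Submodule.mem_top
  induction hb using Submodule.span_induction with
  | mem y hy =>
    exact ⟨n x ⟨y, hy⟩, t x ⟨y, hy⟩,
      Submodule.subset_span (Set.mem_iUnion₂.2 ⟨x, hx, _, rfl⟩), ht x ⟨y, hy⟩⟩
  | zero => exact ⟨0, 0, N.zero_mem, by rw [map_zero, smul_zero]⟩
  | add y z _ _ hy hz =>
    obtain ⟨k, u, hu, hk⟩ := hy
    obtain ⟨l, v, hv, hl⟩ := hz
    refine ⟨k + l, g x ^ l • u + g x ^ k • v, N.add_mem (N.smul_mem _ hu) (N.smul_mem _ hv), ?_⟩
    rw [map_add]
    simp only [ρM, ρ] at hk hl ⊢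
    rw [Scheme.Modules.map_smul, Scheme.Modules.map_smul, hk, hl, map_pow, map_pow, smul_add,
      ← mul_smul, ← mul_smul, pow_add, mul_comm]
  | smul c y _ hy =>
    obtain ⟨k, u, hu, hk⟩ := hy
    obtain ⟨l, a', ha'⟩ := exists_eq_pow_mul_of_isAffineOpen X U hU (g x) c
    replace ha' : ρ a' = ρ (g x) ^ l * c := ha'
    refine ⟨l + k, a' • u, N.smul_mem _ hu, ?_⟩
    simp only [ρM, ρ] at hk ha' ⊢
    rw [Scheme.Modules.map_smul, hk, ha', ← mul_smul, ← mul_smul, pow_add]
    congr 1
    ring

variable {R : CommRingCat.{u}}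

theorem moduleFinite_of_generatingSections (N : (Spec R).Modules) [N.IsQuasicoherent]
    (G : SheafOfModules.GeneratingSections.{u} N) [hG : G.IsFiniteType] :
    Module.Finite R ((modulesSpecToSheaf.obj N).presheaf.obj (.op ⊤)) := by
  let A := (modulesSpecToSheaf.obj N).presheaf.obj (.op ⊤)
  have : IsIso N.fromTildeΓ := @Scheme.Modules.isIso_fromTildeΓ_of_isQuasicoherent _ N ‹_›
  let eN : tilde A ≅ N := asIso N.fromTildeΓ
  let ψ : tilde (ModuleCat.of R (G.I →₀ R)) ⟶ tilde A :=
    (tildeFinsupp G.I).hom ≫ G.π ≫ eN.inv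
  have : Epi G.π := G.epi
  have : Epi ψ :=
    @epi_comp _ _ _ _ _ _ inferInstance _ (@epi_comp _ _ _ _ _ G.π G.epi eN.inv inferInstance)
  let f := (tilde.functor R).preimage ψ
  have : Epi ((tilde.functor R).map f) := by
    rw [Functor.map_preimage]; exact ‹Epi ψ›
  have : Epi f := (tilde.functor R).epi_of_epi_map this
  have hf : Function.Surjective f.hom := (ModuleCat.epi_iff_surjective f).1 this
  have : Finite G.I := hG.finite
  exact Module.Finite.of_surjective f.hom hf

/-- Linear equivalence between global sections of `M|_{Spec Γ(X,U)}` and sections on `U`. -/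
noncomputable def topLinearEquiv {U : X.Opens} (hU : IsAffineOpen U) (M : X.Modules) :
    ((modulesSpecToSheaf.obj (M.restrict hU.fromSpec)).presheaf.obj (.op ⊤)) ≃ₗ[Γ(X, U)] Γ(M, U) where
  __ := secIso hU M ⊤ (image_top hU)
  map_smul' g x := secIso_top_smul hU M g x

set_option backward.isDefEq.respectTransparency false in
/-- Finitely generated sections from a finite family of local generators. -/
theorem moduleFinite_of_generatingSections_restrict {U : X.Opens} (hU : IsAffineOpen U)
    (M : X.Modules) [M.IsQuasicoherent]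
    (G : SheafOfModules.GeneratingSections.{u} (M.restrict U.ι)) [G.IsFiniteType] :
    Module.Finite Γ(X, U) Γ(M, U) := by
  have : PreservesColimitsOfSize.{u, u} (restrictFunctor hU.isoSpec.inv) :=
    (restrictAdjunction _).leftAdjoint_preservesColimits
  let e : (M.restrict U.ι).restrict hU.isoSpec.inv ≅ M.restrict hU.fromSpec :=
    (restrictFunctorComp hU.isoSpec.inv U.ι).symm.app M
  let G' := (G.map (restrictFunctor hU.isoSpec.inv) (restrictUnitIso _).symm).ofEpi e.hom
  have := moduleFinite_of_generatingSections (M.restrict hU.fromSpec) G'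
  exact Module.Finite.equiv (topLinearEquiv hU M)

set_option backward.isDefEq.respectTransparency false in
/-- Sections over affine opens of a quasi-coherent module of finite type are finitely generated. -/
theorem moduleFinite_of_isFiniteType (M : X.Modules) [M.IsQuasicoherent]
    (hM : SheafOfModules.IsFiniteType.{u, u, u} (R := X.ringCatSheaf) M) {U : X.Opens}
    (hU : IsAffineOpen U) : Module.Finite Γ(X, U) Γ(M, U) := by
  obtain ⟨σ, hσ⟩ := hM.exists_localGeneratorsData
  refine moduleFinite_of_basicOpen_cover hU M fun x hx ↦ ?_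
  obtain ⟨i, hi⟩ := ((Opens.coversTop_iff _ σ.X).1 σ.coversTop).exists_mem x
  obtain ⟨g, hg, hxg⟩ := hU.exists_basicOpen_le ⟨x, hi⟩ hx
  refine ⟨g, hxg, ?_⟩
  let W := X.basicOpen g
  let u := X.homOfLE hg
  have : PreservesColimitsOfSize.{u, u} (restrictFunctor u) :=
    (restrictAdjunction _).leftAdjoint_preservesColimits
  let F := (overEquiv (σ.X i)).functor ⋙ restrictFunctor u
  have : PreservesColimitsOfSize.{u, u} (overEquiv (σ.X i)).functor :=
    (overEquiv (σ.X i)).toAdjunction.leftAdjoint_preservesColimits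
  have : PreservesColimitsOfSize.{u, u} F := comp_preservesColimits _ _
  let iso : SheafOfModules.overFunctor X.ringCatSheaf _ ⋙ F ≅ restrictFunctor W.ι :=
    (Functor.associator _ _ _).symm ≪≫
      Functor.isoWhiskerRight (overFunctorEquiv _) _ ≪≫
      (restrictFunctorComp _ _).symm ≪≫ (restrictFunctorCongr (by simp [u, W]))
  have := hσ.isFiniteType i
  exact moduleFinite_of_generatingSections_restrict (hU.basicOpen g) M
    (((σ.generators i).map F (restrictUnitIso _).symm).ofEpi (iso.app M).hom)

/-- A presentation of `M` on an affine open from generators and relations of its sections. -/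
noncomputable def presentationAffine {U : X.Opens} (hU : IsAffineOpen U) (M : X.Modules)
    [M.IsQuasicoherent]
    (s : Set ((modulesSpecToSheaf.obj (M.restrict hU.fromSpec)).presheaf.obj (.op ⊤)))
    (hs : Submodule.span Γ(X, U) s = ⊤) (t : Set (s →₀ Γ(X, U)))
    (ht : Submodule.span Γ(X, U) t = LinearMap.ker (Finsupp.linearCombination Γ(X, U)
      ((↑) : s → ((modulesSpecToSheaf.obj (M.restrict hU.fromSpec)).presheaf.obj (.op ⊤))))) :
    (M.restrict U.ι).Presentation :=
  SheafOfModules.Presentation.ofIsIso.{u, u, u}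
    (((restrictFunctorComp hU.isoSpec.hom hU.fromSpec).symm.app M) ≪≫
      (restrictFunctorCongr hU.isoSpec_hom_fromSpec).app M).hom
    (presentationRestrict hU.isoSpec.hom
      (@SheafOfModules.Presentation.ofIsIso.{u, u, u} _ _ _ _ _ _ _ _ (M.restrict hU.fromSpec).fromTildeΓ
        (Scheme.Modules.isIso_fromTildeΓ_of_isQuasicoherent _)
        (presentationTilde _ s hs t ht)))

set_option backward.isDefEq.respectTransparency false in
/-- Finite type from finitely generated sections on an affine cover. -/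
theorem isFiniteType_of_moduleFinite (M : X.Modules) [M.IsQuasicoherent] {ι : Type u}
    (U : ι → X.Opens) (hU : IsOpenCover U) (hA : ∀ i, IsAffineOpen (U i))
    (h : ∀ i, Module.Finite Γ(X, U i) Γ(M, U i)) :
    SheafOfModules.IsFiniteType.{u, u, u} (R := X.ringCatSheaf) M := by
  have hfin i := have := h i; Module.Finite.equiv (topLinearEquiv (hA i) M).symm
  choose s hs using fun i ↦ (hfin i).fg_top
  let P i := presentationAffine (hA i) M (s i) (hs i) _ (Submodule.span_eq _)
  have hP i : Finite (presentationOver (P i)).generators.I := (s i).finite_toSet.to_subtype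
  let σ : SheafOfModules.LocalGeneratorsData.{u} (R := X.ringCatSheaf) M :=
    { I := ι, X := U, coversTop := (Opens.coversTop_iff _ U).2 hU,
      generators := fun i ↦ (presentationOver (P i)).generators }
  have hσ : σ.IsFiniteType := by constructor; intro i; exact ⟨hP i⟩
  constructor
  exact ⟨σ, hσ⟩

/-- A quasi-coherent module is of finite type iff its sections on affine opens are finite. -/
theorem isFiniteType_iff_moduleFinite (M : X.Modules) [M.IsQuasicoherent] :
    SheafOfModules.IsFiniteType.{u, u, u} (R := X.ringCatSheaf) M ↔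
      ∀ U : X.Opens, IsAffineOpen U → Module.Finite Γ(X, U) Γ(M, U) :=
  ⟨fun h _ hU ↦ moduleFinite_of_isFiniteType M h hU, fun h ↦
    isFiniteType_of_moduleFinite M (fun U : X.affineOpens ↦ U.1) (iSup_affineOpens_eq_top X)
      (fun U ↦ U.2) fun U ↦ h U.1 U.2⟩

set_option backward.isDefEq.respectTransparency false in
/-- On a locally Noetherian scheme, quasi-coherent of finite type implies finite presentation. -/
theorem isFinitePresentation_of_isFiniteType [IsLocallyNoetherian X] (M : X.Modules)
    [M.IsQuasicoherent] (h : SheafOfModules.IsFiniteType.{u, u, u} (R := X.ringCatSheaf) M) :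
    SheafOfModules.IsFinitePresentation.{u, u, u} (R := X.ringCatSheaf) M := by
  let U : X.affineOpens → X.Opens := fun U ↦ U.1
  have hfin (i : X.affineOpens) :=
    have := moduleFinite_of_isFiniteType M h i.2
    Module.Finite.equiv (topLinearEquiv i.2 M).symm
  choose s hs using fun i ↦ (hfin i).fg_top
  have hker (i : X.affineOpens) : (LinearMap.ker (Finsupp.linearCombination Γ(X, i.1)
      (fun y : (s i : Set ((modulesSpecToSheaf.obj
        (M.restrict i.2.fromSpec)).presheaf.obj (.op ⊤))) ↦ y.1))).FG :=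
    have : IsNoetherianRing Γ(X, i.1) := IsLocallyNoetherian.component_noetherian i
    IsNoetherian.noetherian _
  choose t ht using hker
  let P i := presentationAffine i.2 M (s i) (hs i) (t i) (ht i)
  have hs' i : Finite (presentationOver (P i)).generators.I := (s i).finite_toSet.to_subtype
  have ht' i : Finite (presentationOver (P i)).relations.I := (t i).finite_toSet.to_subtype
  let q : SheafOfModules.QuasicoherentData.{u} (R := X.ringCatSheaf) M :=
    { I := X.affineOpens, X := U,
      coversTop := (Opens.coversTop_iff _ U).2 (iSup_affineOpens_eq_top X),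
      presentation := fun i ↦ presentationOver (P i) }
  have hq : q.IsFinitePresentation := by constructor; intro i; exact ⟨⟨hs' i⟩, ⟨ht' i⟩⟩
  constructor
  exact ⟨q, hq⟩

end GrothLib.QCoh
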