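import Groth.Agent.Lib.QCoh.FT
import Groth.Agent.Lib.WeakAss.Basic
import Groth.Prelude.Def_CohB1
import Mathlib.RingTheory.Support

/-!
# Supports of modules
-/

universe u

open CategoryTheory CategoryTheory.Limits Opposite TopologicalSpace AlgebraicGeometry
open AlgebraicGeometry.Scheme.Modules

namespace GrothLib.QCoh

variable {X : Scheme.{u}}

theorem notMem_support_iff (M : X.Modules) (x : X) :
    x ∉ CohB1.support M ↔
      ∀ (V : X.Opens) (hx : x ∈ V) (z : Γ(M, V)), M.presheaf.germ V x hx z = 0 := by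
  simp only [CohB1.support, Set.mem_setOf_eq, not_not]
  refine ⟨fun h V hx z ↦ Subsingleton.elim _ _, fun h ↦ subsingleton_of_forall_eq 0 fun m ↦ ?_⟩
  obtain ⟨V, hx, z, rfl⟩ := TopCat.Presheaf.exists_germ_eq M.presheaf m
  exact h V hx z

theorem notMem_support_of_forall_subsingleton (M : X.Modules) {W : X.Opens}
    (h : ∀ V ≤ W, Subsingleton Γ(M, V)) {x : X} (hx : x ∈ W) : x ∉ CohB1.support M := by
  rw [notMem_support_iff]
  intro V hV z
  have := h (V ⊓ W) inf_le_right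
  rw [← TopCat.Presheaf.germ_res_apply M.presheaf (homOfLE (inf_le_left : V ⊓ W ≤ V)) x ⟨hV, hx⟩ z,
    Subsingleton.elim (M.presheaf.map (homOfLE (inf_le_left : V ⊓ W ≤ V)).op z) 0, map_zero]

/-- Local generators on a neighbourhood. -/
theorem exists_generatingSections_restrict (M : X.Modules)
    (hM : SheafOfModules.IsFiniteType.{u, u, u} (R := X.ringCatSheaf) M) (x : X) :
    ∃ (W : X.Opens) (G : SheafOfModules.GeneratingSections.{u} (M.restrict W.ι)),
      x ∈ W ∧ G.IsFiniteType := by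
  obtain ⟨σ, hσ⟩ := hM.exists_localGeneratorsData
  obtain ⟨i, hi⟩ := ((Opens.coversTop_iff _ σ.X).1 σ.coversTop).exists_mem x
  have : PreservesColimitsOfSize.{u, u} (overEquiv (σ.X i)).functor :=
    (overEquiv (σ.X i)).toAdjunction.leftAdjoint_preservesColimits
  let iso : SheafOfModules.overFunctor X.ringCatSheaf _ ⋙ (overEquiv (σ.X i)).functor ≅
      restrictFunctor (Scheme.Opens.ι (σ.X i)) := overFunctorEquiv _
  have := hσ.isFiniteType i
  let η : SheafOfModules.unit ((σ.X i : Scheme.{u})).ringCatSheaf ≅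
      (overEquiv (σ.X i)).functor.obj (SheafOfModules.unit (X.ringCatSheaf.over (σ.X i))) :=
    (restrictUnitIso (Scheme.Opens.ι (σ.X i))).symm ≪≫ ((overFunctorEquiv (σ.X i)).app _).symm
  exact ⟨σ.X i, ((σ.generators i).map (overEquiv (σ.X i)).functor η).ofEpi (iso.app M).hom, hi,
    inferInstance⟩

theorem restrict_map_apply {Y : Scheme.{u}} (j : Y ⟶ X) [IsOpenImmersion j] (M : X.Modules)
    {V W : Y.Opens} (h : V ≤ W) (t : Γ(M, j ''ᵁ W)) :
    (M.restrict j).presheaf.map (homOfLE h).op t =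
      M.presheaf.map (homOfLE (j.image_mono h)).op t := rfl

/-- Morphisms out of a module with generators vanish if they kill the generators. -/
theorem eq_zero_of_generatingSections {Y : Scheme.{u}} {N P : Y.Modules}
    (G : SheafOfModules.GeneratingSections.{u} N) (η : N ⟶ P)
    (h : ∀ j (V : Y.Opens), η.app V ((G.s j).val (op V)) = 0) : η = 0 := by
  have : Epi G.π := G.epi
  refine (cancel_epi G.π).1 (Eq.trans ?_ comp_zero.symm)
  refine Cofan.IsColimit.hom_ext (SheafOfModules.isColimitFreeCofan G.I) _ _ fun j ↦ ?_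
  rw [SheafOfModules.freeCofan_inj]
  refine Eq.trans ?_ (comp_zero (f := SheafOfModules.ιFree (R := Y.ringCatSheaf) j)).symm
  refine (Category.assoc _ _ _).symm.trans ?_
  have hπ : N.freeHomEquiv G.π j = G.s j :=
    congrFun (N.freeHomEquiv.apply_symm_apply G.s) j
  have hπ' : SheafOfModules.ιFree j ≫ G.π =
      (SheafOfModules.unitHomEquiv (R := Y.ringCatSheaf) N).symm (G.s j) :=
    (SheafOfModules.unitHomEquiv_symm_freeHomEquiv_apply G.π j).symm.trans
      (congrArg (SheafOfModules.unitHomEquiv N).symm hπ)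
  refine (congrArg (fun t ↦ t ≫ η) hπ').trans ?_
  apply (SheafOfModules.unitHomEquiv _).injective
  refine Subtype.ext (funext fun V ↦ ?_)
  exact (congrArg (fun s ↦ η.val.app V (s.val V))
    ((SheafOfModules.unitHomEquiv (R := Y.ringCatSheaf) N).apply_symm_apply (G.s j))).trans
      (h j V.unop)

/-- If the germs of finitely many generators vanish at `x`, the module vanishes near `x`. -/
theorem exists_nhd_of_notMem_support (M : X.Modules)
    (hM : SheafOfModules.IsFiniteType.{u, u, u} (R := X.ringCatSheaf) M) {x : X}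
    (hx : x ∉ CohB1.support M) : ∃ W : X.Opens, x ∈ W ∧ ∀ V ≤ W, Subsingleton Γ(M, V) := by
  obtain ⟨U, G, hxU, hG⟩ := exists_generatingSections_restrict M hM x
  have : Finite G.I := hG.finite
  let N := M.restrict U.ι
  let xU : (U : Scheme.{u}) := ⟨x, hxU⟩
  let t : G.I → Γ(M, U.ι ''ᵁ ⊤) := fun j ↦ (G.s j).val (op ⊤)
  have hxi : x ∈ U.ι ''ᵁ ⊤ := ⟨xU, trivial, rfl⟩
  have h0 : ∀ j, ∃ (W : X.Opens) (i : W ⟶ U.ι ''ᵁ ⊤), x ∈ W ∧ M.presheaf.map i.op (t j) = 0 := fun j ↦ by
    obtain ⟨W, hW, i₁, i₂, e⟩ := TopCat.Presheaf.germ_eq M.presheaf x hxi hxi (t j) 0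
      (((notMem_support_iff M x).1 hx _ hxi (t j)).trans (map_zero _).symm)
    exact ⟨W, i₁, hW, by rw [e, map_zero]⟩
  choose W i hxW hW using h0
  let W₀ : X.Opens := ⟨(⋂ j, (W j : Set X)) ∩ (U.ι ''ᵁ ⊤ : X.Opens),
    (isOpen_iInter_of_finite fun j ↦ (W j).isOpen).inter (U.ι ''ᵁ ⊤).isOpen⟩
  refine ⟨W₀, ⟨Set.mem_iInter.2 hxW, hxi⟩, fun V hV ↦ ?_⟩
  let W' : (U : Scheme.{u}).Opens := U.ι ⁻¹ᵁ W₀
  let η := (restrictAdjunction W'.ι).unit.app N
  have hη : η = 0 := eq_zero_of_generatingSections G η fun j V' ↦ by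
    rw [restrictAdjunction_unit_app_app]
    have e : (G.s j).val (op V') = N.presheaf.map (homOfLE le_top).op ((G.s j).val (op ⊤)) :=
      ((G.s j).property (homOfLE (le_top (a := V'))).op).symm
    have hle : U.ι ''ᵁ (W'.ι ''ᵁ (W'.ι ⁻¹ᵁ V')) ≤ W j := by
      rintro _ ⟨y, ⟨z, -, rfl⟩, rfl⟩
      exact Set.mem_iInter.1 z.2.1 j
    have h1 := congrArg (M.presheaf.map (homOfLE hle).op) (hW j)
    rw [map_zero, Cohom.map_map_apply] at h1
    rw [e]
    refine (Cohom.map_map_apply N _ _ (t j)).trans ?_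
    exact (restrict_map_apply U.ι M _ (t j)).trans h1
  refine subsingleton_of_forall_eq 0 fun z ↦ ?_
  have hVeq : U.ι ''ᵁ (W'.ι ''ᵁ (W'.ι ⁻¹ᵁ (U.ι ⁻¹ᵁ V))) = V := by
    rw [Scheme.Hom.image_preimage_eq_opensRange_inf, Scheme.Opens.opensRange_ι,
      inf_eq_right.2 (show U.ι ⁻¹ᵁ V ≤ W' from U.ι.preimage_mono hV),
      Scheme.Hom.image_preimage_eq_opensRange_inf, Scheme.Opens.opensRange_ι, inf_eq_right]
    exact fun y hy ↦ by obtain ⟨y', -, rfl⟩ := (hV hy).2; exact y'.2
  have h2 : ∀ w : Γ(N, U.ι ⁻¹ᵁ V), η.app (U.ι ⁻¹ᵁ V) w = 0 := fun w ↦ by rw [hη]; rfl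
  have h3 := h2 (M.presheaf.map (homOfLE (U.ι.image_preimage_le V)).op z)
  rw [restrictAdjunction_unit_app_app] at h3
  replace h3 := (restrict_map_apply U.ι M (W'.ι.image_preimage_le (U.ι ⁻¹ᵁ V)) _).symm.trans h3
  erw [Cohom.map_map_apply] at h3
  have h4 := congrArg (M.presheaf.map (homOfLE hVeq.ge).op) h3
  replace h4 := (Cohom.map_map_apply M _ _ z).symm.trans (h4.trans (map_zero _))
  erw [Cohom.map_self_apply] at h4
  exact h4

theorem isClosed_support (M : X.Modules)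
    (hM : SheafOfModules.IsFiniteType.{u, u, u} (R := X.ringCatSheaf) M) :
    IsClosed (CohB1.support M) := by
  refine ⟨isOpen_iff_forall_mem_open.2 fun x hx ↦ ?_⟩
  obtain ⟨W, hxW, hW⟩ := exists_nhd_of_notMem_support M hM hx
  exact ⟨W, fun y hy ↦ notMem_support_of_forall_subsingleton M hW hy, W.isOpen, hxW⟩

/-- The support on an affine open is the support of the module of sections. -/
theorem mem_support_iff_primeAt (M : X.Modules) [M.IsQuasicoherent] {U : X.Opens}
    (hU : IsAffineOpen U) {x : X} (hx : x ∈ U) :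
    x ∈ CohB1.support M ↔
      ⟨WeakAss.primeAt x hx, inferInstance⟩ ∈ Module.support Γ(X, U) Γ(M, U) := by
  rw [Module.mem_support_iff']
  constructor
  · intro h
    by_contra hc
    refine absurd h ((notMem_support_iff M x).2 fun V hxV z ↦ ?_)
    obtain ⟨c, w, hcp, hw⟩ := WeakAss.exists_smul_eq_germ hU hx (M.presheaf.germ V x hxV z)
    have hu : IsUnit (X.presheaf.germ U x hx c) :=
      (Scheme.mem_basicOpen _ c x hx).mp (WeakAss.notMem_primeAt_iff.mp hcp)
    refine hu.smul_eq_zero.mp (hw.trans ((WeakAss.germ_eq_zero_iff hU hx w).2 ?_))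
    by_contra hne
    exact hc ⟨w, fun r hr h ↦ hne ⟨r, hr, h⟩⟩
  · rintro ⟨m, hm⟩
    by_contra h
    obtain ⟨r, hr, hrm⟩ := (WeakAss.germ_eq_zero_iff hU hx m).1 ((notMem_support_iff M x).1 h _ hx m)
    exact hm r hr hrm

theorem primeAt_eq_primeIdealOf {U : X.Opens}
    (hU : IsAffineOpen U) {x : X} (hx : x ∈ U) :
    (⟨WeakAss.primeAt x hx, inferInstance⟩ : PrimeSpectrum Γ(X, U)) = hU.primeIdealOf ⟨x, hx⟩ := by
  apply PrimeSpectrum.ext
  have h := hU.fromSpec_primeIdealOf ⟨x, hx⟩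
  have hm : hU.fromSpec (hU.primeIdealOf ⟨x, hx⟩) ∈ U := h.symm ▸ hx
  refine Eq.trans ?_ (WeakAss.primeAt_fromSpec hU (hU.primeIdealOf ⟨x, hx⟩) hm)
  have key : ∀ (y : X) (hy : y ∈ U), y = x → WeakAss.primeAt x hx = WeakAss.primeAt y hy := by
    rintro y hy rfl; rfl
  exact key _ hm h

theorem stableUnderSpecialization_support (M : X.Modules) [M.IsQuasicoherent] :
    StableUnderSpecialization (CohB1.support M) := by
  intro x y hxy hx
  obtain ⟨U, hU, hyU, -⟩ := Opens.isBasis_iff_nbhd.1 X.isBasis_affineOpens (Opens.mem_top y)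
  have hxU : x ∈ U := hxy.mem_open U.isOpen hyU
  rw [mem_support_iff_primeAt M hU hxU] at hx
  rw [mem_support_iff_primeAt M hU hyU]
  refine Module.mem_support_mono ?_ hx
  show WeakAss.primeAt x hxU ≤ WeakAss.primeAt y hyU
  intro r hr
  by_contra hry
  exact (WeakAss.notMem_primeAt_iff.2
    (hxy.mem_open (X.basicOpen r).isOpen (WeakAss.notMem_primeAt_iff.1 hry))) hr

end GrothLib.QCoh
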