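import Groth.Agent.Lib.QCoh.StalkPullback
import Groth.Agent.Lib.QCoh.Support
import Groth.Agent.Lib.QCoh.Qcqs
import Groth.Agent.Lib.Cohom.Basic
import Groth.Prelude.Def_ClSub2
import Mathlib.AlgebraicGeometry.Morphisms.ClosedImmersion

/-!
# Modules killed by the ideal of a closed immersion are direct images
-/

universe u

open CategoryTheory CategoryTheory.Limits Opposite AlgebraicGeometry TopologicalSpace
open scoped TensorProduct

namespace GrothLib.QCoh

variable {X Z : Scheme.{u}} (f : Z ⟶ X)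

/-- The comparison `(f_* N)_{f y} ⟶ N_y`. -/
noncomputable def pushStalkHom (y : Z) (N : Z.Modules) :
    (OX.stalk (f y)).obj ((Scheme.Modules.pushforward f).obj N) ⟶
      (ModuleCat.restrictScalars (f.stalkMap y).hom).obj ((OX.stalk y).obj N) :=
  ((OX.stalkSkyAdj (f y)).homEquiv _ _).symm
    ((Scheme.Modules.pushforward f).map ((OX.stalkSkyAdj y).unit.app N) ≫
      (skyPushIso f y).hom.app ((OX.stalk y).obj N))

theorem pushStalkHom_germ (y : Z) (N : Z.Modules) (V : X.Opens) (hy : f y ∈ V)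
    (s : Γ(N, f ⁻¹ᵁ V)) :
    (pushStalkHom f y N).hom (OX.germ ((Scheme.Modules.pushforward f).obj N).val V hy s) =
      OX.germ N.val (f ⁻¹ᵁ V) hy s :=
  congrArg (fun k : (Scheme.Modules.pushforward f).obj N ⟶
      (OX.sky (f y)).obj ((ModuleCat.restrictScalars (f.stalkMap y).hom).obj ((OX.stalk y).obj N)) ↦
      (k.val.app (op V) s : OX.SkySec (f y) _ (op V)) ⟨hy⟩)
    (((OX.stalkSkyAdj (f y)).homEquiv _ _).apply_symm_apply
      ((Scheme.Modules.pushforward f).map ((OX.stalkSkyAdj y).unit.app N) ≫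
        (skyPushIso f y).hom.app ((OX.stalk y).obj N)))

theorem pushStalkHom_bijective (y : Z) (N : Z.Modules)
    (hf : Topology.IsInducing f.base) :
    Function.Bijective (pushStalkHom f y N).hom := by
  refine ⟨(injective_iff_map_eq_zero (pushStalkHom f y N).hom).2 fun e he ↦ ?_, fun e ↦ ?_⟩
  · obtain ⟨V, hV, s, rfl⟩ := OX.germ_exists ((Scheme.Modules.pushforward f).obj N).val e
    have he : OX.germ N.val (f ⁻¹ᵁ V) hV s = 0 := (pushStalkHom_germ f y N V hV s).symm.trans he
    obtain ⟨W, hyW, i₁, i₂, h⟩ := TopCat.Presheaf.germ_eq N.presheaf y (U := f ⁻¹ᵁ V) (V := f ⁻¹ᵁ V) hV hV s 0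
      (he.trans (map_zero _).symm)
    obtain ⟨O, hO, hOW⟩ := hf.isOpen_iff.1 W.isOpen
    let O' : X.Opens := ⟨O, hO⟩
    have hWO : f ⁻¹ᵁ O' = W := Opens.ext hOW
    have hle : O' ⊓ V ≤ V := inf_le_right
    rw [← OX.germ_map _ (homOfLE hle) ⟨(hWO.symm ▸ hyW : y ∈ f ⁻¹ᵁ O'), hV⟩ s]
    have hle' : f ⁻¹ᵁ (O' ⊓ V) ≤ W := fun z hz ↦ hWO ▸ hz.1
    have h0 : N.presheaf.map (homOfLE hle').op (N.presheaf.map i₁.op s) = 0 := by
      rw [h, map_zero, map_zero]
    replace h0 := (Cohom.map_map_apply N i₁ (homOfLE hle') s).symm.trans h0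
    refine Eq.trans (congrArg (OX.germ _ _ _) ?_) (map_zero _)
    exact h0
  · obtain ⟨W, hyW, t, rfl⟩ := OX.germ_exists N.val e
    obtain ⟨O, hO, hOW⟩ := hf.isOpen_iff.1 W.isOpen
    let O' : X.Opens := ⟨O, hO⟩
    have hWO : f ⁻¹ᵁ O' = W := Opens.ext hOW
    refine ⟨OX.germ ((Scheme.Modules.pushforward f).obj N).val O' (hWO.symm ▸ hyW : y ∈ f ⁻¹ᵁ O')
      (N.presheaf.map (homOfLE hWO.le).op t), ?_⟩
    exact (pushStalkHom_germ f y N O' _ _).trans (OX.germ_map N.val (homOfLE hWO.le) _ t)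

theorem unit_stalk_comp (y : Z) (F : X.Modules) :
    (OX.stalk (f y)).map ((Scheme.Modules.pullbackPushforwardAdjunction f).unit.app F) ≫
      pushStalkHom f y ((Scheme.Modules.pullback f).obj F) ≫
      (ModuleCat.restrictScalars (f.stalkMap y).hom).map ((stalkPullbackIso f y).hom.app F) =
    (ModuleCat.extendRestrictScalarsAdj (f.stalkMap y).hom).unit.app ((OX.stalk (f y)).obj F) := by
  have h := Adjunction.unit_leftAdjointUniq_hom_app
    ((Scheme.Modules.pullbackPushforwardAdjunction f).comp (OX.stalkSkyAdj y))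
    (((OX.stalkSkyAdj (f y)).comp
      (ModuleCat.extendRestrictScalarsAdj (f.stalkMap y).hom)).ofNatIsoRight (skyPushIso f y).symm) F
  apply ((OX.stalkSkyAdj (f y)).homEquiv _ _).injective
  rw [Adjunction.homEquiv_naturality_left, Adjunction.homEquiv_naturality_right, pushStalkHom]
  erw [Equiv.apply_symm_apply]
  have h' := h =≫ (skyPushIso f y).hom.app
    ((ModuleCat.extendScalars (f.stalkMap y).hom).obj ((OX.stalk (f y)).obj F))
  simp only [Adjunction.comp_unit_app, Functor.comp_map, Category.assoc] at h'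
  have nat := (skyPushIso f y).hom.naturality ((stalkPullbackIso f y).hom.app F)
  simp only [Functor.comp_map] at nat
  refine Eq.trans ?_ (h'.trans ?_)
  · simp only [Category.assoc]
    exact congrArg (_ ≫ ·) (congrArg (_ ≫ ·) nat.symm)
  · rw [Adjunction.homEquiv_unit]
    simp only [Adjunction.ofNatIsoRight]
    exact (Category.assoc _ _ _).trans
      ((congrArg (_ ≫ ·) (Iso.inv_hom_id_app (skyPushIso f y) _)).trans (Category.comp_id _))

section Closed

variable [IsClosedImmersion f]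

/-- Elements of the kernel on stalks of a closed immersion kill a module killed by the ideal. -/
theorem smul_eq_zero_of_killed (F : X.Modules) [F.IsQuasicoherent]
    (hk : ClSub.KilledByIdeal f.ker F) (y : Z) (r : X.presheaf.stalk (f y))
    (hr : (f.stalkMap y).hom r = 0) (m : F.presheaf.stalk (f y)) : r • m = 0 := by
  obtain ⟨V, hVA, hyV, -⟩ := Opens.isBasis_iff_nbhd.1 X.isBasis_affineOpens
    (Opens.mem_top (f y))
  let algX : Algebra Γ(X, V) (X.presheaf.stalk (f y)) :=
    TopCat.Presheaf.algebra_section_stalk X.presheaf (⟨f y, hyV⟩ : V)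
  have hlocX : IsLocalization.AtPrime (X.presheaf.stalk (f y))
      (hVA.primeIdealOf ⟨f y, hyV⟩).asIdeal := hVA.isLocalization_stalk ⟨f y, hyV⟩
  have hW : IsAffineOpen (f ⁻¹ᵁ V) := hVA.preimage f
  let algZ : Algebra Γ(Z, f ⁻¹ᵁ V) (Z.presheaf.stalk y) :=
    TopCat.Presheaf.algebra_section_stalk Z.presheaf (⟨y, hyV⟩ : (f ⁻¹ᵁ V : Z.Opens))
  have hlocZ : IsLocalization.AtPrime (Z.presheaf.stalk y)
      (hW.primeIdealOf ⟨y, hyV⟩).asIdeal := hW.isLocalization_stalk ⟨y, hyV⟩
  obtain ⟨a, s, rfl⟩ := IsLocalization.exists_mk'_eq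
    (hVA.primeIdealOf ⟨f y, hyV⟩).asIdeal.primeCompl r
  have ha0 : (f.stalkMap y).hom (X.presheaf.germ V _ hyV a) = 0 := by
    have := congrArg (f.stalkMap y).hom
      (IsLocalization.mk'_spec (X.presheaf.stalk (f y)) a s)
    rw [map_mul, hr, zero_mul] at this
    exact this.symm
  have ha : Z.presheaf.germ (f ⁻¹ᵁ V) y hyV (f.app V a) = 0 := by
    rw [← Scheme.Hom.germ_stalkMap_apply]
    exact ha0
  obtain ⟨⟨t, ht⟩, hta⟩ := (IsLocalization.map_eq_zero_iff
    (hW.primeIdealOf ⟨y, hyV⟩).asIdeal.primeCompl (Z.presheaf.stalk y) (f.app V a)).mp ha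
  obtain ⟨t', rfl⟩ := f.app_surjective V hVA t
  have hmem : t' * a ∈ f.ker.ideal ⟨V, hVA⟩ := by
    rw [Scheme.Hom.ker_apply, RingHom.mem_ker, map_mul]
    exact hta
  have hu : IsUnit (X.presheaf.germ V _ hyV t') := by
    apply (isUnit_map_iff (f.stalkMap y).hom _).mp
    have h1 := IsLocalization.map_units (Z.presheaf.stalk y)
      (⟨_, ht⟩ : (hW.primeIdealOf ⟨y, hyV⟩).asIdeal.primeCompl)
    erw [Scheme.Hom.germ_stalkMap_apply]
    exact h1
  obtain ⟨c, z, hc, hz⟩ := WeakAss.exists_smul_eq_germ hVA hyV m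
  have hcu : IsUnit (X.presheaf.germ V _ hyV c) :=
    (Scheme.mem_basicOpen _ c _ hyV).mp (WeakAss.notMem_primeAt_iff.mp hc)
  refine hcu.smul_eq_zero.mp (hu.smul_eq_zero.mp ?_)
  rw [smul_comm (X.presheaf.germ V _ hyV c), hz, smul_smul, IsLocalization.mk'_eq_mul_mk'_one,
    ← mul_assoc, mul_comm _ (IsLocalization.mk' _ 1 s), mul_smul,
    show algebraMap Γ(X, V) (X.presheaf.stalk (f y)) a = X.presheaf.germ V _ hyV a from rfl,
    ← map_mul, ← WeakAss.germ_smul]
  rw [show (t' * a) • z = 0 from hk ⟨V, hVA⟩ _ hmem z, map_zero, smul_zero]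

/-- The range of the unit map is everything when the module is killed by the ideal. -/
theorem extendScalars_unit_bijective {R S : Type u} [CommRing R] [CommRing S] (φ : R →+* S)
    (hφ : Function.Surjective φ) (M : ModuleCat.{u} R) (hM : ∀ r, φ r = 0 → ∀ m : M, r • m = 0) :
    Function.Bijective ((ModuleCat.extendRestrictScalarsAdj φ).unit.app M) := by
  algebraize [φ]
  constructor
  · have hJ : ∀ r ∈ RingHom.ker φ, ∀ m : M, r • m = 0 := fun r hr ↦ hM r hr
    let _ : Module (R ⧸ RingHom.ker φ) M := Module.IsTorsionBySet.module (fun m r ↦ hJ r.1 r.2 m)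
    let _ : Module S M := Module.compHom M (φ.quotientKerEquivOfSurjective hφ).symm.toRingHom
    have hrm : ∀ (r : R) (m : M), φ r • m = r • m := fun r m ↦ by
      have e : (φ.quotientKerEquivOfSurjective hφ).symm (φ r) = Ideal.Quotient.mk _ r :=
        (φ.quotientKerEquivOfSurjective hφ).symm_apply_eq.2 rfl
      change ((φ.quotientKerEquivOfSurjective hφ).symm (φ r)) • m = r • m
      rw [e]
      rfl
    let μ : S →ₗ[R] M →ₗ[R] M :=
      LinearMap.mk₂ R (fun s m ↦ s • m) (fun s s' m ↦ add_smul s s' m)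
        (fun r s m ↦ by
          change (φ r * s) • m = r • s • m
          rw [mul_smul, hrm])
        (fun s m m' ↦ smul_add s m m')
        (fun r s m ↦ by rw [← hrm, smul_smul, mul_comm, mul_smul, hrm])
    intro m m' h
    have := congrArg (TensorProduct.lift μ) (show (1 : S) ⊗ₜ[R] m = (1 : S) ⊗ₜ[R] m' from h)
    simpa [μ] using this
  · intro t
    induction t using TensorProduct.induction_on with
    | zero => exact ⟨0, map_zero _⟩
    | tmul s m =>
      obtain ⟨r, rfl⟩ := hφ s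
      refine ⟨r • m, ?_⟩
      change (1 : S) ⊗ₜ[R] (r • m) = φ r ⊗ₜ[R] m
      rw [← TensorProduct.smul_tmul, Algebra.smul_def, mul_one]
      rfl
    | add a b ha hb =>
      obtain ⟨a', rfl⟩ := ha
      obtain ⟨b', rfl⟩ := hb
      exact ⟨a' + b', map_add _ _ _⟩

/-- A module killed by the ideal of a closed immersion has support in the image. -/
theorem support_subset_range (F : X.Modules) (hk : ClSub.KilledByIdeal f.ker F) :
    CohB1.support F ⊆ Set.range f := by
  intro x hx
  by_contra hxf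
  refine absurd hx ((notMem_support_iff F x).2 fun V hV z ↦ ?_)
  let O : X.Opens := ⟨(Set.range f)ᶜ, f.isClosedEmbedding.isClosed_range.isOpen_compl⟩
  obtain ⟨W, hWA, hxW, hWV⟩ := Opens.isBasis_iff_nbhd.1 X.isBasis_affineOpens
    (show x ∈ V ⊓ O from ⟨hV, hxf⟩)
  have h1 : (1 : Γ(X, W)) ∈ f.ker.ideal ⟨W, hWA⟩ := by
    rw [Scheme.Hom.ker_apply, RingHom.mem_ker]
    have : f ⁻¹ᵁ W = ⊥ := le_antisymm (fun y hy ↦ ((hWV hy).2 ⟨y, rfl⟩).elim) bot_le
    have : Subsingleton Γ(Z, f ⁻¹ᵁ W) := by rw [this]; infer_instance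
    exact Subsingleton.elim _ _
  rw [← TopCat.Presheaf.germ_res_apply F.presheaf (homOfLE (hWV.trans inf_le_left)) x hxW z,
    show F.presheaf.map (homOfLE (hWV.trans inf_le_left)).op z = 0 from
      (one_smul Γ(X, W) _).symm.trans (hk ⟨W, hWA⟩ 1 h1 _), map_zero]

theorem support_pushforward_subset_range (N : Z.Modules) :
    CohB1.support ((Scheme.Modules.pushforward f).obj N) ⊆ Set.range f := by
  intro x hx
  by_contra hxf
  let O : X.Opens := ⟨(Set.range f)ᶜ, f.isClosedEmbedding.isClosed_range.isOpen_compl⟩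
  refine absurd hx (notMem_support_of_forall_subsingleton _ (W := O) (fun V hV ↦ ?_) hxf)
  have : f ⁻¹ᵁ V = ⊥ := le_antisymm (fun y hy ↦ ((hV hy) ⟨y, rfl⟩).elim) bot_le
  change Subsingleton Γ(N, f ⁻¹ᵁ V)
  rw [this]
  exact Cohom.subsingleton_sections_bot (Coh.toAb N)

/-- The unit is an isomorphism on modules killed by the ideal. -/
theorem isIso_unit_of_killed (F : X.Modules) [F.IsQuasicoherent]
    (hk : ClSub.KilledByIdeal f.ker F) :
    IsIso ((Scheme.Modules.pullbackPushforwardAdjunction f).unit.app F) := by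
  refine (OX.isIso_iff _).2 fun x ↦ (ConcreteCategory.isIso_iff_bijective _).2 ?_
  by_cases hx : x ∈ Set.range f
  · obtain ⟨y, rfl⟩ := hx
    have hb := extendScalars_unit_bijective (f.stalkMap y).hom (f.stalkMap_surjective y)
      ((OX.stalk (f y)).obj F) (fun r hr m ↦ smul_eq_zero_of_killed f F hk y r hr m)
    rw [← unit_stalk_comp f y F] at hb
    have h2 : Function.Bijective
        ((pushStalkHom f y ((Scheme.Modules.pullback f).obj F)) ≫
          (ModuleCat.restrictScalars (f.stalkMap y).hom).map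
            ((stalkPullbackIso f y).hom.app F)).hom :=
      ((ConcreteCategory.isIso_iff_bijective ((ModuleCat.restrictScalars (f.stalkMap y).hom).map
        ((stalkPullbackIso f y).hom.app F))).1 inferInstance).comp
        (pushStalkHom_bijective f y _ f.isClosedEmbedding.isInducing)
    exact (Function.Bijective.of_comp_iff' h2 _).1 hb
  · have h₁ : Subsingleton ((OX.stalk x).obj F) :=
      not_not.1 fun h ↦ hx (support_subset_range f F hk h)
    have h₂ : Subsingleton ((OX.stalk x).obj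
        ((Scheme.Modules.pushforward f).obj ((Scheme.Modules.pullback f).obj F))) :=
      not_not.1 fun h ↦ hx (support_pushforward_subset_range f _ h)
    exact ⟨fun _ _ _ ↦ @Subsingleton.elim _ h₁ _ _, fun b ↦ ⟨0, @Subsingleton.elim _ h₂ _ _⟩⟩

end Closed

end GrothLib.QCoh

namespace GrothLib.QCoh

variable {X Z : Scheme.{u}} (f : Z ⟶ X) [IsClosedImmersion f]

omit [IsClosedImmersion f] in
theorem isOpenCover_preimage_affineOpens :
    IsOpenCover (fun V : X.affineOpens ↦ f ⁻¹ᵁ V.1) :=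
  IsOpenCover.comap (iSup_affineOpens_eq_top X) f.base.hom

/-- A module on `Z` whose direct image under a closed immersion is quasi-coherent is
quasi-coherent. -/
theorem isQuasicoherent_of_pushforward (N : Z.Modules)
    [((Scheme.Modules.pushforward f).obj N).IsQuasicoherent] : N.IsQuasicoherent := by
  refine isQuasicoherent_of_smulLift_of_smulSep N (fun V : X.affineOpens ↦ f ⁻¹ᵁ V.1)
    (isOpenCover_preimage_affineOpens f) (fun V ↦ V.2.preimage f) fun V g ↦ ?_
  obtain ⟨g, rfl⟩ := f.app_surjective V.1 V.2 g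
  obtain ⟨hl, hs⟩ := smulLift_and_smulSep_of_isAffineOpen V.2 ((Scheme.Modules.pushforward f).obj N) g
  have hb : f ⁻¹ᵁ X.basicOpen g = Z.basicOpen (f.app V.1 g) := Scheme.preimage_basicOpen f g
  refine ⟨fun s ↦ ?_, fun t ht ↦ ?_⟩
  · obtain ⟨n, t, ht⟩ := hl (N.presheaf.map (homOfLE hb.le).op s)
    refine ⟨n, t, ?_⟩
    have := congrArg (N.presheaf.map (homOfLE hb.ge).op) ht
    erw [Cohom.map_map_apply] at this
    refine this.trans ?_
    rw [← map_pow, ← map_pow]
    erw [N.map_smul]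
    rw [Cohom.map_map_apply, Cohom.map_self_apply]
    congr 1
    change (f.app (X.basicOpen g) ≫ Z.presheaf.map (homOfLE hb.ge).op)
      (X.presheaf.map (homOfLE (X.basicOpen_le g)).op (g ^ n)) = _
    rw [← ConcreteCategory.comp_apply, ← Category.assoc, Scheme.Hom.naturality, Category.assoc,
      ← Functor.map_comp, map_pow, map_pow]
    rfl
  · have hle : f ⁻¹ᵁ X.basicOpen g ≤ Z.basicOpen (f.app V.1 g) := hb.le
    have h0 : N.presheaf.map (homOfLE (f.preimage_mono (X.basicOpen_le g))).op t = 0 := by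
      have := congrArg (N.presheaf.map (homOfLE hle).op) ht
      rwa [Cohom.map_map_apply, map_zero] at this
    obtain ⟨n, hn⟩ := hs t h0
    refine ⟨n, Eq.trans ?_ hn⟩
    change f.app V.1 g ^ n • t = f.app V.1 (g ^ n) • (show Γ(N, f ⁻¹ᵁ V.1) from t)
    rw [map_pow]

/-- A module on `Z` whose direct image under a closed immersion is coherent is coherent. -/
theorem isCoh_of_pushforward (N : Z.Modules) (h : Coh.IsCoh ((Scheme.Modules.pushforward f).obj N)) :
    Coh.IsCoh N := by
  have := h.1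
  have := isQuasicoherent_of_pushforward f N
  refine ⟨this, isFiniteType_of_moduleFinite N _ (isOpenCover_preimage_affineOpens f)
    (fun V ↦ V.2.preimage f) fun V ↦ ?_⟩
  obtain ⟨s, hs⟩ :=
    (moduleFinite_of_isFiniteType ((Scheme.Modules.pushforward f).obj N) h.2 V.2).fg_top
  suffices h' : ∀ m, m ∈ Submodule.span Γ(Z, f ⁻¹ᵁ V.1) ((id (α := Finset Γ(N, f ⁻¹ᵁ V.1)) s : Finset Γ(N, f ⁻¹ᵁ V.1)) : Set Γ(N, f ⁻¹ᵁ V.1)) from
    ⟨⟨_, eq_top_iff.2 fun m _ ↦ h' m⟩⟩
  intro m
  have hm : m ∈ Submodule.span Γ(X, V.1)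
      (s : Set Γ((Scheme.Modules.pushforward f).obj N, V.1)) := by rw [hs]; trivial
  induction hm using Submodule.span_induction with
  | mem x hx => exact Submodule.subset_span hx
  | zero => exact Submodule.zero_mem _
  | add x y _ _ hx hy => exact Submodule.add_mem _ hx hy
  | smul a x _ hx => exact Submodule.smul_mem _ (f.app V.1 a) hx

end GrothLib.QCoh
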