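import Groth.Agent.Lib.QCoh.SupportExact
import Groth.Agent.Lib.QCoh.ClosedImmersion
import Groth.Agent.Lib.RedSub.Basic
import Mathlib.AlgebraicGeometry.FunctionField
import Mathlib.Topology.Sober

/-!
# Every nonzero coherent module contains the direct image of an ideal of an integral subscheme
-/

universe u

open CategoryTheory CategoryTheory.Limits Opposite AlgebraicGeometry TopologicalSpace

namespace GrothLib.QCoh

variable {X : Scheme.{u}}

section PushUnit

variable {Z : Scheme.{u}} (i : Z ⟶ X)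

/-- The direct image of the structure sheaf. -/
noncomputable abbrev pushUnit : X.Modules :=
  (Coh.push i).obj (Coh.structureModule Z)

theorem pushUnit_killedByIdeal [IsClosedImmersion i] : ClSub.KilledByIdeal i.ker (pushUnit i) := by
  intro U a ha m
  rw [Scheme.Hom.ker_apply, RingHom.mem_ker] at ha
  change (i.app U.1).hom a • (show Γ(Coh.structureModule Z, i ⁻¹ᵁ U.1) from m) = 0
  rw [ha, zero_smul]

theorem pushUnit_isCoh [IsClosedImmersion i] [IsLocallyNoetherian X] : Coh.IsCoh (pushUnit i) := by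
  have := Cohom.isQuasicoherent_structureModule Z
  have hq : (pushUnit i).IsQuasicoherent := isQuasicoherent_pushforward i (Coh.structureModule Z)
  refine ⟨hq, (isFiniteType_iff_moduleFinite _).2 fun U hU ↦ ?_⟩
  exact Module.Finite.of_surjective
    (LinearMap.toSpanSingleton Γ(X, U) Γ(pushUnit i, U) (1 : Γ(Z, i ⁻¹ᵁ U))) fun m ↦ by
    obtain ⟨a, ha⟩ := i.app_surjective U hU m
    refine ⟨a, ?_⟩
    change (i.app U).hom a * (1 : Γ(Z, i ⁻¹ᵁ U)) = m
    rw [mul_one]
    exact ha

variable [IsIntegral Z]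

theorem closure_singleton_eq_range [IsClosedImmersion i] :
    closure {i (genericPoint Z)} = Set.range i := by
  rw [← Set.image_singleton, i.isClosedEmbedding.closure_image_eq, (genericPoint_spec Z).def,
    Set.image_univ]

theorem ker_eq_vanishingIdeal_closure [IsClosedImmersion i] :
    i.ker = Scheme.IdealSheafData.vanishingIdeal
      ⟨closure {i (genericPoint Z)}, isClosed_closure⟩ := by
  rw [SchImage.ker_eq_vanishingIdeal]
  congr 1
  apply Closeds.ext
  change closure (Set.range i) = closure {i (genericPoint Z)}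
  rw [closure_singleton_eq_range, i.isClosedEmbedding.isClosed_range.closure_eq]

theorem genericPoint_mem_of_nonempty {V : X.Opens} (h : (i ⁻¹ᵁ V : Set Z).Nonempty) :
    i (genericPoint Z) ∈ V :=
  ((genericPoint_spec Z).mem_open_set_iff (i ⁻¹ᵁ V).isOpen).2 (by simpa using h)

theorem pushUnit_torsFreeAt [IsClosedImmersion i] :
    TorsFreeAt (pushUnit i) (i (genericPoint Z)) := by
  intro V s hs
  by_cases hne : (i ⁻¹ᵁ V : Set Z).Nonempty
  · have hx := genericPoint_mem_of_nonempty i hne
    have h0 : OX.germ (Coh.structureModule Z).val (i ⁻¹ᵁ V) hx s = 0 :=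
      (pushStalkHom_germ i (genericPoint Z) (Coh.structureModule Z) V hx s).symm.trans
        ((congrArg (pushStalkHom i (genericPoint Z) (Coh.structureModule Z)).hom (hs hx)).trans
          (map_zero _))
    obtain ⟨W, hW, i₁, i₂, h⟩ := TopCat.Presheaf.germ_eq
      (Scheme.Modules.presheaf (Coh.structureModule Z))
      (U := i ⁻¹ᵁ V) (V := i ⁻¹ᵁ V) (genericPoint Z) hx hx s 0 (h0.trans (map_zero _).symm)
    have h' : (Z.presheaf.map i₁.op).hom (show Γ(Z, i ⁻¹ᵁ V) from s) = 0 :=
      h.trans (map_zero _)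
    have : Nonempty (i ⁻¹ᵁ V : Z.Opens) := ⟨⟨_, hx⟩⟩
    exact (injective_iff_map_eq_zero (Z.presheaf.germ (i ⁻¹ᵁ V) (genericPoint Z) hx).hom).1
      (germ_injective_of_isIntegral Z (genericPoint Z) hx) s
      ((TopCat.Presheaf.germ_res_apply Z.presheaf i₁ (genericPoint Z) hW
        (show Γ(Z, i ⁻¹ᵁ V) from s)).symm.trans ((congrArg _ h').trans (map_zero _)))
  · have : i ⁻¹ᵁ V = ⊥ := Opens.ext (Set.not_nonempty_iff_eq_empty.1 hne)
    have : Subsingleton Γ(Z, i ⁻¹ᵁ V) := by rw [this]; infer_instance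
    exact Subsingleton.elim (α := Γ(Z, i ⁻¹ᵁ V)) _ _

/-- The germ of the unit section in the stalk of the direct image. -/
noncomputable def pushOne : (pushUnit i).presheaf.stalk (i (genericPoint Z)) :=
  (pushUnit i).presheaf.germ ⊤ _ trivial (1 : Γ(Z, i ⁻¹ᵁ ⊤))

theorem germ_smul_pushOne {U : X.Opens} (hU : i (genericPoint Z) ∈ U) (a : Γ(X, U)) :
    X.presheaf.germ U _ hU a • pushOne i =
      (pushUnit i).presheaf.germ U _ hU (i.app U a : Γ(Z, i ⁻¹ᵁ U)) := by
  let one : Γ(pushUnit i, U) := (1 : Γ(Z, i ⁻¹ᵁ U))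
  have h1 : (pushUnit i).presheaf.germ U _ hU one = pushOne i := by
    refine Eq.trans (congrArg _ ?_) (germ_map (pushUnit i) (homOfLE (le_top : U ≤ ⊤)) hU _)
    exact (map_one (Z.presheaf.map ((Opens.map i.base).map (homOfLE (le_top : U ≤ ⊤))).op).hom).symm
  exact (congrArg (_ • ·) h1).symm.trans
    ((WeakAss.germ_smul hU a one).symm.trans (congrArg _ (mul_one (i.app U a))))

theorem smul_pushOne_eq_zero_iff [IsClosedImmersion i]
    (r : X.presheaf.stalk (i (genericPoint Z))) :
    r • pushOne i = 0 ↔ (i.stalkMap (genericPoint Z)).hom r = 0 := by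
  obtain ⟨U, hU, a, rfl⟩ := X.presheaf.exists_germ_eq r
  rw [germ_smul_pushOne i hU, Scheme.Hom.germ_stalkMap_apply]
  constructor
  · intro h
    have h0 : (show Γ(Z, i ⁻¹ᵁ U) from i.app U a) = 0 :=
      pushUnit_torsFreeAt i U _ fun _ ↦ h
    exact (congrArg _ h0).trans (map_zero _)
  · intro h
    have : Nonempty (i ⁻¹ᵁ U : Z.Opens) := ⟨⟨_, hU⟩⟩
    have h0 : i.app U a = 0 :=
      (injective_iff_map_eq_zero (Z.presheaf.germ (i ⁻¹ᵁ U) (genericPoint Z) hU).hom).1
        (germ_injective_of_isIntegral Z (genericPoint Z) hU) _ h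
    exact (congrArg _ h0).trans (map_zero _)

theorem exists_smul_pushOne_eq [IsClosedImmersion i]
    (e : (pushUnit i).presheaf.stalk (i (genericPoint Z))) :
    ∃ r : X.presheaf.stalk (i (genericPoint Z)), r • pushOne i = e := by
  obtain ⟨U, hU, m, rfl⟩ := TopCat.Presheaf.exists_germ_eq (pushUnit i).presheaf e
  obtain ⟨V, hVA, hxV, hVU⟩ := Opens.isBasis_iff_nbhd.1 X.isBasis_affineOpens hU
  obtain ⟨a, ha⟩ := i.app_surjective V hVA ((pushUnit i).presheaf.map (homOfLE hVU).op m)
  refine ⟨X.presheaf.germ V _ hxV a, ?_⟩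
  exact (germ_smul_pushOne i hxV a).trans
    ((congrArg _ ha).trans (germ_map (pushUnit i) (homOfLE hVU) hxV m))

/-- A linear map from the generic stalk of the structure sheaf of `Z` determined by a vector. -/
theorem exists_stalkMap_of_killed [IsClosedImmersion i] (G : X.Modules) [G.IsQuasicoherent]
    (hk : ClSub.KilledByIdeal i.ker G) (v : G.presheaf.stalk (i (genericPoint Z))) :
    ∃ φ : (pushUnit i).presheaf.stalk (i (genericPoint Z)) →ₗ[X.presheaf.stalk (i (genericPoint Z))]
        G.presheaf.stalk (i (genericPoint Z)),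
      φ (pushOne i) = v ∧ (v ≠ 0 → Function.Injective φ) ∧
        ((∀ w, ∃ r : X.presheaf.stalk (i (genericPoint Z)), r • v = w) → Function.Surjective φ) := by
  let R := X.presheaf.stalk (i (genericPoint Z))
  let ψ := LinearMap.toSpanSingleton R _ (pushOne i)
  have hψ : Function.Surjective ψ := exists_smul_pushOne_eq i
  let L := LinearMap.toSpanSingleton R _ v
  have hL : LinearMap.ker ψ ≤ LinearMap.ker L := fun r hr ↦
    smul_eq_zero_of_killed i G hk (genericPoint Z) r ((smul_pushOne_eq_zero_iff i r).1 hr) v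
  let φ := ((LinearMap.ker ψ).liftQ L hL).comp
    (ψ.quotKerEquivOfSurjective hψ).symm.toLinearMap
  have hφ : ∀ r : R, φ (r • pushOne i) = r • v := fun r ↦ by
    have : (ψ.quotKerEquivOfSurjective hψ).symm (ψ r) = Submodule.Quotient.mk r :=
      (ψ.quotKerEquivOfSurjective hψ).symm_apply_eq.2 rfl
    exact congrArg _ this
  refine ⟨φ, ?_, fun hv ↦ (injective_iff_map_eq_zero φ).2 fun e he ↦ ?_, fun hs w ↦ ?_⟩
  · exact (congrArg φ (one_smul R _).symm).trans ((hφ 1).trans (one_smul R v))
  · obtain ⟨r, rfl⟩ := exists_smul_pushOne_eq i e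
    rw [hφ] at he
    rw [smul_pushOne_eq_zero_iff]
    by_contra hr
    exact hv ((((isUnit_map_iff (i.stalkMap (genericPoint Z)).hom r).1
      (IsUnit.mk0 (G₀ := Z.functionField) _ hr))).smul_eq_zero.1 he)
  · obtain ⟨r, rfl⟩ := hs w
    exact ⟨_, hφ r⟩

omit [IsIntegral Z] in
/-- Coherent submodules of the direct image of `O_Z` are direct images of ideals. -/
theorem exists_ideal_of_mono_pushUnit [IsClosedImmersion i] {J : X.Modules} (hJ : Coh.IsCoh J)
    (a : J ⟶ pushUnit i) [Mono a] :
    ∃ (N : Z.Modules) (ι : N ⟶ Coh.structureModule Z), Mono ι ∧ Coh.IsCoh N ∧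
      Nonempty ((Coh.push i).obj N ≅ J) := by
  have := hJ.1
  have hkJ : ClSub.KilledByIdeal i.ker J := fun U r hr m ↦
    Cohom.app_injective_of_mono a U.1 <| by
      refine ((appLinear a U.1).map_smul r m).trans ?_
      exact (pushUnit_killedByIdeal i U r hr _).trans (map_zero _).symm
  have := isIso_unit_of_killed i J hkJ
  let e : (Coh.push i).obj ((Scheme.Modules.pullback i).obj J) ≅ J :=
    (asIso ((Scheme.Modules.pullbackPushforwardAdjunction i).unit.app J)).symm
  let ι := ((Scheme.Modules.pullbackPushforwardAdjunction i).homEquiv J _).symm a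
  have hι : (Coh.push i).map ι = e.hom ≫ a := by
    have h : (Scheme.Modules.pullbackPushforwardAdjunction i).unit.app J ≫ (Coh.push i).map ι = a :=
      (Adjunction.homEquiv_unit _ _ _ ι).symm.trans
        (((Scheme.Modules.pullbackPushforwardAdjunction i).homEquiv J _).apply_symm_apply a)
    exact (Iso.eq_inv_comp (asIso ((Scheme.Modules.pullbackPushforwardAdjunction i).unit.app J))).2 h
  refine ⟨_, ι, mono_of_app_injective _ fun W ↦ ?_, isCoh_of_pushforward i _ (isCoh_of_iso e.symm hJ),
    ⟨e⟩⟩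
  obtain ⟨O, hO, hOW⟩ := i.isClosedEmbedding.isInducing.isOpen_iff.1 W.isOpen
  obtain rfl : i ⁻¹ᵁ (⟨O, hO⟩ : X.Opens) = W := Opens.ext hOW
  have : Mono ((Coh.push i).map ι) := hι.symm ▸ (inferInstance : Mono (e.hom ≫ a))
  exact Cohom.app_injective_of_mono ((Coh.push i).map ι) (⟨O, hO⟩ : X.Opens)

end PushUnit

/-- A closed set, minimal among those carrying a nonzero section, gives a point at which some
submodule killed by its ideal is torsion free. -/
theorem exists_killed_torsFree [IsNoetherian X] (M : X.Modules) (hM : Coh.IsCoh M)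
    (h0 : ¬ IsZero M) :
    ∃ x : X, TorsFreeAt (killed M (Scheme.IdealSheafData.vanishingIdeal
        ⟨closure {x}, isClosed_closure⟩)).obj x ∧
      x ∈ CohB1.support (killed M (Scheme.IdealSheafData.vanishingIdeal
        ⟨closure {x}, isClosed_closure⟩)).obj := by
  let S : Set (Closeds X) :=
    {T | ∃ (V : X.Opens) (s : Γ(M, V)), s ≠ 0 ∧ s ∈ (supported M (T : Set X)).sec V}
  obtain ⟨T, ⟨V, s, hs0, hs⟩, hmin⟩ := WellFounded.has_min
    (r := ((· < ·) : Closeds X → Closeds X → Prop)) wellFounded_lt S (by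
    obtain ⟨V, s, hs⟩ : ∃ (V : X.Opens) (s : Γ(M, V)), s ≠ 0 := by
      by_contra h
      push Not at h
      refine h0 ((IsZero.iff_id_eq_zero M).2 (Scheme.Modules.hom_ext _ _ fun U ↦
        AddCommGrpCat.ext fun m ↦ (h U _).trans (h U _).symm))
    exact ⟨⊤, V, s, hs, fun x _ hx ↦ absurd (Set.mem_univ x) hx⟩)
  have hirr : IsIrreducible (T : Set X) := by
    refine ⟨?_, isPreirreducible_iff_isClosed_union_isClosed.2 fun A B hA hB hAB ↦ ?_⟩
    · by_contra he
      exact hs0 (section_eq_zero_of_germ M s fun x hx ↦ hs x hx fun hxT ↦ he ⟨x, hxT⟩)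
    · by_contra hc
      push Not at hc
      obtain ⟨hA', hB'⟩ := hc
      let TA : Closeds X := ⟨T ∩ A, T.isClosed.inter hA⟩
      let TB : Closeds X := ⟨T ∩ B, T.isClosed.inter hB⟩
      have hTA : TA < T := lt_of_le_of_ne (fun x hx ↦ hx.1) fun e ↦ hA' (e ▸ fun x hx ↦ hx.2)
      have hTB : TB < T := lt_of_le_of_ne (fun x hx ↦ hx.1) fun e ↦ hB' (e ▸ fun x hx ↦ hx.2)
      refine hs0 (section_eq_zero_of_germ M s fun x hx ↦ ?_)
      by_cases hxA : x ∈ A
      · by_contra hne
        refine hmin TA ⟨V, s, hs0, fun y hy hyA ↦ ?_⟩ hTA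
        by_cases hyT : y ∈ T
        · have hyA' : y ∉ A := fun h ↦ hyA ⟨hyT, h⟩
          let V' : X.Opens := V ⊓ ⟨Aᶜ, hA.isOpen_compl⟩
          by_contra hne'
          refine hmin TB ⟨V', M.presheaf.map (homOfLE inf_le_left).op s, fun h ↦ hne' ?_,
            fun z hz hzB ↦ ?_⟩ hTB
          · rw [← germ_map M (homOfLE inf_le_left) (show y ∈ V' from ⟨hy, hyA'⟩) s, h, map_zero]
          · rw [germ_map]
            exact hs z hz.1 fun hzT ↦ hzB ⟨hzT, (hAB hzT).resolve_left hz.2⟩
        · exact hs y hy hyT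
      · by_contra hne
        let V' : X.Opens := V ⊓ ⟨Aᶜ, hA.isOpen_compl⟩
        refine hmin TB ⟨V', M.presheaf.map (homOfLE inf_le_left).op s, fun h ↦ hne ?_,
          fun z hz hzB ↦ ?_⟩ hTB
        · rw [← germ_map M (homOfLE inf_le_left) (show x ∈ V' from ⟨hx, hxA⟩) s, h, map_zero]
        · rw [germ_map]
          exact hs z hz.1 fun hzT ↦ hzB ⟨hzT, (hAB hzT).resolve_left hz.2⟩
  obtain ⟨x, hx⟩ : ∃ x : X, closure {x} = (T : Set X) :=
    ⟨hirr.genericPoint, by
      rw [hirr.isGenericPoint_genericPoint_closure.def, T.isClosed.closure_eq]⟩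
  have hT : (⟨closure {x}, isClosed_closure⟩ : Closeds X) = T := Closeds.ext hx
  refine ⟨x, ?_⟩
  rw [hT]
  -- a section supported in `T` vanishing at `x` is zero
  have tf : ∀ (W : X.Opens) (t : Γ(M, W)), t ∈ (supported M (T : Set X)).sec W →
      (∀ hxW : x ∈ W, M.presheaf.germ W x hxW t = 0) → t = 0 := by
    intro W t ht htx
    by_contra ht0
    let Y : Set X := {y | ∃ hy : y ∈ W, M.presheaf.germ W y hy t ≠ 0}
    let T' : Closeds X := ⟨(T : Set X) ∩ closure Y, T.isClosed.inter isClosed_closure⟩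
    refine hmin T' ⟨W, t, ht0, fun y hy hyT' ↦ ?_⟩ (lt_of_le_of_ne (fun y hy ↦ hy.1) fun e ↦ ?_)
    · by_cases hyT : y ∈ T
      · by_contra hne
        exact hyT' ⟨hyT, subset_closure ⟨hy, hne⟩⟩
      · exact ht y hy hyT
    · have hxY : x ∈ closure Y :=
        (show x ∈ (T' : Set X) from e.symm ▸ (hx ▸ subset_closure rfl : x ∈ (T : Set X))).2
      by_cases hxW : x ∈ W
      · obtain ⟨W', hxW', i₁, i₂, h⟩ := TopCat.Presheaf.germ_eq M.presheaf x hxW hxW t 0
          ((htx hxW).trans (map_zero _).symm)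
        obtain ⟨y, hyW', hy, hne⟩ := mem_closure_iff.1 hxY W' W'.isOpen hxW'
        refine hne ?_
        rw [← germ_map M i₁ hyW' t, h, map_zero, map_zero]
      · obtain ⟨⟨y, hy, hne⟩⟩ : Nonempty Y := Set.Nonempty.to_subtype
          (closure_nonempty_iff.1 ⟨x, hxY⟩)
        refine hne (ht y hy fun hyT ↦ hxW ?_)
        exact (specializes_iff_mem_closure.2 (hx.symm ▸ hyT)).mem_open W.isOpen hy
  set I := Scheme.IdealSheafData.vanishingIdeal T
  have hsub := support_subset_of_killedByIdeal _ T (killed_killedByIdeal M I)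
  refine ⟨fun W m hm ↦ (killed M I).ι_app_injective W ?_, ?_⟩
  · rw [map_zero]
    refine tf W _ (fun y hy hyT ↦ ?_) fun hxW ↦ ?_
    · rw [← stalkLin_germ]
      exact (congrArg _ ((notMem_support_iff _ y).1 (fun h ↦ hyT (hsub h)) W hy m)).trans (map_zero _)
    · rw [← stalkLin_germ, hm hxW, map_zero]
  · have hxV : x ∈ V := by
      by_contra hxV
      exact hs0 (tf V s hs fun h ↦ absurd h hxV)
    obtain ⟨W, hW, hxW, hWV⟩ := Opens.isBasis_iff_nbhd.1 X.isBasis_affineOpens hxV
    have : IsNoetherianRing Γ(X, W) := IsLocallyNoetherian.component_noetherian ⟨W, hW⟩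
    have := hM.1
    let t := M.presheaf.map (homOfLE hWV).op s
    have ht : t ∈ (supported M (T : Set X)).sec W := (supported M _).map_mem _ hs
    have ht0 : t ≠ 0 := fun h ↦ hs0 <| tf V s hs fun hxV' ↦ by
      rw [← germ_map M (homOfLE hWV) hxW s, show M.presheaf.map (homOfLE hWV).op s = 0 from h,
        map_zero]
    have hkill : ∀ a ∈ I.ideal ⟨W, hW⟩, ∀ u ∈ (supported M (T : Set X)).sec W,
        ∃ n : ℕ, a ^ n • u = 0 := by
      intro a ha u hu
      refine (smulLift_and_smulSep_of_isAffineOpen hW M a).2 u ?_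
      refine section_eq_zero_of_germ M _ fun y hy ↦ ?_
      rw [germ_map]
      exact hu y _ fun hyT ↦
        (mem_vanishingIdeal_iff T ⟨W, hW⟩ a).1 ha y (X.basicOpen_le a hy) hyT hy
    obtain ⟨G, hG⟩ := IsNoetherian.noetherian (I.ideal ⟨W, hW⟩)
    have key : ∀ G' : Finset Γ(X, W), (G' : Set Γ(X, W)) ⊆ I.ideal ⟨W, hW⟩ →
        ∃ u ∈ (supported M (T : Set X)).sec W, u ≠ 0 ∧ ∀ a ∈ G', a • u = 0 := by
      classical
      intro G' hG'
      induction G' using Finset.induction_on with
      | empty => exact ⟨t, ht, ht0, by simp⟩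
      | insert a G' _ ih =>
        obtain ⟨u, hu, hu0, hua⟩ :=
          ih ((Finset.coe_subset.2 (Finset.subset_insert a G')).trans hG')
        have hex := hkill a (hG' (Finset.mem_insert_self a G')) u hu
        have hn0 : Nat.find hex ≠ 0 := fun h ↦ hu0 (by
          simpa [h] using Nat.find_spec hex)
        refine ⟨a ^ (Nat.find hex - 1) • u, Submodule.smul_mem _ _ hu,
          Nat.find_min hex (Nat.sub_one_lt hn0), fun b hb ↦ ?_⟩
        rcases Finset.mem_insert.1 hb with rfl | hb
        · rw [smul_smul, ← pow_succ', Nat.sub_add_cancel (Nat.one_le_iff_ne_zero.2 hn0)]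
          exact Nat.find_spec hex
        · rw [smul_comm, hua b hb, smul_zero]
    obtain ⟨u, hu, hu0, hua⟩ := key G (hG ▸ Submodule.subset_span)
    have huk : u ∈ (killed M I).sec W := by
      rw [killed_mem_iff M I ⟨W, hW⟩]
      intro a ha
      rw [← hG] at ha
      induction ha using Submodule.span_induction with
      | mem y hy => exact hua y hy
      | zero => exact zero_smul _ _
      | add y z _ _ hy hz => rw [add_smul, hy, hz, add_zero]
      | smul c y _ hy => rw [smul_eq_mul, mul_smul, hy, smul_zero]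
    intro hsub'
    refine hu0 (tf W u hu fun _ ↦ ?_)
    rw [← (killed M I).ι_app_lift u huk, ← stalkLin_germ,
      Subsingleton.elim (α := (killed M I).obj.presheaf.stalk x)
        ((killed M I).obj.presheaf.germ W x _ _) 0, map_zero]

/-- A nonzero coherent module contains the direct image of a nonzero ideal of an integral closed
subscheme. -/
theorem exists_piece [IsNoetherian X] (M : X.Modules) (hM : Coh.IsCoh M) (h0 : ¬ IsZero M) :
    ∃ (Z : Scheme.{u}) (i : Z ⟶ X), IsClosedImmersion i ∧ IsIntegral Z ∧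
      ∃ (N : Z.Modules) (ι : N ⟶ Coh.structureModule Z), Mono ι ∧ Coh.IsCoh N ∧ ¬ IsZero N ∧
        ∃ f : (Coh.push i).obj N ⟶ M, Mono f := by
  obtain ⟨x, htf, hxs⟩ := exists_killed_torsFree M hM h0
  set T : Closeds X := ⟨closure {x}, isClosed_closure⟩
  set I := Scheme.IdealSheafData.vanishingIdeal T
  let i := I.subschemeι
  have hrange : Set.range i = (T : Set X) := RedSub.range_subschemeι_vanishingIdeal T
  have := RedSub.isReduced_subscheme_vanishingIdeal T
  have : IrreducibleSpace I.subscheme := by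
    rw [irreducibleSpace_def, Set.top_eq_univ]
    obtain ⟨z, hz⟩ : x ∈ Set.range i := hrange.symm ▸ subset_closure rfl
    have hpre : closure {z} = (Set.univ : Set I.subscheme) := by
      rw [i.isClosedEmbedding.isInducing.closure_eq_preimage_closure_image, Set.image_singleton, hz]
      exact Set.eq_univ_of_forall fun w ↦ (hrange ▸ ⟨w, rfl⟩ : i w ∈ (T : Set X))
    exact hpre ▸ isIrreducible_singleton.closure
  have : IsIntegral I.subscheme := isIntegral_of_irreducibleSpace_of_isReduced _
  have hker : i.ker = I := Scheme.IdealSheafData.ker_subschemeι I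
  have hη : i (genericPoint I.subscheme) = x := by
    have h1 : closure {i (genericPoint I.subscheme)} = closure {x} :=
      (closure_singleton_eq_range i).trans hrange
    exact (inseparable_iff_closure_eq.2 h1).eq
  clear_value I
  subst hη
  obtain ⟨v, hv⟩ : ∃ v : (killed M I).obj.presheaf.stalk (i (genericPoint I.subscheme)), v ≠ 0 := by
    by_contra h
    push Not at h
    exact hxs (subsingleton_of_forall_eq 0 h)
  have hG : Coh.IsCoh (killed M I).obj := killed_isCoh M hM I
  have := hG.1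
  have hkG : ClSub.KilledByIdeal i.ker (killed M I).obj := hker.symm ▸ killed_killedByIdeal M I
  obtain ⟨φ, hφ1, hφ, -⟩ := exists_stalkMap_of_killed i (killed M I).obj hkG v
  let J := (graphAt (pushUnit i) (killed M I).obj _ φ).obj
  have hJ : Coh.IsCoh J := graphAt_isCoh _ _ _ φ (pushUnit_isCoh i) hG i.ker
    (ker_eq_vanishingIdeal_closure i) (pushUnit_killedByIdeal i) hkG
  have := graphFst_mono (pushUnit i) (killed M I).obj _ φ htf
  have := graphSnd_mono (pushUnit i) (killed M I).obj _ φ (pushUnit_torsFreeAt i) (hφ hv)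
  obtain ⟨N, ι, hι, hN, ⟨e⟩⟩ := exists_ideal_of_mono_pushUnit i hJ (graphFst _ _ _ φ)
  refine ⟨_, i, inferInstance, inferInstance, N, ι, hι, hN, fun hz ↦ ?_,
    e.hom ≫ graphSnd _ _ _ φ ≫ (killed M I).ι, ?_⟩
  · obtain ⟨j, hj⟩ := (graphFst_stalk_bijective (pushUnit i) (killed M I).obj _ φ).2 (pushOne i)
    have hJz : IsZero J := ((Coh.push i).map_isZero hz).of_iso e.symm
    have : Subsingleton (J.presheaf.stalk (i (genericPoint I.subscheme))) :=
      ModuleCat.isZero_iff_subsingleton.1 ((OX.isZero_iff J).1 hJz _)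
    rw [Subsingleton.elim (α := J.presheaf.stalk _) j 0, map_zero] at hj
    exact hv (hφ1 ▸ (congrArg φ hj.symm).trans (map_zero φ))
  · have := mono_of_app_injective _ (killed M I).ι_app_injective
    infer_instance

end GrothLib.QCoh
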