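import Groth.Agent.Lib.QCoh.Affine
import Mathlib.Algebra.Homology.ShortComplex.ExactFunctor
import Mathlib.CategoryTheory.Abelian.Exact

/-!
# Exactness of tilde; kernels, cokernels and colimits of quasi-coherent modules
-/

universe u

open CategoryTheory CategoryTheory.Limits Opposite TopologicalSpace AlgebraicGeometry

namespace GrothLib.QCoh

variable {R : CommRingCat.{u}}

instance tildeMap_mono {M N : ModuleCat.{u} R} (f : M ⟶ N) [Mono f] : Mono (tilde.map f) := by
  have hf : Function.Injective f.hom := (ModuleCat.mono_iff_injective f).1 ‹_›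
  refine @Functor.mono_of_mono_map _ _ _ _ (Scheme.Modules.toPresheaf _) inferInstance _ _ _ ?_
  have hU : ∀ U, Mono (((Scheme.Modules.toPresheaf _).map (tilde.map f)).app U) := fun U ↦ by
    rw [AddCommGrpCat.mono_iff_injective]
    intro a b h
    refine Subtype.ext (funext fun y ↦ ?_)
    exact LocalizedModule.map_injective y.1.asIdeal.primeCompl f.hom hf
      (congrFun (congrArg Subtype.val h) y)
  exact NatTrans.mono_of_mono_app _

instance tildeFunctor_preservesMonomorphisms : (tilde.functor R).PreservesMonomorphisms where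
  preserves f _ := tildeMap_mono f

theorem tildeFunctor_map_shortExact (S : ShortComplex (ModuleCat.{u} R)) (hS : S.ShortExact) :
    (S.map (tilde.functor R)).ShortExact := by
  have := hS.mono_f
  have := hS.epi_g
  have : PreservesColimitsOfSize.{0, 0} (tilde.functor R) :=
    preservesColimitsOfSize_shrink.{0, u, 0, u} _
  refine { exact := ?_, mono_f := ?_, epi_g := ?_ }
  · exact ShortComplex.exact_of_g_is_cokernel _
      (isColimitCoforkMapOfIsColimit' (tilde.functor R) S.zero hS.gIsCokernel)
  · exact inferInstanceAs (Mono ((tilde.functor R).map S.f))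
  · exact inferInstanceAs (Epi ((tilde.functor R).map S.g))

instance tildeFunctor_preservesFiniteLimits : PreservesFiniteLimits (tilde.functor R) :=
  (((tilde.functor R).exact_tfae.out 0 3 (a := ∀ (S : ShortComplex (ModuleCat.{u} R)), S.ShortExact → (S.map (tilde.functor R)).ShortExact) (b := PreservesFiniteLimits (tilde.functor R) ∧ PreservesFiniteColimits (tilde.functor R))).1 tildeFunctor_map_shortExact).1

instance tildeFunctor_preservesFiniteColimits : PreservesFiniteColimits (tilde.functor R) :=
  (((tilde.functor R).exact_tfae.out 0 3 (a := ∀ (S : ShortComplex (ModuleCat.{u} R)), S.ShortExact → (S.map (tilde.functor R)).ShortExact) (b := PreservesFiniteLimits (tilde.functor R) ∧ PreservesFiniteColimits (tilde.functor R))).1 tildeFunctor_map_shortExact).2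

variable {X Y : Scheme.{u}}

instance restrictFunctor_isRightAdjoint (f : X ⟶ Y) [IsOpenImmersion f] :
    (Scheme.Modules.restrictFunctor f).IsRightAdjoint := by
  unfold Scheme.Modules.restrictFunctor
  exact inferInstanceAs (SheafOfModules.pushforward.{u} _).IsRightAdjoint

instance restrictFunctor_preservesFiniteLimits (f : X ⟶ Y) [IsOpenImmersion f] :
    PreservesFiniteLimits (Scheme.Modules.restrictFunctor f) := by
  have : PreservesLimitsOfSize.{0, 0} (Scheme.Modules.restrictFunctor f) :=
    (Adjunction.ofIsRightAdjoint (Scheme.Modules.restrictFunctor f)).rightAdjoint_preservesLimits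
  exact PreservesLimitsOfSize.preservesFiniteLimits.{0, 0} _

instance restrictFunctor_preservesFiniteColimits (f : X ⟶ Y) [IsOpenImmersion f] :
    PreservesFiniteColimits (Scheme.Modules.restrictFunctor f) :=
  PreservesColimitsOfSize.preservesFiniteColimits.{u, u} _

instance restrictFunctor_additive (f : X ⟶ Y) [IsOpenImmersion f] :
    (Scheme.Modules.restrictFunctor f).Additive :=
  have := Limits.preservesBinaryBiproducts_of_preservesBinaryProducts
    (Scheme.Modules.restrictFunctor f)
  Functor.additive_of_preservesBinaryBiproducts _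

/-- Restriction to `Spec Γ(X, U)` of a quasi-coherent module is a `tilde`. -/
theorem isQuasicoherent_of_forall_fromSpec (M : X.Modules)
    (h : ∀ (U : X.Opens) (hU : IsAffineOpen U),
      (M.restrict hU.fromSpec).IsQuasicoherent) : M.IsQuasicoherent :=
  (isQuasicoherent_iff_smulLift_smulSep M).2 fun U hU g ↦
    have := h U hU
    (isIso_fromTildeΓ_restrict_iff hU M).1 inferInstance g

theorem isQuasicoherent_of_iso {M N : X.Modules} (e : M ≅ N) [M.IsQuasicoherent] :
    N.IsQuasicoherent :=
  (SheafOfModules.isQuasicoherent X.ringCatSheaf).prop_of_iso e ‹_›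

theorem exists_tilde_preimage {M N : (Spec R).Modules} [M.IsQuasicoherent] [N.IsQuasicoherent]
    (φ : M ⟶ N) : ∃ (A B : ModuleCat.{u} R) (f : A ⟶ B) (eA : tilde A ≅ M) (eB : tilde B ≅ N),
      eA.hom ≫ φ = tilde.map f ≫ eB.hom := by
  let eA := asIso M.fromTildeΓ
  let eB := asIso N.fromTildeΓ
  let f₀ : tilde ((modulesSpecToSheaf.obj M).presheaf.obj (.op ⊤)) ⟶
      tilde ((modulesSpecToSheaf.obj N).presheaf.obj (.op ⊤)) := eA.hom ≫ φ ≫ eB.inv
  refine ⟨_, _, (tilde.functor R).preimage f₀, eA, eB, ?_⟩
  have : tilde.map ((tilde.functor R).preimage f₀) = f₀ := (tilde.functor R).map_preimage f₀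
  rw [this]
  simp only [f₀, Category.assoc, Iso.inv_hom_id, Category.comp_id]

theorem isQuasicoherent_kernel_spec {M N : (Spec R).Modules} [M.IsQuasicoherent]
    [N.IsQuasicoherent] (φ : M ⟶ N) : (kernel φ).IsQuasicoherent := by
  obtain ⟨A, B, f, eA, eB, h⟩ := exists_tilde_preimage φ
  exact isQuasicoherent_of_iso (M := tilde (kernel f))
    (PreservesKernel.iso (tilde.functor R) f ≪≫ kernel.mapIso _ _ eA eB h.symm)

theorem isQuasicoherent_cokernel_spec {M N : (Spec R).Modules} [M.IsQuasicoherent]
    [N.IsQuasicoherent] (φ : M ⟶ N) : (cokernel φ).IsQuasicoherent := by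
  obtain ⟨A, B, f, eA, eB, h⟩ := exists_tilde_preimage φ
  exact isQuasicoherent_of_iso (M := tilde (cokernel f))
    (PreservesCokernel.iso (tilde.functor R) f ≪≫ cokernel.mapIso _ _ eA eB h.symm)

/-- Kernels of morphisms of quasi-coherent modules are quasi-coherent. -/
theorem isQuasicoherent_kernel {M N : X.Modules} [M.IsQuasicoherent] [N.IsQuasicoherent]
    (φ : M ⟶ N) : (kernel φ).IsQuasicoherent :=
  isQuasicoherent_of_forall_fromSpec _ fun _U hU ↦
    have := isQuasicoherent_kernel_spec ((Scheme.Modules.restrictFunctor hU.fromSpec).map φ)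
    isQuasicoherent_of_iso (PreservesKernel.iso (Scheme.Modules.restrictFunctor hU.fromSpec) φ).symm

/-- Cokernels of morphisms of quasi-coherent modules are quasi-coherent. -/
theorem isQuasicoherent_cokernel {M N : X.Modules} [M.IsQuasicoherent] [N.IsQuasicoherent]
    (φ : M ⟶ N) : (cokernel φ).IsQuasicoherent :=
  isQuasicoherent_of_forall_fromSpec _ fun _U hU ↦
    have := isQuasicoherent_cokernel_spec ((Scheme.Modules.restrictFunctor hU.fromSpec).map φ)
    isQuasicoherent_of_iso
      (PreservesCokernel.iso (Scheme.Modules.restrictFunctor hU.fromSpec) φ).symm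

theorem isQuasicoherent_colimit_spec {J : Type u} [SmallCategory J] (F : J ⥤ (Spec R).Modules)
    (hF : ∀ j, (F.obj j).IsQuasicoherent) : (colimit F).IsQuasicoherent := by
  let G : J ⥤ ModuleCat.{u} R := F ⋙ moduleSpecΓFunctor (R := R)
  let e : G ⋙ tilde.functor R ≅ F :=
    NatIso.ofComponents (fun j ↦ @asIso _ _ _ _ (F.obj j).fromTildeΓ
        (@Scheme.Modules.isIso_fromTildeΓ_of_isQuasicoherent _ (F.obj j) (hF j)))
      (fun {i j} f ↦ (tilde.adjunction (R := R)).counit.naturality (F.map f))
  exact isQuasicoherent_of_iso (M := tilde (colimit G))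
    (preservesColimitIso (tilde.functor R) G ≪≫ HasColimit.isoOfNatIso e)

/-- Small colimits of quasi-coherent modules are quasi-coherent. -/
theorem isQuasicoherent_colimit {J : Type u} [SmallCategory J] (F : J ⥤ X.Modules)
    (hF : ∀ j, (F.obj j).IsQuasicoherent) : (colimit F).IsQuasicoherent :=
  isQuasicoherent_of_forall_fromSpec _ fun _U hU ↦
    have := isQuasicoherent_colimit_spec (F ⋙ Scheme.Modules.restrictFunctor hU.fromSpec)
      (fun j ↦ have := hF j; inferInstanceAs ((F.obj j).restrict hU.fromSpec).IsQuasicoherent)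
    isQuasicoherent_of_iso (preservesColimitIso (Scheme.Modules.restrictFunctor hU.fromSpec) F).symm

/-- The image of a morphism of quasi-coherent modules is quasi-coherent. -/
theorem isQuasicoherent_image {M N : X.Modules} [M.IsQuasicoherent] [N.IsQuasicoherent]
    (φ : M ⟶ N) : (Abelian.image φ).IsQuasicoherent :=
  have := isQuasicoherent_cokernel φ
  isQuasicoherent_kernel (cokernel.π φ)

theorem isQuasicoherent_X₁ {S : ShortComplex X.Modules} (hS : S.ShortExact)
    [S.X₂.IsQuasicoherent] [S.X₃.IsQuasicoherent] : S.X₁.IsQuasicoherent :=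
  have := isQuasicoherent_kernel S.g
  isQuasicoherent_of_iso (M := kernel S.g) ((limit.isLimit _).conePointUniqueUpToIso hS.fIsKernel)

theorem isQuasicoherent_X₃ {S : ShortComplex X.Modules} (hS : S.ShortExact)
    [S.X₁.IsQuasicoherent] [S.X₂.IsQuasicoherent] : S.X₃.IsQuasicoherent :=
  have := isQuasicoherent_cokernel S.f
  isQuasicoherent_of_iso (M := cokernel S.f) ((colimit.isColimit _).coconePointUniqueUpToIso hS.gIsCokernel)

end GrothLib.QCoh
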