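import Mathlib.AlgebraicGeometry.Modules.Sheaf
import Mathlib.Algebra.Category.ModuleCat.Presheaf.Sheafification
import Mathlib.Algebra.Category.ModuleCat.Presheaf.Abelian
import Mathlib.Algebra.Homology.ShortComplex.ExactFunctor
import Mathlib.CategoryTheory.Sites.Abelian
import Mathlib.Algebra.Category.Grp.Abelian
import Mathlib.CategoryTheory.Abelian.Exact

/-!
# The underlying abelian sheaf of a sheaf of modules is an exact functor
-/

universe u v₁ u₁

open CategoryTheory CategoryTheory.Limits

namespace GrothLib.QCoh

variable {C : Type u₁} [Category.{v₁} C] {J : GrothendieckTopology C}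
  {R : Sheaf J RingCat.{u}} [HasSheafify J AddCommGrpCat.{u}]
  [J.WEqualsLocallyBijective AddCommGrpCat.{u}]

theorem toSheaf_map_epi {F G : SheafOfModules.{u} R} (g : F ⟶ G) [Epi g] :
    Epi ((SheafOfModules.toSheaf.{u} R).map g) := by
  let L := PresheafOfModules.sheafification.{u} (𝟙 R.obj)
  let adj := PresheafOfModules.sheafificationAdjunction.{u} (𝟙 R.obj)
  let gf : F.val ⟶ G.val := (SheafOfModules.forget.{u} R).map g
  have : IsIso adj.counit := inferInstance
  let cF : L.obj F.val ⟶ F := adj.counit.app F
  let cG : L.obj G.val ⟶ G := adj.counit.app G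
  have : IsIso cF := inferInstanceAs (IsIso (adj.counit.app F))
  have : IsIso cG := inferInstanceAs (IsIso (adj.counit.app G))
  have h : L.map gf ≫ cG = cF ≫ g := adj.counit.naturality g
  have hg : Epi (L.map gf) := by
    have e : L.map gf = cF ≫ g ≫ inv cG := by
      rw [← Category.assoc, ← h, Category.assoc, IsIso.hom_inv_id, Category.comp_id]
    rw [e]; infer_instance
  let e := Abelian.factorThruImage gf
  let m := Abelian.image.ι gf
  have hem : e ≫ m = gf := Abelian.image.fac gf
  have : Epi (L.map m) := by
    rw [← hem, Functor.map_comp] at hg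
    exact @epi_of_epi _ _ _ _ _ _ _ hg
  have : Mono (L.map m) := inferInstance
  have : IsIso (L.map m) := isIso_of_mono_of_epi _
  have he : Epi ((SheafOfModules.toSheaf.{u} R).map (L.map e)) := by
    have e1 : Epi ((presheafToSheaf J AddCommGrpCat.{u}).map
        ((PresheafOfModules.toPresheaf R.obj).map e)) := inferInstance
    have hiso := (PresheafOfModules.sheafificationCompToSheaf.{u} (𝟙 R.obj)).hom.naturality e
    change (SheafOfModules.toSheaf.{u} R).map (L.map e) ≫ _ = _ ≫ _ at hiso
    rw [← IsIso.eq_comp_inv, Category.assoc] at hiso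
    rw [hiso]; infer_instance
  have hL : Epi ((SheafOfModules.toSheaf.{u} R).map (L.map gf)) := by
    rw [← hem, Functor.map_comp, Functor.map_comp]; infer_instance
  have h2 : g = inv cF ≫ L.map gf ≫ cG := by rw [h, IsIso.inv_hom_id_assoc]
  rw [h2, Functor.map_comp, Functor.map_comp]
  infer_instance

theorem toSheaf_map_shortExact (S : ShortComplex (SheafOfModules.{u} R)) (hS : S.ShortExact) :
    (S.map (SheafOfModules.toSheaf.{u} R)).ShortExact := by
  have := hS.mono_f
  have := hS.epi_g
  refine { exact := ?_, mono_f := ?_, epi_g := toSheaf_map_epi S.g }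
  · exact ShortComplex.exact_of_f_is_kernel _
      (isLimitForkMapOfIsLimit' (SheafOfModules.toSheaf.{u} R) S.zero hS.fIsKernel)
  · exact inferInstanceAs (Mono ((SheafOfModules.toSheaf.{u} R).map S.f))

theorem toSheaf_preservesFiniteColimits :
    PreservesFiniteColimits (SheafOfModules.toSheaf.{u} R) :=
  (((SheafOfModules.toSheaf.{u} R).exact_tfae.out 0 3
    (a := ∀ (S : ShortComplex (SheafOfModules.{u} R)), S.ShortExact →
      (S.map (SheafOfModules.toSheaf.{u} R)).ShortExact)
    (b := PreservesFiniteLimits (SheafOfModules.toSheaf.{u} R) ∧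
      PreservesFiniteColimits (SheafOfModules.toSheaf.{u} R))).1 toSheaf_map_shortExact).2

open AlgebraicGeometry

/-- The underlying abelian sheaf, as a functor on `X.Modules`. -/
noncomputable abbrev toAbFun (X : Scheme.{u}) :
    X.Modules ⥤ Sheaf (Opens.grothendieckTopology X) AddCommGrpCat.{u} :=
  SheafOfModules.toSheaf X.ringCatSheaf

instance toAbFun_additive (X : Scheme.{u}) : (toAbFun X).Additive where
  map_add := rfl

/-- The underlying abelian sheaves of a short exact sequence of `O_X`-modules. -/
theorem toAbFun_map_shortExact {X : Scheme.{u}} (S : ShortComplex X.Modules)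
    (hS : S.ShortExact) : (S.map (toAbFun X)).ShortExact :=
  toSheaf_map_shortExact (R := X.ringCatSheaf) S hS

end GrothLib.QCoh
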