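import Groth.Agent.Lib.Cohom.Affine
import Groth.Agent.Lib.Cohom.Exact
import Groth.Agent.Lib.QCoh.Affine
import Groth.Agent.Lib.QCoh.ToSheaf

/-!
# Extensions of quasi-coherent modules are quasi-coherent
-/

universe u

open CategoryTheory CategoryTheory.Limits Opposite TopologicalSpace AlgebraicGeometry Abelian

namespace GrothLib.QCoh

variable {X : Scheme.{u}} {S : ShortComplex X.Modules}

theorem app_injective (hS : S.ShortExact) (U : X.Opens) : Function.Injective (S.f.app U) :=
  Cohom.sections_injective (toAbFun_map_shortExact S hS) U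

theorem app_exact (hS : S.ShortExact) (U : X.Opens) (b : Γ(S.X₂, U)) (hb : S.g.app U b = 0) :
    ∃ a, S.f.app U a = b :=
  Cohom.sections_exact (toAbFun_map_shortExact S hS) U b hb

theorem app_comp_zero (U : X.Opens) (a : Γ(S.X₁, U)) : S.g.app U (S.f.app U a) = 0 := by
  rw [← ConcreteCategory.comp_apply, ← Scheme.Modules.Hom.comp_app, S.zero,
    Scheme.Modules.Hom.zero_app]
  rfl

theorem app_surjective_of_subsingleton (hS : S.ShortExact) (U : X.Opens)
    (h : Subsingleton (Ext.{u} (Cohom.freeFun.obj U) (Coh.toAb S.X₁) 1)) :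
    Function.Surjective (S.g.app U) :=
  Cohom.sections_surjective (toAbFun_map_shortExact S hS) U h

/-- Sections over an affine open are exact when the kernel is quasi-coherent. -/
theorem app_surjective_of_isAffineOpen (hS : S.ShortExact) [S.X₁.IsQuasicoherent] {U : X.Opens}
    (hU : IsAffineOpen U) : Function.Surjective (S.g.app U) :=
  app_surjective_of_subsingleton hS U
    (Cohom.subsingleton_ext_freeFun_of_isAffineOpen hU S.X₁ 0)

theorem map_app {M N : X.Modules} (φ : M ⟶ N) {U V : X.Opens} (i : V ⟶ U) (x : Γ(M, U)) :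
    N.presheaf.map i.op (φ.app U x) = φ.app V (M.presheaf.map i.op x) :=
  (ConcreteCategory.congr_hom (φ.mapPresheaf.naturality i.op) x).symm

/-- Extensions of quasi-coherent modules are quasi-coherent. -/
theorem isQuasicoherent_X₂ (hS : S.ShortExact) [S.X₁.IsQuasicoherent] [S.X₃.IsQuasicoherent] :
    S.X₂.IsQuasicoherent := by
  rw [isQuasicoherent_iff_smulLift_smulSep]
  intro U hU g
  refine ⟨fun s ↦ ?_, fun t ht ↦ ?_⟩
  · obtain ⟨n, t₃, ht₃⟩ := (smulLift_and_smulSep_of_isAffineOpen hU S.X₃ g).1 (S.g.app _ s)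
    obtain ⟨t₂, rfl⟩ := app_surjective_of_isAffineOpen hS hU t₃
    obtain ⟨a, ha⟩ := app_exact hS (X.basicOpen g)
      ((X.presheaf.map (homOfLE (X.basicOpen_le g)).op g) ^ n • s -
        S.X₂.presheaf.map (homOfLE (X.basicOpen_le g)).op t₂)
      (by rw [map_sub, Scheme.Modules.Hom.app_smul, ← map_app, ht₃, sub_self])
    obtain ⟨m, t₁, ht₁⟩ := (smulLift_and_smulSep_of_isAffineOpen hU S.X₁ g).1 a
    refine ⟨m + n, g ^ m • t₂ + S.f.app U t₁, ?_⟩
    rw [map_add, map_app, ht₁, Scheme.Modules.Hom.app_smul, ha, Scheme.Modules.map_smul, map_pow,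
      smul_sub, ← mul_smul, ← pow_add]
    abel
  · obtain ⟨n, hn⟩ := (smulLift_and_smulSep_of_isAffineOpen hU S.X₃ g).2 (S.g.app U t)
      (by rw [map_app, ht, map_zero])
    obtain ⟨a, ha⟩ := app_exact hS U (g ^ n • t) (by rw [Scheme.Modules.Hom.app_smul, hn])
    obtain ⟨m, hm⟩ := (smulLift_and_smulSep_of_isAffineOpen hU S.X₁ g).2 a (by
      apply app_injective hS
      rw [← map_app, ha, Scheme.Modules.map_smul, ht, smul_zero, map_zero])
    refine ⟨m + n, ?_⟩
    rw [pow_add, mul_smul, ← ha, ← Scheme.Modules.Hom.app_smul, hm, map_zero]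

end GrothLib.QCoh
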