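import Groth.Agent.Lib.QCoh.Devissage

/-!
# Dévissage for classes stable under direct summands
-/

universe u

open CategoryTheory CategoryTheory.Limits Opposite AlgebraicGeometry TopologicalSpace

namespace GrothLib.QCoh

variable {X : Scheme.{u}}

theorem stalkLin_id (M : X.Modules) (x : X) (e : M.presheaf.stalk x) : stalkLin (𝟙 M) x e = e := by
  obtain ⟨U, hx, s, rfl⟩ := TopCat.Presheaf.exists_germ_eq M.presheaf e
  rw [stalkLin_germ, Scheme.Modules.Hom.id_app]
  rfl

theorem stalkLin_add {M N : X.Modules} (f g : M ⟶ N) (x : X) (e : M.presheaf.stalk x) :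
    stalkLin (f + g) x e = stalkLin f x e + stalkLin g x e := by
  obtain ⟨U, hx, s, rfl⟩ := TopCat.Presheaf.exists_germ_eq M.presheaf e
  rw [stalkLin_germ, stalkLin_germ, stalkLin_germ, ← map_add, Scheme.Modules.Hom.add_app]
  rfl

theorem biprod_stalk_total (A B : X.Modules) (x : X) (e : (A ⊞ B).presheaf.stalk x) :
    stalkLin (biprod.inl : A ⟶ A ⊞ B) x (stalkLin (biprod.fst : A ⊞ B ⟶ A) x e) +
      stalkLin (biprod.inr : B ⟶ A ⊞ B) x (stalkLin (biprod.snd : A ⊞ B ⟶ B) x e) = e := by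
  rw [← stalkLin_comp, ← stalkLin_comp, ← stalkLin_add, biprod.total, stalkLin_id]

theorem isCoh_biprod' [IsLocallyNoetherian X] {F G : X.Modules} (hF : Coh.IsCoh F)
    (hG : Coh.IsCoh G) : Coh.IsCoh (F ⊞ G) := by
  have := hF.1
  have := hG.1
  have hb := Cohom.isQuasicoherent_biprod F G
  refine ⟨hb, (isFiniteType_iff_moduleFinite _).2 fun U hU ↦ ?_⟩
  have := moduleFinite_of_isFiniteType F hF.2 hU
  have := moduleFinite_of_isFiniteType G hG.2 hU
  exact Module.Finite.of_surjective
    (LinearMap.coprod (appLinear (biprod.inl : F ⟶ F ⊞ G) U) (appLinear (biprod.inr : G ⟶ F ⊞ G) U))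
    fun s ↦ ⟨((biprod.fst : F ⊞ G ⟶ F).app U s, (biprod.snd : F ⊞ G ⟶ G).app U s), by
      have h := congrArg (fun p : F ⊞ G ⟶ F ⊞ G ↦ p.app U s) (biprod.total (X := F) (Y := G))
      simp only [Scheme.Modules.Hom.add_app, Scheme.Modules.Hom.comp_app,
        Scheme.Modules.Hom.id_app] at h
      exact h⟩

theorem killedByIdeal_biprod (I : X.IdealSheafData) {F G : X.Modules}
    (hF : ClSub.KilledByIdeal I F) (hG : ClSub.KilledByIdeal I G) :
    ClSub.KilledByIdeal I (F ⊞ G) := by
  intro U a ha m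
  have h := congrArg (fun p : F ⊞ G ⟶ F ⊞ G ↦ p.app U.1 m) (biprod.total (X := F) (Y := G))
  simp only [Scheme.Modules.Hom.add_app, Scheme.Modules.Hom.comp_app,
    Scheme.Modules.Hom.id_app] at h
  change appLinear (biprod.inl : F ⟶ F ⊞ G) U.1 (appLinear (biprod.fst : F ⊞ G ⟶ F) U.1 m) +
    appLinear (biprod.inr : G ⟶ F ⊞ G) U.1 (appLinear (biprod.snd : F ⊞ G ⟶ G) U.1 m) = m at h
  refine (congrArg (a • ·) h).symm.trans ((smul_add (M := Γ(X, U.1)) (A := Γ(F ⊞ G, U.1)) a _ _).trans
    ((congrArg₂ (· + ·) ?_ ?_).trans (add_zero _)))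
  · exact ((appLinear (biprod.inl : F ⟶ F ⊞ G) U.1).map_smul a _).symm.trans
      ((congrArg _ (hF U a ha _)).trans (map_zero _))
  · exact ((appLinear (biprod.inr : G ⟶ F ⊞ G) U.1).map_smul a _).symm.trans
      ((congrArg _ (hG U a ha _)).trans (map_zero _))

theorem exists_finset_span_stalk (G : X.Modules) [G.IsQuasicoherent]
    (hft : SheafOfModules.IsFiniteType.{u, u, u} (R := X.ringCatSheaf) G) (x : X) :
    ∃ s : Finset (G.presheaf.stalk x), Submodule.span (X.presheaf.stalk x) (↑s : Set (G.presheaf.stalk x)) = ⊤ := by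
  classical
  obtain ⟨W, hW, hxW, -⟩ := Opens.isBasis_iff_nbhd.1 X.isBasis_affineOpens (Opens.mem_top x)
  have := moduleFinite_of_isFiniteType G hft hW
  obtain ⟨t, ht⟩ := Module.finite_def.1 (inferInstance : Module.Finite Γ(X, W) Γ(G, W))
  refine ⟨t.image (fun z ↦ G.presheaf.germ W x hxW z), eq_top_iff.2 fun e _ ↦ ?_⟩
  obtain ⟨c, z, hc, hz⟩ := WeakAss.exists_smul_eq_germ hW hxW e
  set S := Submodule.span (X.presheaf.stalk x)
    ((t.image (fun z ↦ G.presheaf.germ W x hxW z) : Finset _) : Set (G.presheaf.stalk x))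
  have hall : ∀ z, G.presheaf.germ W x hxW z ∈ S := fun z ↦ by
    have hz' : z ∈ Submodule.span Γ(X, W) (t : Set Γ(G, W)) := ht ▸ Submodule.mem_top
    induction hz' using Submodule.span_induction with
    | mem y hy => exact Submodule.subset_span (Finset.mem_image_of_mem _ hy)
    | zero => rw [map_zero]; exact S.zero_mem
    | add a b _ _ ha hb => rw [map_add]; exact S.add_mem ha hb
    | smul r a _ ha => rw [WeakAss.germ_smul]; exact S.smul_mem _ ha
  have hu := (Scheme.mem_basicOpen _ c x hxW).mp (WeakAss.notMem_primeAt_iff.mp hc)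
  have he := S.smul_mem ((hu.unit⁻¹ : _ˣ) : X.presheaf.stalk x) (hz.symm ▸ hall z : _ • e ∈ S)
  rwa [smul_smul, IsUnit.val_inv_mul, one_smul] at he

variable [IsLocallyNoetherian X] {Z : Scheme.{u}} (i : Z ⟶ X) [IsClosedImmersion i] [IsIntegral Z]

omit [IsLocallyNoetherian X] in
/-- The generic stalk of the structure sheaf of `Z` is the residue field. -/
theorem nonempty_pushUnit_stalk_equiv :
    Nonempty ((pushUnit i).presheaf.stalk (i (genericPoint Z))
      ≃ₗ[X.presheaf.stalk (i (genericPoint Z))]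
        IsLocalRing.ResidueField (X.presheaf.stalk (i (genericPoint Z)))) := by
  let R := X.presheaf.stalk (i (genericPoint Z))
  let ψ := LinearMap.toSpanSingleton R _ (pushOne i)
  have hk : LinearMap.ker ψ = IsLocalRing.maximalIdeal R := by
    ext r
    rw [LinearMap.mem_ker, IsLocalRing.mem_maximalIdeal, mem_nonunits_iff]
    refine (smul_pushOne_eq_zero_iff i r).trans ⟨fun h hu ↦ ?_, fun h ↦ ?_⟩
    · exact one_ne_zero (α := Z.functionField)
        (isUnit_zero_iff.1 ((congrArg IsUnit h).mp (hu.map (i.stalkMap (genericPoint Z)).hom))).symm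
    · by_contra hr
      exact h ((isUnit_map_iff (i.stalkMap (genericPoint Z)).hom r).1
        (IsUnit.mk0 (G₀ := Z.functionField) _ hr))
  exact ⟨(ψ.quotKerEquivOfSurjective (exists_smul_pushOne_eq i)).symm.trans
    (Submodule.quotEquivOfEq _ _ hk)⟩

variable (P : X.Modules → Prop)

/-- For a class stable under coherent summands, a module that is nonzero at the generic point
yields the structure sheaf of `Z`. -/
theorem pushUnit_of_mem_support
    (h₁ : ∀ S : ShortComplex X.Modules, S.ShortExact → Coh.IsCoh S.X₁ → Coh.IsCoh S.X₂ →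
      Coh.IsCoh S.X₃ → CohB1.support S.X₂ ⊆ Set.range i →
      (P S.X₁ → P S.X₂ → P S.X₃) ∧ (P S.X₁ → P S.X₃ → P S.X₂) ∧ (P S.X₂ → P S.X₃ → P S.X₁))
    (hs : ∀ M : X.Modules, Coh.IsCoh M → CohB1.support M ⊆ Set.range i →
      i (genericPoint Z) ∉ CohB1.support M → P M)
    (hsum : ∀ (M N : X.Modules) (a : N ⟶ M) (r : M ⟶ N), a ≫ r = 𝟙 N → Coh.IsCoh M → Coh.IsCoh N →
      P M → P N)
    (G : X.Modules) (hG : Coh.IsCoh G) (hk : ClSub.KilledByIdeal i.ker G)
    (hx : i (genericPoint Z) ∈ CohB1.support G) (hPG : P G) : P (pushUnit i) := by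
  classical
  set x := i (genericPoint Z)
  have := hG.1
  have hF := pushUnit_isCoh i
  obtain ⟨s, hs'⟩ := exists_finset_span_stalk G hG.2 x
  suffices h : ∀ t : Finset (G.presheaf.stalk x), (∀ v ∈ t, v = 0) ∨
      ∃ (T : X.Modules) (φ : T.presheaf.stalk x →ₗ[X.presheaf.stalk x] G.presheaf.stalk x),
        Coh.IsCoh T ∧ ClSub.KilledByIdeal i.ker T ∧ Function.Injective φ ∧
        (∀ v ∈ t, v ∈ LinearMap.range φ) ∧
        ∃ (a : pushUnit i ⟶ T) (r : T ⟶ pushUnit i), a ≫ r = 𝟙 _ by
    rcases h s with h | ⟨T, φ, hT, hkT, hφi, hφt, a, r, har⟩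
    · refine absurd hx fun hx' ↦ hx' (subsingleton_of_forall_eq 0 fun e ↦ ?_)
      have he : e ∈ Submodule.span (X.presheaf.stalk x) (s : Set (G.presheaf.stalk x)) :=
        hs' ▸ Submodule.mem_top
      rw [Submodule.span_eq_bot.2 h] at he
      exact he
    have hφ : Function.Bijective φ := ⟨hφi, LinearMap.range_eq_top.1 (top_unique
      (hs'.symm.le.trans (Submodule.span_le.2 hφt)))⟩
    have hI := ker_eq_vanishingIdeal_closure i
    have hJ : Coh.IsCoh (graphAt T G x φ).obj := graphAt_isCoh _ _ _ φ hT hG i.ker hI hkT hk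
    have hJT := support_subset_range i _ (graph_killedByIdeal _ _ _ φ _ hkT hk)
    have hsnd : Function.Bijective (stalkLin (graphSnd T G x φ) x) := by
      have : ⇑(stalkLin (graphSnd T G x φ) x) = φ ∘ stalkLin (graphFst T G x φ) x :=
        funext fun j ↦ graphSnd_stalk T G x φ j
      rw [this]
      exact hφ.comp (graphFst_stalk_bijective _ _ _ _)
    have hPJ : P (graphAt T G x φ).obj :=
      (iff_of_stalk_bijective P _ x h₁ hs hJ hG hJT (support_subset_range i G hk) _ hsnd).2 hPG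
    exact hsum T _ a r har hT hF ((iff_of_stalk_bijective P _ x h₁ hs hJ hT hJT
      (support_subset_range i T hkT) _ (graphFst_stalk_bijective _ _ _ _)).1 hPJ)
  intro t
  induction t using Finset.induction_on with
  | empty => exact Or.inl (by simp)
  | @insert v t _ ih =>
    by_cases hv0 : v = 0
    · subst hv0
      rcases ih with h | ⟨T, φ, hT, hkT, hφi, hφt, h⟩
      · exact Or.inl ((Finset.forall_mem_insert _ _ _).2 ⟨rfl, h⟩)
      · exact Or.inr ⟨T, φ, hT, hkT, hφi,
          (Finset.forall_mem_insert _ _ _).2 ⟨zero_mem _, hφt⟩, h⟩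
    obtain ⟨ψ, hψv, hψi, -⟩ := exists_stalkMap_of_killed i G hk v
    refine Or.inr ?_
    rcases ih with h | ⟨T, φ, hT, hkT, hφi, hφt, a, r, har⟩
    · refine ⟨_, ψ, hF, pushUnit_killedByIdeal i, hψi hv0, (Finset.forall_mem_insert _ _ _).2
        ⟨⟨_, hψv⟩, fun w hw ↦ (h w hw).symm ▸ zero_mem _⟩, 𝟙 _, 𝟙 _, Category.comp_id _⟩
    by_cases hvr : v ∈ LinearMap.range φ
    · exact ⟨T, φ, hT, hkT, hφi, (Finset.forall_mem_insert _ _ _).2 ⟨hvr, hφt⟩, a, r, har⟩
    refine ⟨pushUnit i ⊞ T, ψ ∘ₗ stalkLin biprod.fst x + φ ∘ₗ stalkLin biprod.snd x,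
      isCoh_biprod' hF hT, killedByIdeal_biprod _ (pushUnit_killedByIdeal i) hkT, ?_, ?_,
      biprod.inl, biprod.fst, biprod.inl_fst⟩
    · refine (injective_iff_map_eq_zero _).2 fun e he ↦ ?_
      rw [LinearMap.add_apply, LinearMap.comp_apply, LinearMap.comp_apply] at he
      obtain ⟨c, hc⟩ := exists_smul_pushOne_eq i (stalkLin (biprod.fst : pushUnit i ⊞ T ⟶ _) x e)
      rw [← hc, map_smul, hψv] at he
      have hc0 : c • pushOne i = 0 := by
        refine (smul_pushOne_eq_zero_iff i c).2 ?_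
        by_contra hr
        have hu : IsUnit c := (isUnit_map_iff (i.stalkMap (genericPoint Z)).hom c).1
          (IsUnit.mk0 (G₀ := Z.functionField) _ hr)
        refine hvr ((Submodule.smul_mem_iff_of_isUnit _ hu).1 ?_)
        rw [eq_neg_of_add_eq_zero_left he]
        exact neg_mem ⟨_, rfl⟩
      have hcv : c • v = 0 := by rw [← hψv, ← map_smul, hc0, map_zero]
      rw [hcv, zero_add] at he
      rw [← biprod_stalk_total (pushUnit i) T x e, ← hc, hc0,
        hφi (he.trans (map_zero φ).symm), map_zero, map_zero, add_zero]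
    · refine (Finset.forall_mem_insert _ _ _).2
        ⟨⟨stalkLin biprod.inl x (pushOne i), ?_⟩, fun w hw ↦ ?_⟩
      · rw [LinearMap.add_apply, LinearMap.comp_apply, LinearMap.comp_apply, ← stalkLin_comp,
          ← stalkLin_comp, biprod.inl_fst, biprod.inl_snd, stalkLin_id, hψv]
        have : stalkLin (0 : pushUnit i ⟶ T) x (pushOne i) = 0 := by
          have h0 := stalkLin_add (0 : pushUnit i ⟶ T) 0 x (pushOne i)
          rw [add_zero] at h0
          exact left_eq_add.1 h0
        rw [this, map_zero, add_zero]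
      · obtain ⟨b, hb⟩ := hφt w hw
        refine ⟨stalkLin biprod.inr x b, ?_⟩
        rw [LinearMap.add_apply, LinearMap.comp_apply, LinearMap.comp_apply, ← stalkLin_comp,
          ← stalkLin_comp, biprod.inr_fst, biprod.inr_snd, stalkLin_id, hb]
        have : stalkLin (0 : T ⟶ pushUnit i) x b = 0 := by
          have h0 := stalkLin_add (0 : T ⟶ pushUnit i) 0 x b
          rw [add_zero] at h0
          exact left_eq_add.1 h0
        rw [this, map_zero, zero_add]

end GrothLib.QCoh
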