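import Groth.Agent.Lib.QCoh.FT
import Groth.Agent.Lib.QCoh.Extension
import Groth.Agent.Lib.QCoh.Qcqs
import Mathlib.AlgebraicGeometry.Morphisms.Finite

/-!
# Coherent modules on locally Noetherian schemes
-/

universe u

open CategoryTheory CategoryTheory.Limits Opposite TopologicalSpace AlgebraicGeometry
open AlgebraicGeometry.Scheme.Modules

namespace GrothLib.QCoh

variable {X : Scheme.{u}}

/-- A morphism of modules on the sections over an open, as a linear map. -/
noncomputable def appLinear {M N : X.Modules} (φ : M ⟶ N) (U : X.Opens) : Γ(M, U) →ₗ[Γ(X, U)] Γ(N, U) where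
  toFun := φ.app U
  map_add' a b := map_add _ a b
  map_smul' r a := Scheme.Modules.Hom.app_smul φ r a

theorem moduleFinite_of_mono [IsLocallyNoetherian X] {M N : X.Modules} (i : N ⟶ M) [Mono i]
    {U : X.Opens} (hU : IsAffineOpen U) [Module.Finite Γ(X, U) Γ(M, U)] :
    Module.Finite Γ(X, U) Γ(N, U) := by
  have : IsNoetherianRing Γ(X, U) := IsLocallyNoetherian.component_noetherian ⟨U, hU⟩
  have hS : (ShortComplex.mk i (cokernel.π i) (cokernel.condition i)).ShortExact :=
    { exact := ShortComplex.exact_cokernel i }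
  exact Module.Finite.of_injective (appLinear i U) (app_injective hS U)

theorem moduleFinite_cokernel {M N : X.Modules} [M.IsQuasicoherent] [N.IsQuasicoherent] (φ : M ⟶ N)
    {U : X.Opens} (hU : IsAffineOpen U) [Module.Finite Γ(X, U) Γ(N, U)] :
    Module.Finite Γ(X, U) Γ(cokernel φ, U) := by
  have hS : (ShortComplex.mk (kernel.ι (cokernel.π φ)) (cokernel.π φ)
      (kernel.condition _)).ShortExact :=
    { exact := ShortComplex.exact_kernel _ }
  have := isQuasicoherent_image φ
  exact Module.Finite.of_surjective (appLinear (cokernel.π φ) U)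
    (@app_surjective_of_isAffineOpen _ _ hS this U hU)

/-- On a locally Noetherian scheme quasi-coherent submodules of coherent modules are coherent. -/
theorem isFiniteType_of_mono [IsLocallyNoetherian X] {M N : X.Modules} (i : N ⟶ M) [Mono i]
    [M.IsQuasicoherent] [N.IsQuasicoherent]
    (hM : SheafOfModules.IsFiniteType.{u, u, u} (R := X.ringCatSheaf) M) :
    SheafOfModules.IsFiniteType.{u, u, u} (R := X.ringCatSheaf) N :=
  (isFiniteType_iff_moduleFinite N).2 fun _ hU ↦
    have := moduleFinite_of_isFiniteType M hM hU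
    moduleFinite_of_mono i hU

theorem isFiniteType_cokernel {M N : X.Modules} [M.IsQuasicoherent] [N.IsQuasicoherent] (φ : M ⟶ N)
    (hN : SheafOfModules.IsFiniteType.{u, u, u} (R := X.ringCatSheaf) N) :
    SheafOfModules.IsFiniteType.{u, u, u} (R := X.ringCatSheaf) (cokernel φ) :=
  (@isFiniteType_iff_moduleFinite _ (cokernel φ) (isQuasicoherent_cokernel φ)).2 fun _ hU ↦
    have := moduleFinite_of_isFiniteType N hN hU
    moduleFinite_cokernel φ hU

/-- Direct images along finite morphisms preserve finite type. -/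
theorem isFiniteType_pushforward {Y : Scheme.{u}} (f : X ⟶ Y) [IsFinite f] (M : X.Modules)
    [M.IsQuasicoherent] (hM : SheafOfModules.IsFiniteType.{u, u, u} (R := X.ringCatSheaf) M) :
    SheafOfModules.IsFiniteType.{u, u, u} (R := Y.ringCatSheaf)
      ((Scheme.Modules.pushforward f).obj M) := by
  have := isQuasicoherent_pushforward f M
  refine (isFiniteType_iff_moduleFinite _).2 fun U hU ↦ ?_
  have := moduleFinite_of_isFiniteType M hM (hU.preimage f)
  letI := (f.app U).hom.toAlgebra
  have : Module.Finite Γ(Y, U) Γ(X, f ⁻¹ᵁ U) := IsFinite.finite_app f U hU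
  letI : Module Γ(Y, U) Γ(M, f ⁻¹ᵁ U) := Module.compHom _ (f.app U).hom
  haveI : IsScalarTower Γ(Y, U) Γ(X, f ⁻¹ᵁ U) Γ(M, f ⁻¹ᵁ U) := .of_algebraMap_smul fun _ _ ↦ rfl
  have : Module.Finite Γ(Y, U) Γ(M, f ⁻¹ᵁ U) := Module.Finite.trans Γ(X, f ⁻¹ᵁ U) _
  exact this

end GrothLib.QCoh
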