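import Groth.Agent.Lib.OX.Exact
import Mathlib.AlgebraicGeometry.Modules.Sheaf
import Mathlib.Algebra.Category.ModuleCat.ChangeOfRings

/-!
# Stalks of inverse images of modules
-/

universe u

open CategoryTheory CategoryTheory.Limits Opposite AlgebraicGeometry TopologicalSpace

namespace GrothLib.QCoh

variable {X Y : Scheme.{u}} (f : Y ⟶ X) (y : Y)

theorem skySMul_eq (N : ModuleCat.{u} (Y.presheaf.stalk y)) (V : X.Opens) (r : Γ(X, V))
    (hy : f y ∈ V) (n : N) :
    (f.stalkMap y).hom (X.presheaf.germ V (f y) hy r) • n =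
      Y.presheaf.germ (f ⁻¹ᵁ V) y hy (f.app V r) • n :=
  congrArg (· • n) (Scheme.Hom.germ_stalkMap_apply f V y hy r)

/-- The direct image of a skyscraper is a skyscraper. -/
noncomputable def skyPushIso :
    OX.sky y ⋙ Scheme.Modules.pushforward f ≅
      ModuleCat.restrictScalars (f.stalkMap y).hom ⋙ OX.sky (f y) :=
  NatIso.ofComponents
    (fun N ↦
      { hom := ⟨PresheafOfModules.homMk
          { app := fun V ↦ AddCommGrpCat.ofHom
              (AddMonoidHom.mk' (fun φ h ↦ φ ⟨h.down⟩) fun _ _ ↦ rfl)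
            naturality := fun _ _ _ ↦ rfl }
          (fun V r φ ↦ funext fun h ↦ (skySMul_eq f y N V.unop r h.down (φ ⟨h.down⟩)).symm)⟩
        inv := ⟨PresheafOfModules.homMk
          { app := fun V ↦ AddCommGrpCat.ofHom
              (AddMonoidHom.mk' (fun φ h ↦ φ ⟨h.down⟩) fun _ _ ↦ rfl)
            naturality := fun _ _ _ ↦ rfl }
          (fun V r φ ↦ funext fun h ↦ skySMul_eq f y N V.unop r h.down (φ ⟨h.down⟩))⟩
        hom_inv_id := rfl
        inv_hom_id := rfl })
    (fun _ ↦ rfl)

/-- The stalk of an inverse image is the base change of the stalk. -/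
noncomputable def stalkPullbackIso :
    Scheme.Modules.pullback f ⋙ OX.stalk y ≅
      OX.stalk (f y) ⋙ ModuleCat.extendScalars (f.stalkMap y).hom :=
  Adjunction.leftAdjointUniq
    ((Scheme.Modules.pullbackPushforwardAdjunction f).comp (OX.stalkSkyAdj y))
    (((OX.stalkSkyAdj (f y)).comp
      (ModuleCat.extendRestrictScalarsAdj (f.stalkMap y).hom)).ofNatIsoRight (skyPushIso f y).symm)

end GrothLib.QCoh
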