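import Groth.Agent.Lib.QCoh.GenericPoint

/-!
# Supports in short exact sequences
-/

universe u

open CategoryTheory CategoryTheory.Limits Opposite AlgebraicGeometry TopologicalSpace

namespace GrothLib.QCoh

variable {X : Scheme.{u}}

theorem isClosed_support_of_isCoh {M : X.Modules} (hM : Coh.IsCoh M) :
    IsClosed (CohB1.support M) :=
  have := hM.1
  isClosed_support M hM.2

theorem support_subset_of_mono {M N : X.Modules} (f : M ⟶ N) [Mono f] :
    CohB1.support M ⊆ CohB1.support N :=
  fun x hx h ↦ hx (Function.Injective.subsingleton (stalkLin_injective f x))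

theorem stalkLin_surjective {M N : X.Modules} (f : M ⟶ N) [Epi f] (x : X) :
    Function.Surjective (stalkLin f x) :=
  (ModuleCat.epi_iff_surjective _).1 ((OX.epi_iff f).1 inferInstance x)

theorem support_subset_of_epi {M N : X.Modules} (f : M ⟶ N) [Epi f] :
    CohB1.support N ⊆ CohB1.support M :=
  fun x hx h ↦ hx (Function.Surjective.subsingleton (stalkLin_surjective f x))

theorem support_eq_of_iso {M N : X.Modules} (e : M ≅ N) : CohB1.support M = CohB1.support N :=
  (support_subset_of_mono e.hom).antisymm (support_subset_of_mono e.inv)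

theorem support_subset_union {S : ShortComplex X.Modules} (hS : S.ShortExact) :
    CohB1.support S.X₂ ⊆ CohB1.support S.X₁ ∪ CohB1.support S.X₃ := by
  intro x hx
  by_contra h
  simp only [CohB1.support, Set.mem_union, Set.mem_setOf_eq, not_or, not_not] at h
  obtain ⟨h₁, h₃⟩ := h
  refine hx ?_
  have he := ((OX.exact_iff S).1 hS.exact x)
  rw [ShortComplex.moduleCat_exact_iff] at he
  refine subsingleton_of_forall_eq 0 fun e ↦ ?_
  obtain ⟨a, rfl⟩ := he e (Subsingleton.elim (α := S.X₃.presheaf.stalk x) _ _)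
  exact (congrArg _ (Subsingleton.elim (α := S.X₁.presheaf.stalk x) a 0)).trans (map_zero _)

theorem notMem_support_kernel_of_injective {M N : X.Modules} (f : M ⟶ N) {x : X}
    (h : Function.Injective (stalkLin f x)) : x ∉ CohB1.support (kernel f) := by
  simp only [CohB1.support, Set.mem_setOf_eq, not_not]
  refine subsingleton_of_forall_eq 0 fun e ↦ stalkLin_injective (kernel.ι f) x ?_
  refine (h ?_).trans (map_zero _).symm
  rw [← stalkLin_comp, map_zero, kernel.condition]
  exact LinearMap.congr_fun (congrArg ModuleCat.Hom.hom ((OX.stalk x).map_zero (kernel f) N)) e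

theorem notMem_support_cokernel_of_surjective {M N : X.Modules} (f : M ⟶ N) {x : X}
    (h : Function.Surjective (stalkLin f x)) : x ∉ CohB1.support (cokernel f) := by
  simp only [CohB1.support, Set.mem_setOf_eq, not_not]
  refine subsingleton_of_forall_eq 0 fun e ↦ ?_
  obtain ⟨m, rfl⟩ := stalkLin_surjective (cokernel.π f) x e
  obtain ⟨l, rfl⟩ := h m
  rw [← stalkLin_comp, cokernel.condition]
  exact LinearMap.congr_fun (congrArg ModuleCat.Hom.hom ((OX.stalk x).map_zero M (cokernel f))) l

theorem stalk_subsingleton_of_notMem {M : X.Modules} {x : X} (h : x ∉ CohB1.support M) :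
    Subsingleton (M.presheaf.stalk x) := not_not.1 h

theorem isCoh_kernel [IsLocallyNoetherian X] {M N : X.Modules} (f : M ⟶ N) (hM : Coh.IsCoh M)
    (hN : Coh.IsCoh N) : Coh.IsCoh (kernel f) :=
  have := hM.1
  have := hN.1
  ⟨isQuasicoherent_kernel f,
    have := isQuasicoherent_kernel f
    isFiniteType_of_mono (kernel.ι f) hM.2⟩

theorem isCoh_cokernel {M N : X.Modules} (f : M ⟶ N) (hM : Coh.IsCoh M) (hN : Coh.IsCoh N) :
    Coh.IsCoh (cokernel f) :=
  have := hM.1
  have := hN.1
  ⟨isQuasicoherent_cokernel f, isFiniteType_cokernel f hN.2⟩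

theorem isCoh_of_iso {M N : X.Modules} (e : M ≅ N) (hM : Coh.IsCoh M) : Coh.IsCoh N := by
  have := hM.1
  have hN : N.IsQuasicoherent := isQuasicoherent_of_iso e
  refine ⟨hN, (isFiniteType_iff_moduleFinite _).2 fun U hU ↦ ?_⟩
  have := moduleFinite_of_isFiniteType M hM.2 hU
  exact Module.Finite.of_surjective (appLinear e.hom U) fun m ↦ ⟨e.inv.app U m, by
    change e.hom.app U (e.inv.app U m) = m
    rw [← ConcreteCategory.comp_apply, ← Scheme.Modules.Hom.comp_app, e.inv_hom_id]
    rfl⟩

theorem support_subset_of_killedByIdeal (M : X.Modules) (T : Closeds X)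
    (hk : ClSub.KilledByIdeal (Scheme.IdealSheafData.vanishingIdeal T) M) :
    CohB1.support M ⊆ T := by
  intro x hx
  by_contra hxT
  refine absurd hx ((notMem_support_iff M x).2 fun V hV z ↦ ?_)
  obtain ⟨W, hWA, hxW, hWV⟩ := Opens.isBasis_iff_nbhd.1 X.isBasis_affineOpens
    (show x ∈ V ⊓ ⟨(T : Set X)ᶜ, T.isClosed.isOpen_compl⟩ from ⟨hV, hxT⟩)
  have h1 : (1 : Γ(X, W)) ∈ (Scheme.IdealSheafData.vanishingIdeal T).ideal ⟨W, hWA⟩ :=
    (mem_vanishingIdeal_iff T ⟨W, hWA⟩ 1).2 fun y hy hyT ↦ absurd hyT (hWV hy).2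
  rw [← germ_map M (homOfLE (hWV.trans inf_le_left)) hxW z,
    show M.presheaf.map (homOfLE (hWV.trans inf_le_left)).op z = 0 from
      (one_smul Γ(X, W) _).symm.trans (hk ⟨W, hWA⟩ 1 h1 _), map_zero]

end GrothLib.QCoh
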