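import Mathlib.AlgebraicGeometry.Modules.Tilde

/-!
# Quasi-coherence is local on the scheme
-/

universe u

open CategoryTheory CategoryTheory.Limits Opposite TopologicalSpace AlgebraicGeometry
open AlgebraicGeometry.Scheme.Modules

namespace GrothLib.QCoh

variable {X : Scheme.{u}}

/-- The unit of the slice site is the restriction of the structure sheaf. -/
noncomputable def overUnitIso (U : X.Opens) :
    (overEquiv U).functor.obj (SheafOfModules.unit (X.ringCatSheaf.over U)) ≅
      SheafOfModules.unit (U : Scheme.{u}).ringCatSheaf :=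
  (overFunctorEquiv U).app (SheafOfModules.unit X.ringCatSheaf) ≪≫ restrictUnitIso U.ι

/-- A presentation of `M|_U` gives one of `M.over U`. -/
noncomputable def presentationOver {M : X.Modules} {U : X.Opens}
    (P : (M.restrict U.ι).Presentation) : (SheafOfModules.over M U).Presentation :=
  SheafOfModules.Presentation.ofIsIso.{u, u, u}
    (((overEquiv U).inverse.mapIso ((overFunctorEquiv U).app M).symm) ≪≫
      ((overEquiv U).unitIso.app (SheafOfModules.over M U)).symm).hom
    (P.map (overEquiv U).inverse
      ((overEquiv U).unitIso.app _ ≪≫ (overEquiv U).inverse.mapIso (overUnitIso U)))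

theorem isQuasicoherent_of_presentation {M : X.Modules} {ι : Type u} (U : ι → X.Opens)
    (hU : IsOpenCover U) (P : ∀ i, (M.restrict (U i).ι).Presentation) : M.IsQuasicoherent := by
  let q : SheafOfModules.QuasicoherentData.{u} (R := X.ringCatSheaf) M :=
    { I := ι
      X := U
      coversTop := (Opens.coversTop_iff _ U).2 hU
      presentation := fun i ↦ presentationOver (P i) }
  exact SheafOfModules.QuasicoherentData.isQuasicoherent.{u, u, u} (R := X.ringCatSheaf) q

/-- Quasi-coherence is local on an open cover. -/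
theorem isQuasicoherent_of_restrict (M : X.Modules) {ι : Type u} (U : ι → X.Opens)
    (hU : IsOpenCover U) (h : ∀ i, (M.restrict (U i).ι).IsQuasicoherent) : M.IsQuasicoherent := by
  choose κ W P hW _ using fun i ↦ @exists_isOpenCover_presentation _ (M.restrict (U i).ι) (h i)
  refine isQuasicoherent_of_presentation (fun j : Σ i, κ i ↦ (U j.1).ι ''ᵁ W j.1 j.2) ?_ fun j ↦ ?_
  · rw [IsOpenCover, eq_top_iff]
    intro x _
    obtain ⟨i, hi⟩ := hU.exists_mem x
    obtain ⟨k, hk⟩ := (hW i).exists_mem ⟨x, hi⟩
    exact Opens.mem_iSup.2 ⟨⟨i, k⟩, ⟨x, hi⟩, hk, rfl⟩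
  · let V := (U j.1).ι ''ᵁ W j.1 j.2
    let e := ((U j.1).ι.isoImage (W j.1 j.2))
    let i₁ : ((M.restrict (U j.1).ι).restrict (W j.1 j.2).ι).restrict e.inv ≅
        M.restrict V.ι :=
      ((restrictFunctorComp e.inv (W j.1 j.2).ι).symm.app (M.restrict (U j.1).ι)) ≪≫
        (restrictFunctorComp (e.inv ≫ (W j.1 j.2).ι) (U j.1).ι).symm.app M ≪≫
        (restrictFunctorCongr (by simp [e, V])).app M
    exact SheafOfModules.Presentation.ofIsIso.{u, u, u} i₁.hom
      (presentationRestrict e.inv (P j.1 j.2))

end GrothLib.QCoh
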