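import Groth.Agent.Lib.FlatFP.PullbackFlat
import Groth.Agent.Lib.FittSheaf.Pullback
import Groth.Agent.Lib.QCoh.Coherent

/-!
# Sections of inverse images of quasi-coherent modules on affine opens
-/

set_option autoImplicit false
set_option linter.style.haveILetI false
universe u

open CategoryTheory AlgebraicGeometry Opposite TopologicalSpace TensorProduct

namespace GrothLib.QCoh

variable {X Y : Scheme.{u}} (f : Y ⟶ X)

/-- The unit of the adjunction on a germ. -/
theorem stalkPullbackIso_germ (F : X.Modules) {y : Y} {U : X.Opens} (hy : f y ∈ U) (s : Γ(F, U)) :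
    letI : Algebra (X.presheaf.stalk (f y)) (Y.presheaf.stalk y) := (f.stalkMap y).hom.toAlgebra
    (((stalkPullbackIso f y).app F).hom.hom
      (((Scheme.Modules.pullback f).obj F).presheaf.germ (f ⁻¹ᵁ U) y hy
        (((Scheme.Modules.pullbackPushforwardAdjunction f).unit.app F).app U s)) :
      Y.presheaf.stalk y ⊗[X.presheaf.stalk (f y)] F.presheaf.stalk (f y)) =
    (1 : Y.presheaf.stalk y) ⊗ₜ F.presheaf.germ U (f y) hy s :=
  congrFun (congrArg (fun φ => Scheme.Modules.Hom.app φ U s)
    (Adjunction.unit_leftAdjointUniq_hom_app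
      ((Scheme.Modules.pullbackPushforwardAdjunction f).comp (OX.stalkSkyAdj y))
      (((OX.stalkSkyAdj (f y)).comp
        (ModuleCat.extendRestrictScalarsAdj (f.stalkMap y).hom)).ofNatIsoRight (skyPushIso f y).symm)
      F)) ⟨hy⟩

/-- The inverse image of a section. -/
noncomputable def pullSec (F : X.Modules) {U : X.Opens} {P : Y.Opens} (e : P ≤ f ⁻¹ᵁ U) :
    Γ(F, U) →+ Γ((Scheme.Modules.pullback f).obj F, P) :=
  (((Scheme.Modules.pullback f).obj F).presheaf.map (homOfLE e).op).hom.comp
    (((Scheme.Modules.pullbackPushforwardAdjunction f).unit.app F).app U).hom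

theorem pullSec_smul (F : X.Modules) {U : X.Opens} {P : Y.Opens} (e : P ≤ f ⁻¹ᵁ U) (a : Γ(X, U))
    (s : Γ(F, U)) : pullSec f F e (a • s) = f.appLE U P e a • pullSec f F e s := by
  let F' := (Scheme.Modules.pullback f).obj F
  have h1 : ((Scheme.Modules.pullbackPushforwardAdjunction f).unit.app F).app U (a • s) =
      f.app U a • (show Γ(F', f ⁻¹ᵁ U) from
        ((Scheme.Modules.pullbackPushforwardAdjunction f).unit.app F).app U s) :=
    Scheme.Modules.Hom.app_smul ((Scheme.Modules.pullbackPushforwardAdjunction f).unit.app F) a s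
  refine Eq.trans (congrArg (F'.presheaf.map (homOfLE e).op) h1) ?_
  exact Scheme.Modules.map_smul F' (homOfLE e) (f.app U a) _

/-- Pulling back sections commutes with homomorphisms. -/
theorem pullSec_natural {F G : X.Modules} (u : F ⟶ G) {U : X.Opens} {P : Y.Opens} (e : P ≤ f ⁻¹ᵁ U)
    (s : Γ(F, U)) : appLinear ((Scheme.Modules.pullback f).map u) P (pullSec f F e s) =
      pullSec f G e (appLinear u U s) := by
  have h := congrArg (fun φ => Scheme.Modules.Hom.app φ U s)
    ((Scheme.Modules.pullbackPushforwardAdjunction f).unit.naturality u)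
  show ((Scheme.Modules.pullback f).map u).app P (((Scheme.Modules.pullback f).obj F).presheaf.map _ _) =
    ((Scheme.Modules.pullback f).obj G).presheaf.map (homOfLE e).op _
  refine (congr($((Scheme.Modules.Hom.mapPresheaf ((Scheme.Modules.pullback f).map u)).naturality
    (homOfLE e).op) _)).trans ?_
  exact congrArg (((Scheme.Modules.pullback f).obj G).presheaf.map (homOfLE e).op) h.symm

section Affine

variable (F : X.Modules) {U : X.Opens} {P : Y.Opens} (e : P ≤ f ⁻¹ᵁ U)
  [Algebra Γ(X, U) Γ(Y, P)] (halg : algebraMap Γ(X, U) Γ(Y, P) = (f.appLE U P e).hom)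

/-- Base change of sections to the sections of the inverse image. -/
noncomputable def sectionsMap :
    Γ(Y, P) ⊗[Γ(X, U)] Γ(F, U) →ₗ[Γ(Y, P)] Γ((Scheme.Modules.pullback f).obj F, P) :=
  letI : Module Γ(X, U) Γ((Scheme.Modules.pullback f).obj F, P) :=
    Module.compHom _ (algebraMap Γ(X, U) Γ(Y, P))
  haveI : IsScalarTower Γ(X, U) Γ(Y, P) Γ((Scheme.Modules.pullback f).obj F, P) :=
    IsScalarTower.of_algebraMap_smul fun _ _ => rfl
  LinearMap.liftBaseChange Γ(Y, P)
    { toFun := pullSec f F e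
      map_add' := map_add _
      map_smul' := fun a s => by
        show pullSec f F e (a • s) = algebraMap Γ(X, U) Γ(Y, P) a • pullSec f F e s
        rw [pullSec_smul, halg] }

theorem sectionsMap_tmul (b : Γ(Y, P)) (s : Γ(F, U)) :
    sectionsMap f F e halg (b ⊗ₜ s) = b • pullSec f F e s := rfl

theorem sectionsMap_natural {G : X.Modules} (u : F ⟶ G) (z : Γ(Y, P) ⊗[Γ(X, U)] Γ(F, U)) :
    appLinear ((Scheme.Modules.pullback f).map u) P (sectionsMap f F e halg z) =
      sectionsMap f G e halg ((appLinear u U).baseChange Γ(Y, P) z) := by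
  induction z using TensorProduct.induction_on with
  | zero => simp
  | add a b ha hb => simp only [map_add, ha, hb]
  | tmul b s =>
    rw [LinearMap.baseChange_tmul, sectionsMap_tmul, sectionsMap_tmul, map_smul, pullSec_natural]

set_option maxHeartbeats 1000000 in
/-- The germ of `sectionsMap` is a localisation. -/
theorem isLocalizedModule_germ_sectionsMap [F.IsQuasicoherent] (hU : IsAffineOpen U)
    (hP : IsAffineOpen P) {y : Y} (hy : y ∈ P) :
    letI : Module Γ(Y, P) (((Scheme.Modules.pullback f).obj F).presheaf.stalk y) :=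
      Module.compHom _ (Y.presheaf.germ P y hy).hom
    ∃ g : Γ(Y, P) ⊗[Γ(X, U)] Γ(F, U) →ₗ[Γ(Y, P)]
        ((Scheme.Modules.pullback f).obj F).presheaf.stalk y,
      IsLocalizedModule (WeakAss.primeAt y hy).primeCompl g ∧
        ∀ z, g z = ((Scheme.Modules.pullback f).obj F).presheaf.germ P y hy
          (sectionsMap f F e halg z) := by
  let F' := (Scheme.Modules.pullback f).obj F
  let Oy := Y.presheaf.stalk y
  let Ox := X.presheaf.stalk (f y)
  letI := Y.presheaf.algebra_section_stalk ⟨y, hy⟩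
  haveI := FlatFP.isLocalization_stalk_primeAt hP hy
  letI := X.presheaf.algebra_section_stalk ⟨f.base y, e hy⟩
  haveI := FlatFP.isLocalization_stalk_primeAt hU (e hy)
  letI : Module Γ(X, U) (F.presheaf.stalk (f.base y)) :=
    Module.compHom _ (X.presheaf.germ U (f.base y) (e hy)).hom
  haveI : IsScalarTower Γ(X, U) Ox (F.presheaf.stalk (f.base y)) :=
    IsScalarTower.of_algebraMap_smul fun _ _ => rfl
  obtain ⟨g₀, hg₀, hg₀'⟩ := FlatFP.isLocalizedModule_germ F hU (e hy)
  letI : Algebra Ox Oy := (f.stalkMap y).hom.toAlgebra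
  letI : Algebra Γ(X, U) Oy := ((algebraMap Γ(Y, P) Oy).comp (algebraMap Γ(X, U) Γ(Y, P))).toAlgebra
  haveI : IsScalarTower Γ(X, U) Γ(Y, P) Oy := IsScalarTower.of_algebraMap_eq fun _ => rfl
  haveI : IsScalarTower Γ(X, U) Ox Oy :=
    IsScalarTower.of_algebraMap_eq fun a => by
      show Y.presheaf.germ P y hy (algebraMap Γ(X, U) Γ(Y, P) a) =
        (f.stalkMap y) (X.presheaf.germ U (f y) (e hy) a)
      rw [Scheme.Hom.germ_stalkMap_apply, halg]
      exact TopCat.Presheaf.germ_res_apply Y.presheaf (homOfLE e) y hy _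
  let iso : F'.presheaf.stalk y ≃ₗ[Oy] Oy ⊗[Ox] F.presheaf.stalk (f.base y) :=
    ((stalkPullbackIso f y).app F).toLinearEquiv
  letI : Module Γ(Y, P) (F'.presheaf.stalk y) := Module.compHom _ (Y.presheaf.germ P y hy).hom
  haveI : IsScalarTower Γ(Y, P) Oy (F'.presheaf.stalk y) :=
    IsScalarTower.of_algebraMap_smul fun _ _ => rfl
  let g : Γ(Y, P) ⊗[Γ(X, U)] Γ(F, U) →ₗ[Γ(Y, P)] F'.presheaf.stalk y :=
    { toFun := fun z => F'.presheaf.germ P y hy (sectionsMap f F e halg z)
      map_add' := fun a b => by rw [map_add, map_add]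
      map_smul' := fun a z => by
        rw [map_smul]
        exact WeakAss.germ_smul hy a _ }
  refine ⟨g, ?_, fun _ => rfl⟩
  haveI : SMulCommClass Ox Γ(Y, P) Oy := ⟨fun a b c => by simp [Algebra.smul_def, mul_left_comm]⟩
  haveI : IsScalarTower Γ(Y, P) Oy (Oy ⊗[Ox] F.presheaf.stalk (f.base y)) :=
    TensorProduct.isScalarTower_left
  let j : Γ(F, U) →ₗ[Γ(X, U)] Oy ⊗[Ox] F.presheaf.stalk (f.base y) :=
    ((TensorProduct.mk Ox Oy (F.presheaf.stalk (f.base y)) 1).restrictScalars Γ(X, U)).comp g₀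
  have hj : IsLocalizedModule (WeakAss.primeAt y hy).primeCompl ((iso.restrictScalars Γ(Y, P)).toLinearMap ∘ₗ g) := by
    refine (isLocalizedModule_iff_isBaseChange _ Oy _).mpr ?_
    haveI : IsScalarTower Γ(X, U) Γ(Y, P) (Oy ⊗[Ox] F.presheaf.stalk (f.base y)) :=
      IsScalarTower.of_algebraMap_smul fun r z => by
        rw [← algebraMap_smul Oy (algebraMap Γ(X, U) Γ(Y, P) r) z, ← IsScalarTower.algebraMap_apply,
          algebraMap_smul]
    refine IsBaseChange.of_comp (TensorProduct.isBaseChange Γ(X, U) Γ(F, U) Γ(Y, P)) ?_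
    convert (IsLocalizedModule.isBaseChange (WeakAss.primeAt (f.base y) (e hy)).primeCompl Ox g₀).comp
      (TensorProduct.isBaseChange Ox (F.presheaf.stalk (f.base y)) Oy) using 1
    ext s
    show iso (F'.presheaf.germ P y hy (sectionsMap f F e halg ((1 : Γ(Y, P)) ⊗ₜ s))) =
      (1 : Oy) ⊗ₜ[Ox] g₀ s
    rw [sectionsMap_tmul, one_smul, hg₀', show pullSec f F e s = F'.presheaf.map (homOfLE e).op _ from rfl,
      TopCat.Presheaf.germ_res_apply]
    exact stalkPullbackIso_germ f F (e hy) s
  haveI := hj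
  have := IsLocalizedModule.of_linearEquiv (WeakAss.primeAt y hy).primeCompl
    ((iso.restrictScalars Γ(Y, P)).toLinearMap ∘ₗ g) (iso.restrictScalars Γ(Y, P)).symm
  convert this using 1
  ext z
  simp

/-- **Sections of an inverse image on affine opens are base changes.** -/
theorem bijective_sectionsMap [F.IsQuasicoherent] (hU : IsAffineOpen U) (hP : IsAffineOpen P) :
    Function.Bijective (sectionsMap f F e halg) := by
  let F' := (Scheme.Modules.pullback f).obj F
  haveI : F'.IsQuasicoherent := FittSheaf.isQuasicoherent_pullback f F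
  refine ⟨?_, ?_⟩
  · rw [injective_iff_map_eq_zero]
    intro z hz
    suffices ((⊥ : Submodule Γ(Y, P) _).colon {z}) = ⊤ by
      have h1 : (1 : Γ(Y, P)) ∈ (⊥ : Submodule Γ(Y, P) (Γ(Y, P) ⊗[Γ(X, U)] Γ(F, U))).colon {z} :=
        this ▸ Submodule.mem_top
      simpa [Submodule.mem_colon_singleton] using h1
    by_contra hne
    obtain ⟨Q, hQ, hle⟩ := Ideal.exists_le_maximal _ hne
    obtain ⟨y, hy, rfl⟩ := AssPts.exists_point hP Q hQ.isPrime
    letI : Module Γ(Y, P) (F'.presheaf.stalk y) := Module.compHom _ (Y.presheaf.germ P y hy).hom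
    obtain ⟨g, hg, hg'⟩ := isLocalizedModule_germ_sectionsMap f F e halg hU hP hy
    obtain ⟨c, hc⟩ := (IsLocalizedModule.eq_zero_iff (WeakAss.primeAt y hy).primeCompl g).mp
      (by rw [hg', hz, map_zero] : g z = 0)
    exact c.2 (hle (Submodule.mem_colon_singleton.mpr ((Submodule.mem_bot _).mpr hc)))
  · intro σ
    let a := (LinearMap.range (sectionsMap f F e halg)).colon {σ}
    suffices a = ⊤ by
      have h1 : (1 : Γ(Y, P)) ∈ a := this ▸ Submodule.mem_top
      have h2 := Submodule.mem_colon_singleton.mp h1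
      rw [one_smul] at h2
      exact h2
    by_contra hne
    obtain ⟨Q, hQ, hle⟩ := Ideal.exists_le_maximal _ hne
    obtain ⟨y, hy, rfl⟩ := AssPts.exists_point hP Q hQ.isPrime
    letI : Module Γ(Y, P) (F'.presheaf.stalk y) := Module.compHom _ (Y.presheaf.germ P y hy).hom
    obtain ⟨g, hg, hg'⟩ := isLocalizedModule_germ_sectionsMap f F e halg hU hP hy
    obtain ⟨gl, hgl, hgl'⟩ := FlatFP.isLocalizedModule_germ F' hP hy
    obtain ⟨⟨z, c⟩, hz⟩ := IsLocalizedModule.surj (WeakAss.primeAt y hy).primeCompl g (gl σ)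
    obtain ⟨c', hc'⟩ := (IsLocalizedModule.eq_iff_exists (WeakAss.primeAt y hy).primeCompl gl
      (x₁ := (c : Γ(Y, P)) • σ) (x₂ := sectionsMap f F e halg z)).mp (by
        rw [map_smul, hgl' (sectionsMap f F e halg z), ← hg']
        exact hz)
    have hmem : (c' : Γ(Y, P)) * c ∈ a := Submodule.mem_colon_singleton.mpr ⟨(c' : Γ(Y, P)) • z, by
      rw [map_smul, mul_smul]
      exact hc'.symm⟩
    exact (WeakAss.primeAt y hy).primeCompl.mul_mem c'.2 c.2 (hle hmem)

end Affine

end GrothLib.QCoh
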