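import Groth.Agent.Lib.QCoh.Support
import Groth.Agent.Lib.QCoh.ClosedImmersion
import Groth.Agent.Lib.QCoh.Coherent
import Groth.Prelude.Def_ClSub2
import Mathlib.RingTheory.Support

/-!
# The scheme-theoretic support of a module of finite type
-/

universe u

open CategoryTheory CategoryTheory.Limits Opposite TopologicalSpace AlgebraicGeometry
open GrothLib.Cohom (map_map_apply map_self_apply ringMap_map_apply)

namespace GrothLib.QCoh

variable {X : Scheme.{u}}

/-- The annihilator ideal sheaf. -/
noncomputable def annIdeal (F : X.Modules) [F.IsQuasicoherent]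
    (hft : SheafOfModules.IsFiniteType.{u, u, u} (R := X.ringCatSheaf) F) : X.IdealSheafData where
  ideal U := Module.annihilator Γ(X, U.1) Γ(F, U.1)
  map_ideal_basicOpen U f := by
    let ρ := (X.presheaf.map (homOfLE (X.basicOpen_le f)).op).hom
    obtain ⟨hl, hs⟩ := smulLift_and_smulSep_of_isAffineOpen U.2 F f
    have hu : IsUnit (ρ f) := RingedSpace.isUnit_res_basicOpen X.toRingedSpace f
    have hmem : ∀ b : Γ(X, X.basicOpen f), b ∈ (show Ideal Γ(X, X.basicOpen f) from
        Module.annihilator Γ(X, (X.affineBasicOpen f).1) Γ(F, (X.affineBasicOpen f).1)) ↔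
          ∀ s : Γ(F, X.basicOpen f), b • s = 0 :=
      fun b ↦ @Module.mem_annihilator Γ(X, X.basicOpen f) Γ(F, X.basicOpen f) _ _ _ b
    refine le_antisymm (Ideal.map_le_iff_le_comap.2 fun a ha ↦ ?_) fun (b : Γ(X, X.basicOpen f)) hb ↦ ?_
    · refine (hmem _).2 fun s ↦ ?_
      obtain ⟨n, t, ht⟩ := hl s
      refine (hu.pow n).smul_eq_zero.1 ?_
      change ρ f ^ n • ρ a • s = 0
      rw [smul_comm]
      refine (congrArg (ρ a • ·) ht.symm).trans ?_
      refine (F.map_smul (homOfLE (X.basicOpen_le f)) a t).symm.trans ?_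
      rw [Module.mem_annihilator.1 ha t, map_zero]
    · have := U.2.isLocalization_basicOpen f
      have : Module.Finite Γ(X, U.1) Γ(F, U.1) := moduleFinite_of_isFiniteType F hft U.2
      obtain ⟨a, ⟨c, n, rfl⟩, hab⟩ := IsLocalization.exists_mk'_eq (Submonoid.powers f) b
      have hb0 := (hmem b).1 hb
      have hb' : ∀ m : Γ(F, U.1), ∃ k : ℕ, f ^ k • a • m = 0 := fun m ↦ by
        refine hs (a • m) ((F.map_smul (homOfLE (X.basicOpen_le f)) a m).trans ?_)
        have : ρ a = ρ (f ^ n) * b := (IsLocalization.mk'_eq_iff_eq_mul.1 hab).trans (mul_comm _ _)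
        rw [show X.presheaf.map (homOfLE (X.basicOpen_le f)).op a = _ from this]
        rw [mul_smul, hb0, smul_zero]
      choose k hk using hb'
      obtain ⟨G, hG⟩ := Module.Finite.fg_top (R := Γ(X, U.1)) (M := Γ(F, U.1))
      have hK : f ^ G.sup k * a ∈ Module.annihilator Γ(X, U.1) Γ(F, U.1) := by
        refine Module.mem_annihilator.2 fun m ↦ ?_
        have : m ∈ Submodule.span Γ(X, U.1) (G : Set Γ(F, U.1)) := by rw [hG]; trivial
        induction this using Submodule.span_induction with
        | mem x hx =>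
          obtain ⟨j, hj⟩ := Nat.exists_eq_add_of_le (Finset.le_sup (f := k) hx)
          rw [hj, pow_add, mul_comm (f ^ k x), mul_assoc, mul_smul, mul_smul, hk, smul_zero]
        | zero => exact smul_zero _
        | add x y _ _ hx hy => rw [smul_add, hx, hy, add_zero]
        | smul r x _ hx => rw [smul_comm, hx, smul_zero]
      have h1 : ρ a ∈ (Module.annihilator Γ(X, U.1) Γ(F, U.1)).map ρ := by
        have h := Ideal.mem_map_of_mem ρ hK
        rw [map_mul, map_pow] at h
        exact (Ideal.unit_mul_mem_iff_mem _ (hu.pow _)).1 h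
      rw [show ρ a = ρ (f ^ n) * b from (IsLocalization.mk'_eq_iff_eq_mul.1 hab).trans (mul_comm _ _),
        map_pow] at h1
      exact (Ideal.unit_mul_mem_iff_mem _ (hu.pow _)).1 h1

variable (F : X.Modules) [F.IsQuasicoherent]
  (hft : SheafOfModules.IsFiniteType.{u, u, u} (R := X.ringCatSheaf) F)

theorem annIdeal_ideal (U : X.affineOpens) :
    (annIdeal F hft).ideal U = Module.annihilator Γ(X, U.1) Γ(F, U.1) := rfl

theorem killedByIdeal_annIdeal : ClSub.KilledByIdeal (annIdeal F hft) F :=
  fun _ _ ha m ↦ Module.mem_annihilator.1 ha m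

theorem isIso_unit_annIdeal :
    IsIso ((Scheme.Modules.pullbackPushforwardAdjunction (annIdeal F hft).subschemeι).unit.app F) :=
  isIso_unit_of_killed _ F (by
    rw [Scheme.IdealSheafData.ker_subschemeι]; exact killedByIdeal_annIdeal F hft)

theorem coe_support_annIdeal : ((annIdeal F hft).support : Set X) = CohB1.support F := by
  ext x
  obtain ⟨U, hU, hxU, -⟩ := Opens.isBasis_iff_nbhd.1 X.isBasis_affineOpens (Opens.mem_top x)
  have : Module.Finite Γ(X, U) Γ(F, U) := moduleFinite_of_isFiniteType F hft hU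
  refine (Scheme.IdealSheafData.mem_support_iff_of_mem (U := ⟨U, hU⟩) hxU).trans ?_
  rw [mem_support_iff_primeAt F hU hxU, Module.support_eq_zeroLocus, annIdeal_ideal,
    Scheme.mem_zeroLocus_iff, PrimeSpectrum.mem_zeroLocus, SetLike.coe_subset_coe]
  constructor
  · intro h a ha
    by_contra hc
    exact h a ha (WeakAss.notMem_primeAt_iff.mp hc)
  · intro h a ha hx
    exact WeakAss.notMem_primeAt_iff.mpr hx (h ha)

omit [F.IsQuasicoherent] in
/-- A closed subscheme on which the module lives has ideal killing it. -/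
theorem killedByIdeal_of_isIso_unit (J : X.IdealSheafData)
    [IsIso ((Scheme.Modules.pullbackPushforwardAdjunction J.subschemeι).unit.app F)] :
    ClSub.KilledByIdeal J F := by
  intro U a ha m
  let η := (Scheme.Modules.pullbackPushforwardAdjunction J.subschemeι).unit.app F
  let e := asIso η
  have h0 : J.subschemeι.app U.1 a = 0 := by
    have h : a ∈ J.subschemeι.ker.ideal U := by rw [Scheme.IdealSheafData.ker_subschemeι]; exact ha
    rwa [Scheme.Hom.ker_apply, RingHom.mem_ker] at h
  have hinj : Function.Injective (η.app U.1) := fun x y h ↦ by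
    have := congrArg (e.inv.app U.1) h
    rw [← ConcreteCategory.comp_apply, ← ConcreteCategory.comp_apply,
      ← Scheme.Modules.Hom.comp_app, show η ≫ e.inv = 𝟙 _ from e.hom_inv_id] at this
    exact this
  apply hinj
  refine ((appLinear η U.1).map_smul a m).trans ?_
  refine Eq.trans ?_ (map_zero _).symm
  let w : Γ((Scheme.Modules.pullback J.subschemeι).obj F, J.subschemeι ⁻¹ᵁ U.1) := appLinear η U.1 m
  change J.subschemeι.app U.1 a • w = 0
  rw [h0, zero_smul]

end GrothLib.QCoh
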