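import Groth.Agent.Lib.QCoh.Pieces
import Mathlib.CategoryTheory.Subobject.Basic
import Mathlib.Order.OrderIsoNat

/-!
# The ascending chain condition and filtrations of coherent modules
-/

universe u

open CategoryTheory CategoryTheory.Limits Opposite AlgebraicGeometry TopologicalSpace

namespace GrothLib.QCoh

variable {X : Scheme.{u}}

/-- A map of quasi-coherent modules bijective on the sections over an affine cover is an
isomorphism. -/
theorem isIso_of_bijective_on_cover {M N : X.Modules} [M.IsQuasicoherent] [N.IsQuasicoherent]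
    (f : M ⟶ N) {ι : Type u} (U : ι → X.Opens) (hU : IsOpenCover U) (hA : ∀ i, IsAffineOpen (U i))
    (h : ∀ i, Function.Bijective (f.app (U i))) : IsIso f := by
  refine (OX.isIso_iff f).2 fun x ↦ (ConcreteCategory.isIso_iff_bijective _).2 ?_
  change Function.Bijective (stalkLin f x)
  obtain ⟨i, hi⟩ := hU.exists_mem x
  refine ⟨(injective_iff_map_eq_zero _).2 fun e he ↦ ?_, fun e ↦ ?_⟩
  · obtain ⟨c, z, hc, hz⟩ := WeakAss.exists_smul_eq_germ (hA i) hi e
    have hu : IsUnit (X.presheaf.germ (U i) x hi c) :=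
      (Scheme.mem_basicOpen _ c x hi).mp (WeakAss.notMem_primeAt_iff.mp hc)
    have h0 : N.presheaf.germ (U i) x hi (f.app (U i) z) = 0 := by
      rw [← stalkLin_germ, ← hz, map_smul, he, smul_zero]
    obtain ⟨c', hc', hcz⟩ := (WeakAss.germ_eq_zero_iff (hA i) hi _).1 h0
    have hz0 : M.presheaf.germ (U i) x hi z = 0 :=
      (WeakAss.germ_eq_zero_iff (hA i) hi z).2 ⟨c', hc', (h i).1 <|
        ((appLinear f (U i)).map_smul c' z).trans (hcz.trans (map_zero _).symm)⟩
    exact hu.smul_eq_zero.1 (hz.trans hz0)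
  · obtain ⟨c, z, hc, hz⟩ := WeakAss.exists_smul_eq_germ (hA i) hi e
    have hu : IsUnit (X.presheaf.germ (U i) x hi c) :=
      (Scheme.mem_basicOpen _ c x hi).mp (WeakAss.notMem_primeAt_iff.mp hc)
    obtain ⟨w, rfl⟩ := (h i).2 z
    refine ⟨((hu.unit⁻¹ : _ˣ) : X.presheaf.stalk x) • M.presheaf.germ (U i) x hi w, ?_⟩
    rw [map_smul, stalkLin_germ, ← hz, smul_smul, IsUnit.val_inv_mul, one_smul]

/-- Ascending chains of quasi-coherent submodules of a coherent module stabilise. -/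
theorem exists_stable [IsNoetherian X] (M : X.Modules) (hM : Coh.IsCoh M) (P : ℕ → X.Modules)
    (hP : ∀ n, (P n).IsQuasicoherent) (ι : ∀ n, P n ⟶ M) [∀ n, Mono (ι n)]
    (u : ∀ n, P n ⟶ P (n + 1)) (hu : ∀ n, u n ≫ ι (n + 1) = ι n) :
    ∃ n, ∀ m, n ≤ m → IsIso (u m) := by
  obtain ⟨s, hs⟩ := CompactSpace.elim_nhds_subcover (fun x : X ↦ ((exists_isAffineOpen_mem_and_subset
      (X := X) (x := x) (U := ⊤) trivial).choose : Set X))
    fun x ↦ ((exists_isAffineOpen_mem_and_subset (X := X) (x := x) (U := ⊤) trivial).choose.isOpen.mem_nhds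
      (exists_isAffineOpen_mem_and_subset (X := X) (x := x) (U := ⊤) trivial).choose_spec.2.1)
  let U : s → X.Opens := fun x ↦
    (exists_isAffineOpen_mem_and_subset (X := X) (x := x.1) (U := ⊤) trivial).choose
  have hA : ∀ x, IsAffineOpen (U x) := fun x ↦
    (exists_isAffineOpen_mem_and_subset (X := X) (x := x.1) (U := ⊤) trivial).choose_spec.1
  have hU : IsOpenCover U := top_le_iff.1 fun y _ ↦ by
    have hy : y ∈ (⊤ : Set X) := trivial
    rw [← hs] at hy
    obtain ⟨x, hx, hyx⟩ := Set.mem_iUnion₂.1 hy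
    exact Opens.mem_iSup.2 ⟨⟨x, hx⟩, hyx⟩
  have hst : ∀ x : s, ∃ n, ∀ m, n ≤ m →
      LinearMap.range (appLinear (ι m) (U x)) = LinearMap.range (appLinear (ι n) (U x)) := by
    intro x
    have := hM.1
    have := moduleFinite_of_isFiniteType M hM.2 (hA x)
    have : IsNoetherianRing Γ(X, U x) := IsLocallyNoetherian.component_noetherian ⟨U x, hA x⟩
    let A : ℕ →o Submodule Γ(X, U x) Γ(M, U x) :=
      ⟨fun n ↦ LinearMap.range (appLinear (ι n) (U x)), monotone_nat_of_le_succ fun n ↦ by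
        rintro m ⟨w, rfl⟩
        refine ⟨(u n).app (U x) w, ?_⟩
        change (ι (n + 1)).app (U x) ((u n).app (U x) w) = (ι n).app (U x) w
        rw [← ConcreteCategory.comp_apply, ← Scheme.Modules.Hom.comp_app, hu]⟩
    obtain ⟨n, hn⟩ := monotone_stabilizes_iff_noetherian.2
      (inferInstance : IsNoetherian Γ(X, U x) Γ(M, U x)) A
    exact ⟨n, fun m hm ↦ (hn m hm).symm⟩
  choose n hn using hst
  refine ⟨Finset.univ.sup n, fun m hm ↦ ?_⟩
  refine isIso_of_bijective_on_cover (u m) U hU hA fun x ↦ ⟨?_, fun w ↦ ?_⟩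
  · have : Mono (u m) := mono_of_mono_fac (hu m)
    exact Cohom.app_injective_of_mono (u m) (U x)
  · have hnm : n x ≤ m := (Finset.le_sup (f := n) (Finset.mem_univ x)).trans hm
    have h' : (ι (m + 1)).app (U x) w ∈ LinearMap.range (appLinear (ι m) (U x)) := by
      rw [hn x m hnm, ← hn x (m + 1) (hnm.trans m.le_succ)]
      exact ⟨w, rfl⟩
    obtain ⟨v, hv⟩ := h'
    refine ⟨v, Cohom.app_injective_of_mono (ι (m + 1)) (U x) ?_⟩
    rw [← ConcreteCategory.comp_apply, ← Scheme.Modules.Hom.comp_app, hu]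
    exact hv

/-- One step of the filtration: enlarge a proper submodule by a piece. -/
theorem exists_step [IsNoetherian X] (M : X.Modules) (hM : Coh.IsCoh M) {A : X.Modules}
    (hA : Coh.IsCoh A) (a : A ⟶ M) [Mono a] (h : ¬ IsZero (cokernel a)) :
    ∃ (B : X.Modules) (b : B ⟶ M) (u : A ⟶ B), Mono b ∧ Coh.IsCoh B ∧ u ≫ b = a ∧ ¬ IsIso u ∧
      ∃ (Z : Scheme.{u}) (i : Z ⟶ X), IsClosedImmersion i ∧ IsIntegral Z ∧
        ∃ (N : Z.Modules) (ι : N ⟶ Coh.structureModule Z), Mono ι ∧ Coh.IsCoh N ∧ ¬ IsZero N ∧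
          ∃ (h : B ⟶ (Coh.push i).obj N) (w : u ≫ h = 0),
            (ShortComplex.mk u h w).ShortExact := by
  have := hM.1
  obtain ⟨Z, i, hi, hZ, N, ι, hι, hN, hN0, f, hf⟩ :=
    exists_piece _ (isCoh_cokernel a hA hM) h
  let u : A ⟶ pullback (cokernel.π a) f := pullback.lift a 0 (by simp)
  have hu : u ≫ pullback.fst _ _ = a := pullback.lift_fst _ _ _
  have hu0 : u ≫ pullback.snd (cokernel.π a) f = 0 := pullback.lift_snd _ _ _
  have : Mono u := mono_of_mono_fac hu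
  have hS : (ShortComplex.mk u (pullback.snd (cokernel.π a) f) hu0).ShortExact := by
    refine ShortComplex.ShortExact.mk' (ShortComplex.exact_of_f_is_kernel _ ?_) inferInstance inferInstance
    refine KernelFork.IsLimit.ofι u hu0
      (fun {W} g hg ↦ Abelian.monoLift a (g ≫ pullback.fst _ _) (by
        rw [Category.assoc, pullback.condition, ← Category.assoc, hg, zero_comp]))
      (fun g hg ↦ ?_) (fun g hg m hm ↦ ?_)
    · refine pullback.hom_ext ?_ ?_
      · rw [Category.assoc, hu, Abelian.monoLift_comp]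
      · rw [Category.assoc, hu0, comp_zero, hg]
    · rw [← cancel_mono a, Abelian.monoLift_comp, ← hm, Category.assoc, hu]
  have hpq : Coh.IsCoh ((Coh.push i).obj N) := by
    have := hN.1
    have : IsLocallyNoetherian Z := LocallyOfFiniteType.isLocallyNoetherian i
    exact ⟨isQuasicoherent_pushforward i N, isFiniteType_pushforward i N hN.2⟩
  have hBq : (pullback (cokernel.π a) f).IsQuasicoherent := by
    have := hA.1
    have := hpq.1
    exact isQuasicoherent_X₂ hS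
  refine ⟨_, pullback.fst (cokernel.π a) f, u, inferInstance,
    ⟨hBq, isFiniteType_of_mono (pullback.fst (cokernel.π a) f) hM.2⟩, hu, fun hiso ↦ hN0 ?_,
    Z, i, hi, hZ, N, ι, hι, hN, hN0, pullback.snd _ _, hu0, hS⟩
  have h0 : pullback.snd (cokernel.π a) f = 0 := by rw [← cancel_epi u, hu0, comp_zero]
  have hz : IsZero ((Coh.push i).obj N) := by
    have := hS.epi_g
    exact IsZero.of_epi_eq_zero _ h0
  refine (IsZero.iff_id_eq_zero N).2 (Scheme.Modules.hom_ext _ _ fun W ↦ ?_)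
  obtain ⟨O, hO, hOW⟩ := i.isClosedEmbedding.isInducing.isOpen_iff.1 W.isOpen
  obtain rfl : i ⁻¹ᵁ (⟨O, hO⟩ : X.Opens) = W := Opens.ext hOW
  exact congrArg (fun p ↦ Scheme.Modules.Hom.app p (⟨O, hO⟩ : X.Opens))
    ((IsZero.iff_id_eq_zero _).1 hz)

/-- A coherent submodule of `M`. -/
structure CohSub (M : X.Modules) where
  /-- The submodule. -/
  P : X.Modules
  /-- The inclusion. -/
  ι : P ⟶ M
  mono : Mono ι
  coh : Coh.IsCoh P

attribute [instance] CohSub.mono

theorem exists_filtration [IsNoetherian X] (M : X.Modules) (hM : Coh.IsCoh M) :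
    ∃ (m : ℕ) (F : ℕ → X.Modules) (φ : (j : ℕ) → (F j ⟶ F (j + 1))),
      IsZero (F 0) ∧ Nonempty (F m ≅ M) ∧ (∀ j, Coh.IsCoh (F j)) ∧
      (∀ j, ∃ ψ : F j ⟶ M, Mono ψ) ∧ ∀ j < m,
        ∃ (Z : Scheme.{u}) (i : Z ⟶ X), IsClosedImmersion i ∧ IsIntegral Z ∧
          ∃ (N : Z.Modules) (ι : N ⟶ Coh.structureModule Z), Mono ι ∧ Coh.IsCoh N ∧ ¬ IsZero N ∧
            ∃ (h : F (j + 1) ⟶ (Coh.push i).obj N) (w : φ j ≫ h = 0),
              (ShortComplex.mk (φ j) h w).ShortExact := by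
  have key : ∀ A : CohSub M, ∃ (B : CohSub M) (u : A.P ⟶ B.P), u ≫ B.ι = A.ι ∧
      (¬ IsZero (cokernel A.ι) → ¬ IsIso u ∧
        ∃ (Z : Scheme.{u}) (i : Z ⟶ X), IsClosedImmersion i ∧ IsIntegral Z ∧
          ∃ (N : Z.Modules) (ι : N ⟶ Coh.structureModule Z), Mono ι ∧ Coh.IsCoh N ∧ ¬ IsZero N ∧
            ∃ (h : B.P ⟶ (Coh.push i).obj N) (w : u ≫ h = 0),
              (ShortComplex.mk u h w).ShortExact) := by
    intro A
    by_cases h : IsZero (cokernel A.ι)
    · exact ⟨A, 𝟙 _, Category.id_comp _, fun h' ↦ absurd h h'⟩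
    · obtain ⟨B, b, u, hb, hB, hu, hni, hp⟩ := exists_step M hM A.coh A.ι h
      exact ⟨⟨B, b, hb, hB⟩, u, hu, fun _ ↦ ⟨hni, hp⟩⟩
  choose next u hu hp using key
  have := hM.1
  have hk : IsZero (kernel (𝟙 M)) := (isZero_zero _).of_iso (kernel.ofMono (𝟙 M))
  let s : ℕ → CohSub M := fun n ↦
    n.rec ⟨kernel (𝟙 M), kernel.ι _, inferInstance, isCoh_kernel _ hM hM⟩ fun _ A ↦ next A
  have : ∀ n, Mono (s n).ι := fun n ↦ (s n).mono
  obtain ⟨n, hn⟩ := @exists_stable X _ M hM (fun n ↦ (s n).P) (fun n ↦ (s n).coh.1) (fun n ↦ (s n).ι) this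
    (fun n ↦ u (s n)) (fun n ↦ hu (s n))
  have hex : ∃ m, IsZero (cokernel (s m).ι) := ⟨n, by
    by_contra h
    exact (hp (s n) h).1 (hn n le_rfl)⟩
  classical
  refine ⟨Nat.find hex, fun n ↦ (s n).P, fun n ↦ u (s n), hk, ?_, fun j ↦ (s j).coh,
    fun j ↦ ⟨(s j).ι, (s j).mono⟩, fun j hj ↦ (hp (s j) (Nat.find_min hex hj)).2⟩
  have : Epi (s (Nat.find hex)).ι :=
    Preadditive.epi_of_isZero_cokernel _ (Nat.find_spec hex)
  have hmono : Mono (s (Nat.find hex)).ι := (s (Nat.find hex)).mono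
  exact ⟨@asIso _ _ _ _ (s (Nat.find hex)).ι (@isIso_of_mono_of_epi _ _ _ _ _ (s (Nat.find hex)).ι hmono this)⟩

/-- Induction on coherent modules by extensions and pieces. -/
theorem coh_induction [IsNoetherian X] (P : X.Modules → Prop)
    (hP : ∀ M N : X.Modules, Nonempty (M ≅ N) → P M → P N)
    (h0 : ∀ M : X.Modules, IsZero M → P M)
    (h₁ : ∀ S : ShortComplex X.Modules, S.ShortExact → Coh.IsCoh S.X₁ → Coh.IsCoh S.X₂ →
      Coh.IsCoh S.X₃ → P S.X₁ → P S.X₃ → P S.X₂)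
    (M : X.Modules) (hM : Coh.IsCoh M)
    (h₂ : ∀ (Z : Scheme.{u}) (i : Z ⟶ X), IsClosedImmersion i → IsIntegral Z →
      ∀ (N : Z.Modules) (ι : N ⟶ Coh.structureModule Z), Mono ι → Coh.IsCoh N → ¬ IsZero N →
        CohB1.support ((Coh.push i).obj N) ⊆ CohB1.support M → P ((Coh.push i).obj N)) :
    P M := by
  obtain ⟨m, F, φ, hF0, ⟨e⟩, hF, hι, hstep⟩ := exists_filtration M hM
  suffices ∀ j ≤ m, P (F j) from hP _ _ ⟨e⟩ (this m le_rfl)
  intro j hj
  induction j with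
  | zero => exact h0 _ hF0
  | succ j ih =>
    obtain ⟨Z, i, hi, hZ, N, ι, hι', hN, hN0, h, w, hS⟩ := hstep j (Nat.lt_of_succ_le hj)
    have hc : Coh.IsCoh ((Coh.push i).obj N) := by
      have := hN.1
      have : IsLocallyNoetherian Z := LocallyOfFiniteType.isLocallyNoetherian i
      exact ⟨isQuasicoherent_pushforward i N, isFiniteType_pushforward i N hN.2⟩
    refine h₁ _ hS (hF j) (hF (j + 1)) hc (ih (Nat.le_of_succ_le hj))
      (h₂ Z i hi hZ N ι hι' hN hN0 ?_)
    obtain ⟨ψ, hψ⟩ := hι (j + 1)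
    have := hS.epi_g
    exact (support_subset_of_epi h).trans (support_subset_of_mono ψ)

end GrothLib.QCoh
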