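import Groth.Agent.Lib.QCoh.SupportExact
import Groth.Agent.Lib.QCoh.FT

/-!
# Coherent modules on affine schemes are tildes of finite modules
-/

universe u

open CategoryTheory AlgebraicGeometry TopologicalSpace Opposite

namespace GrothLib.QCoh

variable {R : CommRingCat.{u}}

/-- Global sections of a quasi-coherent module of finite type on `Spec R` are finite over `R`. -/
theorem moduleFinite_top_spec (G : (Spec R).Modules) [G.IsQuasicoherent]
    (hG : SheafOfModules.IsFiniteType.{u, u, u} (R := (Spec R).ringCatSheaf) G) :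
    Module.Finite R Γ(G, ⊤) := by
  obtain ⟨s, hs⟩ := (moduleFinite_of_isFiniteType G hG (isAffineOpen_top _)).fg_top
  refine ⟨⟨s, eq_top_iff.2 fun x _ ↦ ?_⟩⟩
  have hx : x ∈ Submodule.span Γ(Spec R, ⊤) (s : Set Γ(G, ⊤)) := hs ▸ Submodule.mem_top
  induction hx using Submodule.span_induction with
  | mem y hy => exact Submodule.subset_span hy
  | zero => exact Submodule.zero_mem _
  | add a b _ _ ha hb => exact Submodule.add_mem _ (ha trivial) (hb trivial)
  | smul r a _ ha =>
    have key : r • a = ((Scheme.ΓSpecIso R).hom r) • a := by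
      rw [Scheme.Modules.smul_Spec_def]
      congr 1
      rw [show ((⊤ : (Spec R).Opens).leTop).op = 𝟙 _ from rfl]
      simp
    exact key ▸ Submodule.smul_mem _ _ (ha trivial)

/-- The tilde of a finite module is coherent. -/
theorem isCoh_tilde_of_finite (M : ModuleCat.{u} R) [Module.Finite R M] : Coh.IsCoh (tilde M) := by
  refine ⟨inferInstance, isFiniteType_of_moduleFinite _ (fun _ : PUnit.{u + 1} => ⊤)
    (by simp [IsOpenCover]) (fun _ => isAffineOpen_top _) fun _ => ?_⟩
  have : Module.Finite R Γ(tilde M, ⊤) := Module.Finite.equiv (tilde.isoTop M).toLinearEquiv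
  exact Module.Finite.of_restrictScalars_finite R _ _

end GrothLib.QCoh
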