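import Groth.Agent.Lib.QCoh.AvoidSub
import Groth.Agent.Lib.OX.Exact
import Mathlib.Algebra.Category.ModuleCat.Biproducts
import Mathlib.LinearAlgebra.Dimension.Free

/-!
# Dévissage with the two weaker implications and roots
-/

universe u

open CategoryTheory CategoryTheory.Limits Opposite AlgebraicGeometry TopologicalSpace

namespace GrothLib.QCoh

variable {X : Scheme.{u}}

attribute [local instance] Abelian.hasFiniteBiproducts

theorem killedByIdeal_biproduct (I : X.IdealSheafData) {J : Type} [Fintype J] (F : J → X.Modules)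
    (hF : ∀ j, ClSub.KilledByIdeal I (F j)) : ClSub.KilledByIdeal I (⨁ F) := by
  intro U a ha m
  let ev : (⨁ F ⟶ ⨁ F) →+ Γ(⨁ F, U.1) :=
    { toFun := fun p ↦ p.app U.1 m
      map_zero' := rfl
      map_add' := fun p q ↦ by rw [Scheme.Modules.Hom.add_app]; rfl }
  have h := congrArg ev (biproduct.total (f := F))
  rw [map_sum] at h
  have hm : (∑ j, ev (biproduct.π F j ≫ biproduct.ι F j)) = m := h.trans (by
    change (𝟙 (⨁ F) : ⨁ F ⟶ ⨁ F).app U.1 m = m
    rw [Scheme.Modules.Hom.id_app]; rfl)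
  change a • (show Γ(⨁ F, U.1) from m) = 0
  rw [← hm, Finset.smul_sum]
  refine Finset.sum_eq_zero fun j _ ↦ ?_
  exact ((appLinear (biproduct.ι F j) U.1).map_smul a _).symm.trans
    ((congrArg _ (hF j U a ha _)).trans (map_zero _))

theorem isCoh_biproduct_fin [IsLocallyNoetherian X] {J : Type} [Fintype J] (F : J → X.Modules)
    (hF : ∀ j, Coh.IsCoh (F j)) : Coh.IsCoh (⨁ F) := by
  have hq : (⨁ F).IsQuasicoherent := by
    let g : ULift.{u} J → X.Modules := fun j ↦ F j.down
    have := fun j ↦ (hF j).1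
    have := isQuasicoherent_colimit (Discrete.functor g) (fun a ↦ (hF a.as.down).1)
    exact isQuasicoherent_of_iso (M := ∐ g)
      (Sigma.whiskerEquiv Equiv.ulift (fun _ ↦ Iso.refl _) ≪≫ (biproduct.isoCoproduct F).symm)
  refine ⟨hq, (isFiniteType_iff_moduleFinite _).2 fun U hU ↦ ?_⟩
  have := fun j ↦ have := (hF j).1; moduleFinite_of_isFiniteType (F j) (hF j).2 hU
  classical
  refine Module.Finite.of_surjective
    (LinearMap.lsum Γ(X, U) (fun j ↦ Γ(F j, U)) Γ(X, U) fun j ↦ appLinear (biproduct.ι F j) U)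
    fun s ↦ ⟨fun j ↦ (biproduct.π F j).app U s, ?_⟩
  let ev : (⨁ F ⟶ ⨁ F) →+ Γ(⨁ F, U) :=
    { toFun := fun p ↦ p.app U s
      map_zero' := rfl
      map_add' := fun p q ↦ by rw [Scheme.Modules.Hom.add_app]; rfl }
  have h := congrArg ev (biproduct.total (f := F))
  rw [map_sum] at h
  rw [LinearMap.lsum_apply, LinearMap.sum_apply]
  refine (Finset.sum_congr rfl fun j _ ↦ ?_).trans (h.trans ?_)
  · rfl
  · change (𝟙 (⨁ F) : ⨁ F ⟶ ⨁ F).app U s = s
    rw [Scheme.Modules.Hom.id_app]; rfl

/-- A module killed by the maximal ideal is a finite sum of copies of the residue field. -/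
theorem exists_equiv_pi_residueField {R V : Type u} [CommRing R] [IsLocalRing R] [AddCommGroup V]
    [Module R V] [Module.Finite R V] [Nontrivial V]
    (hV : ∀ r ∈ IsLocalRing.maximalIdeal R, ∀ v : V, r • v = 0) :
    ∃ d : ℕ, 1 ≤ d ∧ Nonempty ((Fin d → IsLocalRing.ResidueField R) ≃ₗ[R] V) := by
  have ht : Module.IsTorsionBySet R V (IsLocalRing.maximalIdeal R : Set R) :=
    fun v r ↦ hV r.1 r.2 v
  let _ : Module (IsLocalRing.ResidueField R) V := ht.module
  have : IsScalarTower R (IsLocalRing.ResidueField R) V := ht.isScalarTower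
  have : Module.Finite (IsLocalRing.ResidueField R) V := Module.Finite.of_restrictScalars_finite R _ V
  let b := Module.finBasis (IsLocalRing.ResidueField R) V
  exact ⟨_, Module.finrank_pos, ⟨b.equivFun.symm.restrictScalars R⟩⟩

section

variable [IsLocallyNoetherian X] {Z : Scheme.{u}} (i : Z ⟶ X) [IsClosedImmersion i]
  (K : X.Modules → Prop)
  (hiso : ∀ M N : X.Modules, Nonempty (M ≅ N) → K M → K N)
  (ha : ∀ S : ShortComplex X.Modules, S.ShortExact → Coh.IsCoh S.X₁ → Coh.IsCoh S.X₂ →
    Coh.IsCoh S.X₃ → (K S.X₂ → K S.X₃ → K S.X₁) ∧ (K S.X₁ → K S.X₃ → K S.X₂))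
  (x : X) (hs : ∀ M : X.Modules, Coh.IsCoh M → CohB1.support M ⊆ Set.range i →
    x ∉ CohB1.support M → K M)

omit [IsClosedImmersion i] in
include ha hs in
/-- The class is pulled back along maps bijective at `x`. -/
theorem of_stalk_bijective {A B : X.Modules} (hA : Coh.IsCoh A) (hB : Coh.IsCoh B)
    (hAT : CohB1.support A ⊆ Set.range i) (hBT : CohB1.support B ⊆ Set.range i) (f : A ⟶ B)
    (hf : Function.Bijective (stalkLin f x)) (h : K B) : K A := by
  obtain ⟨w, hS⟩ := shortExact_kernel_image f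
  have hK := isCoh_kernel f hA hB
  have hC := isCoh_cokernel f hA hB
  have hI : Coh.IsCoh (Abelian.image f) := isCoh_kernel _ hB hC
  exact (ha _ hS hK hA hI).2 (hs _ hK ((support_subset_of_mono (kernel.ι f)).trans hAT)
      (notMem_support_kernel_of_injective f hf.1))
    ((ha _ (shortExact_image_cokernel f) hI hB hC).1 h
      (hs _ hC ((support_subset_of_epi (cokernel.π f)).trans hBT)
        (notMem_support_cokernel_of_surjective f hf.2)))

omit [IsLocallyNoetherian X] [IsClosedImmersion i] in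
include ha hs in
/-- The class passes along monomorphisms bijective at `x`. -/
theorem of_mono_stalk_bijective {A B : X.Modules} (hA : Coh.IsCoh A) (hB : Coh.IsCoh B)
    (hBT : CohB1.support B ⊆ Set.range i) (f : A ⟶ B) [Mono f]
    (hf : Function.Bijective (stalkLin f x)) (h : K A) : K B :=
  have hC := isCoh_cokernel f hA hB
  have hS : (ShortComplex.mk f (cokernel.π f) (cokernel.condition f)).ShortExact :=
    ShortComplex.ShortExact.mk' (ShortComplex.exact_cokernel f) inferInstance inferInstance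
  (ha _ hS hA hB hC).2 h (hs _ hC ((support_subset_of_epi (cokernel.π f)).trans hBT)
    (notMem_support_cokernel_of_surjective f hf.2))

end

/-- From any module with nonzero generic stalk to the structure sheaf, extracting roots. -/
theorem pushUnit_of_roots [IsNoetherian X] {Z : Scheme.{u}} (i : Z ⟶ X) [IsClosedImmersion i]
    [IsIntegral Z] (K : X.Modules → Prop)
    (hiso : ∀ M N : X.Modules, Nonempty (M ≅ N) → K M → K N)
    (ha : ∀ S : ShortComplex X.Modules, S.ShortExact → Coh.IsCoh S.X₁ → Coh.IsCoh S.X₂ →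
      Coh.IsCoh S.X₃ → (K S.X₂ → K S.X₃ → K S.X₁) ∧ (K S.X₁ → K S.X₃ → K S.X₂))
    (hb : ∀ (F : X.Modules) (d : ℕ), 1 ≤ d → Coh.IsCoh F → K (∐ fun _ : Fin d => F) → K F)
    (hs : ∀ M : X.Modules, Coh.IsCoh M → CohB1.support M ⊆ Set.range i →
      i (genericPoint Z) ∉ CohB1.support M → K M)
    (G : X.Modules) (hG : Coh.IsCoh G) (hk : ClSub.KilledByIdeal i.ker G)
    (hx : i (genericPoint Z) ∈ CohB1.support G) (hKG : K G) : K (pushUnit i) := by
  have := hG.1
  set x := i (genericPoint Z) with hxdef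
  obtain ⟨e₁⟩ := nonempty_pushUnit_stalk_equiv i
  have hU := pushUnit_isCoh i
  have := stalk_finite G hG x
  have : Nontrivial (G.presheaf.stalk x) := not_subsingleton_iff_nontrivial.1 hx
  obtain ⟨d, hd, ⟨e₂⟩⟩ := exists_equiv_pi_residueField (R := X.presheaf.stalk x)
    (V := G.presheaf.stalk x) fun r hr v ↦ by
      refine smul_eq_zero_of_killed i G hk (genericPoint Z) r ?_ v
      by_contra hne
      exact (IsLocalRing.mem_maximalIdeal _).1 hr ((isUnit_map_iff (i.stalkMap (genericPoint Z)).hom r).1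
        (IsUnit.mk0 (G₀ := Z.functionField) _ hne))
  let T : X.Modules := ⨁ fun _ : Fin d ↦ pushUnit i
  have hT : Coh.IsCoh T := isCoh_biproduct_fin _ fun _ ↦ hU
  have hkT : ClSub.KilledByIdeal i.ker T := killedByIdeal_biproduct _ _ fun _ ↦ pushUnit_killedByIdeal i
  let e₀ := ((OX.stalk x).mapBiproduct (fun _ : Fin d ↦ pushUnit i) ≪≫
    ModuleCat.biproductIsoPi _).toLinearEquiv
  let φ : T.presheaf.stalk x ≃ₗ[X.presheaf.stalk x] G.presheaf.stalk x :=
    e₀.trans ((LinearEquiv.piCongrRight fun _ ↦ e₁).trans e₂)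
  have hI := ker_eq_vanishingIdeal_closure i
  have hJ := graphAt_isCoh T G x φ.toLinearMap hT hG i.ker hI hkT hk
  have hker := isCoh_kernel (graphFst T G x φ.toLinearMap) hJ hT
  let C := CohB1.support (kernel (graphFst T G x φ.toLinearMap))
  let J := avoid _ hJ C
  have hJ' := avoid_isCoh _ hJ C
  have : Mono J.ι := mono_of_app_injective _ J.ι_app_injective
  have hCx : x ∉ C := notMem_support_kernel_of_injective _ (graphFst_stalk_bijective T G x φ.toLinearMap).1
  have hι : Function.Bijective (stalkLin J.ι x) := by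
    refine ⟨stalkLin_injective J.ι x, fun e ↦ ?_⟩
    obtain ⟨V, hV, s, rfl⟩ := TopCat.Presheaf.exists_germ_eq (graphAt T G x φ.toLinearMap).obj.presheaf e
    let W : X.Opens := V ⊓ ⟨Cᶜ, (isClosed_support_of_isCoh hker).isOpen_compl⟩
    refine ⟨J.obj.presheaf.germ W x ⟨hV, hCx⟩ (J.lift _ (mem_avoid_of_disjoint _ hJ C (V := W)
      (Set.disjoint_left.2 fun y hy ↦ hy.2) ((graphAt T G x φ.toLinearMap).obj.presheaf.map
        (homOfLE (inf_le_left : W ≤ V)).op s))), ?_⟩
    exact (stalkLin_germ _ _ _).trans (germ_map _ _ _ s)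
  have : Mono (J.ι ≫ graphFst T G x φ.toLinearMap) :=
    mono_of_app_injective _ fun V ↦ (injective_iff_map_eq_zero _).2 fun s h0 ↦ by
      refine J.ι_app_injective V ?_
      rw [map_zero]
      refine eq_zero_of_mem_avoid _ hJ C (J.ι_app_mem s) fun y hy hyC ↦ ?_
      let f := graphFst T G x φ.toLinearMap
      obtain ⟨w, hw⟩ := app_exact (S := ShortComplex.mk (kernel.ι f) (Abelian.factorThruImage f)
          (shortExact_kernel_image f).1) (shortExact_kernel_image f).2 V (J.ι.app V s) (by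
        refine Cohom.app_injective_of_mono (Abelian.image.ι f) V ?_
        rw [map_zero]
        refine Eq.trans ?_ h0
        change _ = f.app V (J.ι.app V s)
        conv_rhs => rw [← Abelian.image.fac f]
        rfl)
      rw [← hw]
      change _ = 0
      rw [← stalkLin_germ (kernel.ι f) hy w,
        Subsingleton.elim (h := stalk_subsingleton_of_notMem hyC) ((kernel f).presheaf.germ V y hy w) 0,
        map_zero]
  have hTs := support_subset_range i T hkT
  have hJs : CohB1.support J.obj ⊆ Set.range i :=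
    (support_subset_of_mono J.ι).trans (support_subset_range i _ (graph_killedByIdeal _ _ _ _ _ hkT hk))
  have hKJ : K J.obj := by
    refine of_stalk_bijective i K ha x hs hJ' hG hJs (support_subset_range i G hk)
      (J.ι ≫ graphSnd T G x φ.toLinearMap) ?_ hKG
    rw [show ⇑(stalkLin (J.ι ≫ graphSnd T G x φ.toLinearMap) x) =
      (⇑φ ∘ stalkLin (graphFst T G x φ.toLinearMap) x) ∘ stalkLin J.ι x from
      funext fun e ↦ (stalkLin_comp _ _ _ e).trans (graphSnd_stalk _ _ _ _ _)]
    exact (φ.bijective.comp (graphFst_stalk_bijective _ _ _ _)).comp hι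
  have hKT : K T := by
    refine of_mono_stalk_bijective i K ha x hs hJ' hT hTs (J.ι ≫ graphFst T G x φ.toLinearMap) ?_ hKJ
    rw [show ⇑(stalkLin (J.ι ≫ graphFst T G x φ.toLinearMap) x) =
      stalkLin (graphFst T G x φ.toLinearMap) x ∘ stalkLin J.ι x from
      funext fun e ↦ stalkLin_comp _ _ _ e]
    exact (graphFst_stalk_bijective _ _ _ _).comp hι
  exact hb _ d hd hU (hiso _ _ ⟨biproduct.isoCoproduct _⟩ hKT)

/-- Dévissage for a class with the two implications and roots. -/
theorem devissage_roots [IsNoetherian X] [Nonempty X] (K : X.Modules → Prop)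
    (hiso : ∀ M N : X.Modules, Nonempty (M ≅ N) → K M → K N)
    (ha : ∀ S : ShortComplex X.Modules, S.ShortExact → Coh.IsCoh S.X₁ → Coh.IsCoh S.X₂ →
      Coh.IsCoh S.X₃ → (K S.X₂ → K S.X₃ → K S.X₁) ∧ (K S.X₁ → K S.X₃ → K S.X₂))
    (hb : ∀ (F : X.Modules) (d : ℕ), 1 ≤ d → Coh.IsCoh F → K (∐ fun _ : Fin d => F) → K F)
    (hgen : ∀ (Z : Scheme.{u}) (i : Z ⟶ X) [IsClosedImmersion i] [IsIntegral Z],
      ∃ G : X.Modules, Coh.IsCoh G ∧ ClSub.KilledByIdeal i.ker G ∧
        i (genericPoint Z) ∈ CohB1.support G ∧ K G)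
    (M : X.Modules) (hM : Coh.IsCoh M) : K M := by
  obtain ⟨Z₀, i₀, _, _⟩ := exists_integral_closedSubscheme (X := X)
  obtain ⟨G₀, hG₀, -, -, hK₀⟩ := hgen Z₀ i₀
  have h0 : ∀ A : X.Modules, IsZero A → K A := by
    intro A hA
    have hz : IsZero (kernel (𝟙 G₀)) := isZero_kernel_of_mono _
    have hS : (ShortComplex.mk (kernel.ι (𝟙 G₀)) (𝟙 G₀) (kernel.condition _)).ShortExact :=
      ShortComplex.ShortExact.mk' (ShortComplex.exact_of_f_is_kernel _ (kernelIsKernel _)) inferInstance
        inferInstance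
    exact hiso _ _ ⟨hz.iso hA⟩ ((ha _ hS (isCoh_kernel _ hG₀ hG₀) hG₀ hG₀).1 hK₀ hK₀)
  suffices ∀ (T : Closeds X) (M : X.Modules), Coh.IsCoh M → CohB1.support M = T → K M from
    this ⟨_, isClosed_support_of_isCoh hM⟩ M hM rfl
  intro T
  induction T using WellFounded.induction (r := ((· < ·) : Closeds X → Closeds X → Prop))
    wellFounded_lt with
  | _ T ih =>
    intro M hM hMT
    refine coh_induction K hiso h0 (fun S hS a b c ↦ (ha S hS a b c).2) M hM
      fun Z i hi hZ N ι hι hN hN0 hsub ↦ ?_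
    have hiT : Set.range i ⊆ (T : Set X) :=
      ((range_subset_support_push i N ι hN hN0).trans hsub).trans hMT.le
    have hs : ∀ A : X.Modules, Coh.IsCoh A → CohB1.support A ⊆ Set.range i →
        i (genericPoint Z) ∉ CohB1.support A → K A := fun A hA hAs hx ↦ by
      refine ih ⟨_, isClosed_support_of_isCoh hA⟩ (lt_of_le_of_ne (hAs.trans hiT) fun e ↦ ?_) A hA rfl
      exact hx ((SetLike.ext'_iff.1 e).symm.le (hiT ⟨genericPoint Z, rfl⟩))
    obtain ⟨G, hG, hk, hx, hKG⟩ := hgen Z i
    have hKU := pushUnit_of_roots i K hiso ha hb hs G hG hk hx hKG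
    have : IsLocallyNoetherian Z := LocallyOfFiniteType.isLocallyNoetherian i
    have := hN.1
    have hpN : Coh.IsCoh ((Coh.push i).obj N) :=
      ⟨isQuasicoherent_pushforward i N, isFiniteType_pushforward i N hN.2⟩
    let a := (Coh.push i).map ι
    have : Mono a := mono_of_app_injective _ fun U ↦ Cohom.app_injective_of_mono ι (i ⁻¹ᵁ U)
    have hS : (ShortComplex.mk a (cokernel.π a) (cokernel.condition a)).ShortExact :=
      ShortComplex.ShortExact.mk' (ShortComplex.exact_cokernel a) inferInstance inferInstance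
    have hC := isCoh_cokernel a hpN (pushUnit_isCoh i)
    refine (ha _ hS hpN (pushUnit_isCoh i) hC).1 hKU (hs _ hC
      ((support_subset_of_epi (cokernel.π a)).trans (support_subset_range i _ (pushUnit_killedByIdeal i)))
      (notMem_support_cokernel_of_surjective a fun w ↦ ?_))
    obtain ⟨n, hn⟩ : ∃ n, stalkLin a (i (genericPoint Z)) n ≠ 0 := by
      by_contra h
      push Not at h
      refine genericPoint_mem_support_push i N ι hN0 (subsingleton_of_forall_eq 0 fun n ↦ ?_)
      exact stalkLin_injective a _ ((h n).trans (map_zero _).symm)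
    obtain ⟨r, hr⟩ := exists_smul_pushOne_eq i (stalkLin a _ n)
    obtain ⟨s, hs'⟩ := exists_smul_pushOne_eq i w
    have hr0 : (i.stalkMap (genericPoint Z)).hom r ≠ 0 := fun h ↦
      hn (hr.symm.trans ((smul_pushOne_eq_zero_iff i r).2 h))
    have hu : IsUnit r := (isUnit_map_iff (i.stalkMap (genericPoint Z)).hom r).1
      (IsUnit.mk0 (G₀ := Z.functionField) _ hr0)
    refine ⟨(s * ((hu.unit⁻¹ : _ˣ) : X.presheaf.stalk _)) • n, ?_⟩
    rw [map_smul, ← hr, smul_smul, mul_assoc, IsUnit.val_inv_mul, mul_one]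
    exact hs'

end GrothLib.QCoh
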