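import Groth.Agent.Lib.QCoh.Killed
import Groth.Agent.Lib.Cohom.Serre
import Groth.Agent.Lib.OX.Exact
import Groth.Agent.Lib.SchImage.Reduced
import Groth.Prelude.Def_FlatMod2

/-!
# Comparing coherent modules at the generic point of an integral closed subset
-/

universe u

open CategoryTheory CategoryTheory.Limits Opposite AlgebraicGeometry TopologicalSpace

namespace GrothLib.QCoh

variable {X : Scheme.{u}}

theorem mono_of_app_injective {M N : X.Modules} (f : M ⟶ N)
    (h : ∀ U : X.Opens, Function.Injective (f.app U)) : Mono f :=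
  ⟨fun {Z} a b e ↦ Scheme.Modules.hom_ext _ _ fun U ↦ AddCommGrpCat.ext fun z ↦ h U <| by
    rw [← ConcreteCategory.comp_apply, ← ConcreteCategory.comp_apply,
      ← Scheme.Modules.Hom.comp_app, ← Scheme.Modules.Hom.comp_app, e]⟩

/-- The `O_x`-linear map on stalks induced by a morphism. -/
noncomputable def stalkLin {M N : X.Modules} (f : M ⟶ N) (x : X) :
    M.presheaf.stalk x →ₗ[X.presheaf.stalk x] N.presheaf.stalk x :=
  ((OX.stalk x).map f).hom

theorem stalkLin_germ {M N : X.Modules} (f : M ⟶ N) {U : X.Opens} {x : X} (hx : x ∈ U)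
    (s : Γ(M, U)) :
    stalkLin f x (M.presheaf.germ U x hx s) = N.presheaf.germ U x hx (f.app U s) :=
  OX.stalkMapHom_germ _ U hx s

theorem stalkLin_comp {L M N : X.Modules} (f : L ⟶ M) (g : M ⟶ N) (x : X) (e : L.presheaf.stalk x) :
    stalkLin (f ≫ g) x e = stalkLin g x (stalkLin f x e) := by
  obtain ⟨U, hx, s, rfl⟩ := TopCat.Presheaf.exists_germ_eq L.presheaf e
  rw [stalkLin_germ, stalkLin_germ, stalkLin_germ, Scheme.Modules.Hom.comp_app,
    ConcreteCategory.comp_apply]

theorem stalkLin_injective {M N : X.Modules} (f : M ⟶ N) [Mono f] (x : X) :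
    Function.Injective (stalkLin f x) :=
  (ModuleCat.mono_iff_injective _).1 ((OX.mono_iff f).1 inferInstance x)

/-- A module has no nonzero section vanishing at `x`. -/
def TorsFreeAt (M : X.Modules) (x : X) : Prop :=
  ∀ (V : X.Opens) (s : Γ(M, V)), (∀ hx : x ∈ V, M.presheaf.germ V x hx s = 0) → s = 0

section

variable (F G : X.Modules) (x : X)
  (φ : F.presheaf.stalk x →ₗ[X.presheaf.stalk x] G.presheaf.stalk x)

/-- The pairs of sections of `F` and `G` that correspond under a map of the stalks at `x`. -/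
noncomputable def graphAt : SubData (F ⊞ G) where
  sec V :=
    { carrier := {s | ∀ hx : x ∈ V,
        φ (F.presheaf.germ V x hx ((biprod.fst : F ⊞ G ⟶ F).app V s)) =
          G.presheaf.germ V x hx ((biprod.snd : F ⊞ G ⟶ G).app V s)}
      add_mem' := fun hs ht hx ↦ by simp only [map_add, hs hx, ht hx]
      zero_mem' := fun hx ↦ by simp only [map_zero]
      smul_mem' := fun r s hs hx ↦ by
        change φ (F.presheaf.germ V x hx (appLinear (biprod.fst : F ⊞ G ⟶ F) V (r • s))) =
          G.presheaf.germ V x hx (appLinear (biprod.snd : F ⊞ G ⟶ G) V (r • s))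
        simp only [map_smul, WeakAss.germ_smul]
        exact congrArg _ (hs hx) }
  map_mem {U V} i s hs hx := by
    have e : ∀ {N : X.Modules} (p : F ⊞ G ⟶ N),
        p.app V ((F ⊞ G).presheaf.map i.op s) = N.presheaf.map i.op (p.app U s) :=
      fun p ↦ (map_app p i s).symm
    rw [e, e, germ_map, germ_map]
    exact hs (i.le hx)
  locality {U} s h hx := by
    obtain ⟨V, i, hxV, hV⟩ := h x hx
    have := hV hxV
    rw [show (biprod.fst : F ⊞ G ⟶ F).app V ((F ⊞ G).presheaf.map i.op s) = _ from (map_app _ i s).symm,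
      show (biprod.snd : F ⊞ G ⟶ G).app V ((F ⊞ G).presheaf.map i.op s) = _ from (map_app _ i s).symm,
      germ_map, germ_map] at this
    exact this

theorem graphAt_isQuasicoherent (hF : F.IsQuasicoherent) (hG : G.IsQuasicoherent)
    (I : X.IdealSheafData) (hI : I = Scheme.IdealSheafData.vanishingIdeal ⟨closure {x}, isClosed_closure⟩)
    (hkF : ClSub.KilledByIdeal I F) (hkG : ClSub.KilledByIdeal I G) :
    (graphAt F G x φ).obj.IsQuasicoherent := by
  have := Cohom.isQuasicoherent_biprod F G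
  refine (graphAt F G x φ).isQuasicoherent fun U hU g t ht ↦ ?_
  by_cases hx : x ∈ U
  · by_cases hg : x ∈ X.basicOpen g
    · refine ⟨0, ?_⟩
      rw [pow_zero, one_smul]
      intro hx'
      have := ht hg
      rw [show (biprod.fst : F ⊞ G ⟶ F).app _ ((F ⊞ G).presheaf.map (homOfLE (X.basicOpen_le g)).op t)
          = _ from (map_app _ _ t).symm,
        show (biprod.snd : F ⊞ G ⟶ G).app _ ((F ⊞ G).presheaf.map (homOfLE (X.basicOpen_le g)).op t)
          = _ from (map_app _ _ t).symm, germ_map, germ_map] at this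
      exact this
    · refine ⟨1, fun hx' ↦ ?_⟩
      have hgI : g ∈ I.ideal ⟨U, hU⟩ := by
        rw [hI, mem_vanishingIdeal_iff]
        intro y _ hy hyg
        exact hg ((specializes_iff_mem_closure.2 hy).mem_open (X.basicOpen g).isOpen hyg)
      rw [pow_one]
      change φ (F.presheaf.germ U x hx' (appLinear (biprod.fst : F ⊞ G ⟶ F) U (g • t))) =
          G.presheaf.germ U x hx' (appLinear (biprod.snd : F ⊞ G ⟶ G) U (g • t))
      rw [LinearMap.map_smul (appLinear (biprod.fst : F ⊞ G ⟶ F) U),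
        LinearMap.map_smul (appLinear (biprod.snd : F ⊞ G ⟶ G) U)]
      erw [hkF ⟨U, hU⟩ g hgI, hkG ⟨U, hU⟩ g hgI]
      exact (congrArg φ (map_zero _)).trans ((map_zero φ).trans (map_zero _).symm)
  · exact ⟨0, fun hx' ↦ absurd hx' hx⟩

theorem graphAt_isCoh [IsLocallyNoetherian X] (hF : Coh.IsCoh F) (hG : Coh.IsCoh G)
    (I : X.IdealSheafData) (hI : I = Scheme.IdealSheafData.vanishingIdeal ⟨closure {x}, isClosed_closure⟩)
    (hkF : ClSub.KilledByIdeal I F) (hkG : ClSub.KilledByIdeal I G) :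
    Coh.IsCoh (graphAt F G x φ).obj := by
  have := hF.1
  have := hG.1
  have hb := Cohom.isQuasicoherent_biprod F G
  have := graphAt_isQuasicoherent F G x φ hF.1 hG.1 I hI hkF hkG
  refine ⟨this, (graphAt F G x φ).isFiniteType ⟨hb, (isFiniteType_iff_moduleFinite _).2 fun U hU ↦ ?_⟩⟩
  have := moduleFinite_of_isFiniteType F hF.2 hU
  have := moduleFinite_of_isFiniteType G hG.2 hU
  exact Module.Finite.of_surjective
    (LinearMap.coprod (appLinear (biprod.inl : F ⟶ F ⊞ G) U) (appLinear (biprod.inr : G ⟶ F ⊞ G) U))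
    fun s ↦ ⟨((biprod.fst : F ⊞ G ⟶ F).app U s, (biprod.snd : F ⊞ G ⟶ G).app U s), by
      have h := congrArg (fun p : F ⊞ G ⟶ F ⊞ G ↦ p.app U s) (biprod.total (X := F) (Y := G))
      simp only [Scheme.Modules.Hom.add_app, Scheme.Modules.Hom.comp_app,
        Scheme.Modules.Hom.id_app] at h
      exact h⟩

/-- The first projection of the graph. -/
noncomputable def graphFst : (graphAt F G x φ).obj ⟶ F := (graphAt F G x φ).ι ≫ biprod.fst

/-- The second projection of the graph. -/
noncomputable def graphSnd : (graphAt F G x φ).obj ⟶ G := (graphAt F G x φ).ι ≫ biprod.snd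

theorem graph_ext {V : X.Opens} (s : Γ((graphAt F G x φ).obj, V))
    (h₁ : (graphFst F G x φ).app V s = 0) (h₂ : (graphSnd F G x φ).app V s = 0) : s = 0 := by
  apply (graphAt F G x φ).ι_app_injective V
  rw [map_zero]
  have h := congrArg (fun p : F ⊞ G ⟶ F ⊞ G ↦ p.app V ((graphAt F G x φ).ι.app V s))
    (biprod.total (X := F) (Y := G))
  simp only [Scheme.Modules.Hom.add_app, Scheme.Modules.Hom.comp_app,
    Scheme.Modules.Hom.id_app] at h
  refine h.symm.trans ?_
  change (biprod.inl : F ⟶ F ⊞ G).app V ((graphFst F G x φ).app V s) +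
    (biprod.inr : G ⟶ F ⊞ G).app V ((graphSnd F G x φ).app V s) = 0
  rw [h₁, h₂, map_zero, map_zero, add_zero]

theorem graph_germ {V : X.Opens} (s : Γ((graphAt F G x φ).obj, V)) (hx : x ∈ V) :
    φ (F.presheaf.germ V x hx ((graphFst F G x φ).app V s)) =
      G.presheaf.germ V x hx ((graphSnd F G x φ).app V s) :=
  (graphAt F G x φ).ι_app_mem s hx

theorem graph_lift {V : X.Opens} (a : Γ(F, V)) (b : Γ(G, V))
    (h : ∀ hx : x ∈ V, φ (F.presheaf.germ V x hx a) = G.presheaf.germ V x hx b) :
    ∃ s : Γ((graphAt F G x φ).obj, V),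
      (graphFst F G x φ).app V s = a ∧ (graphSnd F G x φ).app V s = b := by
  let m : Γ(F ⊞ G, V) :=
    (biprod.inl : F ⟶ F ⊞ G).app V a + (biprod.inr : G ⟶ F ⊞ G).app V b
  have e₁ : (biprod.fst : F ⊞ G ⟶ F).app V m = a := by
    simp only [m, map_add, ← ConcreteCategory.comp_apply, ← Scheme.Modules.Hom.comp_app,
      biprod.inl_fst, biprod.inr_fst]
    simp
  have e₂ : (biprod.snd : F ⊞ G ⟶ G).app V m = b := by
    simp only [m, map_add, ← ConcreteCategory.comp_apply, ← Scheme.Modules.Hom.comp_app,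
      biprod.inl_snd, biprod.inr_snd]
    simp
  exact ⟨(graphAt F G x φ).lift m fun hx ↦ by rw [e₁, e₂]; exact h hx, e₁, e₂⟩

theorem graphSnd_mono (hF : TorsFreeAt F x) (hφ : Function.Injective φ) :
    Mono (graphSnd F G x φ) :=
  mono_of_app_injective _ fun V ↦ (injective_iff_map_eq_zero _).2 fun s hs ↦
    graph_ext F G x φ s (hF V _ fun hx ↦ hφ <| by
      rw [graph_germ, hs, map_zero, map_zero]) hs

theorem graphFst_mono (hG : TorsFreeAt G x) : Mono (graphFst F G x φ) :=
  mono_of_app_injective _ fun V ↦ (injective_iff_map_eq_zero _).2 fun s hs ↦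
    graph_ext F G x φ s hs (hG V _ fun hx ↦ by
      rw [← graph_germ, hs, map_zero, map_zero])

theorem graphFst_stalk_bijective : Function.Bijective (stalkLin (graphFst F G x φ) x) := by
  refine ⟨(injective_iff_map_eq_zero _).2 fun e he ↦ ?_, fun e ↦ ?_⟩
  · obtain ⟨U, hx, s, rfl⟩ := TopCat.Presheaf.exists_germ_eq (graphAt F G x φ).obj.presheaf e
    rw [stalkLin_germ] at he
    have : Mono (graphAt F G x φ).ι := mono_of_app_injective _ (graphAt F G x φ).ι_app_injective
    apply stalkLin_injective (graphAt F G x φ).ι x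
    rw [map_zero, stalkLin_germ]
    have h := congrArg (fun p : F ⊞ G ⟶ F ⊞ G ↦ p.app U ((graphAt F G x φ).ι.app U s))
      (biprod.total (X := F) (Y := G))
    simp only [Scheme.Modules.Hom.add_app, Scheme.Modules.Hom.comp_app,
      Scheme.Modules.Hom.id_app] at h
    refine (congrArg _ h.symm).trans ?_
    change (F ⊞ G).presheaf.germ U x hx ((biprod.inl : F ⟶ F ⊞ G).app U ((graphFst F G x φ).app U s) +
      (biprod.inr : G ⟶ F ⊞ G).app U ((graphSnd F G x φ).app U s)) = 0
    rw [map_add, ← stalkLin_germ (biprod.inl : F ⟶ F ⊞ G), ← stalkLin_germ (biprod.inr : G ⟶ F ⊞ G),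
      ← graph_germ, he]
    simp only [map_zero, add_zero]
  · obtain ⟨U, hU, a, rfl⟩ := TopCat.Presheaf.exists_germ_eq F.presheaf e
    obtain ⟨V, hV, b, hb⟩ := TopCat.Presheaf.exists_germ_eq G.presheaf
      (φ (F.presheaf.germ U x hU a))
    obtain ⟨s, hs, -⟩ := graph_lift F G x φ (V := U ⊓ V)
      (F.presheaf.map (homOfLE inf_le_left).op a) (G.presheaf.map (homOfLE inf_le_right).op b)
      (fun hx ↦ by rw [germ_map, germ_map]; exact hb.symm)
    refine ⟨(graphAt F G x φ).obj.presheaf.germ (U ⊓ V) x ⟨hU, hV⟩ s,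
      (stalkLin_germ _ _ s).trans ?_⟩
    rw [hs]
    exact germ_map F (homOfLE inf_le_left) ⟨hU, hV⟩ a

theorem graphSnd_stalk (e : (graphAt F G x φ).obj.presheaf.stalk x) :
    stalkLin (graphSnd F G x φ) x e = φ (stalkLin (graphFst F G x φ) x e) := by
  obtain ⟨U, hx, s, rfl⟩ := TopCat.Presheaf.exists_germ_eq (graphAt F G x φ).obj.presheaf e
  rw [stalkLin_germ, stalkLin_germ, graph_germ]

end

end GrothLib.QCoh
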