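import Groth.Prelude.Def_CohB1
import Groth.Agent.Lib.QCoh.Coherent
import Groth.Agent.Lib.QCoh.Qcqs
import Groth.Agent.Lib.Cohom.AffineSections
import Mathlib.Topology.Sheaves.SheafCondition.UniqueGluing
import Mathlib.Topology.Sheaves.LocallySurjective

/-!
# Submodules of a sheaf of modules given by their sections
-/

universe u

open CategoryTheory CategoryTheory.Limits Opposite AlgebraicGeometry TopologicalSpace

namespace GrothLib.QCoh

variable {X : Scheme.{u}}

/-- A submodule of `M` given by submodules of sections, by a local condition. -/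
structure SubData (M : X.Modules) where
  /-- The sections of the submodule. -/
  sec (V : X.Opens) : Submodule Γ(X, V) Γ(M, V)
  map_mem {U V : X.Opens} (i : V ⟶ U) {s : Γ(M, U)} (hs : s ∈ sec U) :
    M.presheaf.map i.op s ∈ sec V
  locality {U : X.Opens} (s : Γ(M, U))
    (h : ∀ x ∈ U, ∃ (V : X.Opens) (i : V ⟶ U), x ∈ V ∧ M.presheaf.map i.op s ∈ sec V) : s ∈ sec U

namespace SubData

variable {M : X.Modules} (P : SubData M)

/-- The abelian presheaf of a submodule. -/
noncomputable def ab : (X.Opens)ᵒᵖ ⥤ Ab.{u} where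
  obj U := AddCommGrpCat.of (P.sec U.unop)
  map {U V} i := AddCommGrpCat.ofHom
    { toFun := fun s ↦ ⟨M.presheaf.map i s.1, P.map_mem i.unop s.2⟩
      map_zero' := Subtype.ext (map_zero _)
      map_add' := fun _ _ ↦ Subtype.ext (map_add _ _ _) }
  map_id U := AddCommGrpCat.ext fun (s : P.sec U.unop) ↦ Subtype.ext <| by
    change M.presheaf.map (𝟙 U) s.1 = s.1
    rw [M.presheaf.map_id]
    rfl
  map_comp i j := AddCommGrpCat.ext fun s ↦ Subtype.ext <| by
    change M.presheaf.map (i ≫ j) s.1 = M.presheaf.map j (M.presheaf.map i s.1)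
    rw [Functor.map_comp]
    rfl

noncomputable instance (U : (X.Opens)ᵒᵖ) :
    Module (X.ringCatSheaf.obj.obj U) (P.ab.obj U) :=
  inferInstanceAs (Module Γ(X, U.unop) (P.sec U.unop))

/-- The presheaf of modules of a submodule. -/
noncomputable def preMod : PresheafOfModules.{u} X.ringCatSheaf.obj :=
  PresheafOfModules.ofPresheaf P.ab fun _ _ i r s ↦
    Subtype.ext (PresheafOfModules.map_smul M.val i r s.1)

theorem preMod_isSheaf :
    TopCat.Presheaf.IsSheaf (X := X.carrier) (C := Ab.{u}) P.preMod.presheaf := by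
  refine (TopCat.Presheaf.isSheaf_iff_isSheafUniqueGluing _).2 fun ι U sf hsf ↦ ?_
  let S : TopCat.Sheaf Ab.{u} X.carrier := ⟨M.presheaf, M.isSheaf⟩
  have hc : TopCat.Presheaf.IsCompatible (C := Ab.{u}) M.presheaf U fun i ↦ (sf i).1 :=
    fun i j ↦ congrArg Subtype.val (hsf i j)
  obtain ⟨s, hs, huniq⟩ := S.existsUnique_gluing U (fun i ↦ (sf i).1) hc
  have hmem : s ∈ P.sec (iSup U) := P.locality s fun x hx ↦ by
    obtain ⟨i, hi⟩ := Opens.mem_iSup.1 hx
    exact ⟨U i, homOfLE (le_iSup U i), hi,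
      (show M.presheaf.map (homOfLE (le_iSup U i)).op s = (sf i).1 from hs i) ▸ (sf i).2⟩
  refine ⟨⟨s, hmem⟩, fun i ↦ Subtype.ext (hs i), fun t ht ↦ Subtype.ext ?_⟩
  exact huniq t.1 fun i ↦ congrArg Subtype.val (ht i)

/-- The submodule as a sheaf of modules. -/
noncomputable def obj : X.Modules := SheafOfModules.mk P.preMod P.preMod_isSheaf

/-- The inclusion of the submodule. -/
noncomputable def ι : P.obj ⟶ M :=
  ⟨PresheafOfModules.homMk
    { app := fun U ↦ AddCommGrpCat.ofHom (P.sec U.unop).subtype.toAddMonoidHom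
      naturality := fun _ _ _ ↦ rfl } fun _ _ _ ↦ rfl⟩

/-- A section of `M` in the submodule, as a section of the submodule. -/
def lift {U : X.Opens} (s : Γ(M, U)) (hs : s ∈ P.sec U) : Γ(P.obj, U) :=
  (⟨s, hs⟩ : P.sec U)

theorem ι_app_lift {U : X.Opens} (s : Γ(M, U)) (hs : s ∈ P.sec U) :
    P.ι.app U (P.lift s hs) = s := rfl

theorem ι_app_injective (U : X.Opens) : Function.Injective (P.ι.app U) :=
  Subtype.val_injective

theorem ι_app_mem {U : X.Opens} (s : Γ(P.obj, U)) : P.ι.app U s ∈ P.sec U :=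
  (show P.sec U from s).2

theorem range_ι_app (U : X.Opens) : Set.range (P.ι.app U) = P.sec U :=
  Set.ext fun s ↦ ⟨fun ⟨t, ht⟩ ↦ ht ▸ P.ι_app_mem t, fun hs ↦ ⟨P.lift s hs, rfl⟩⟩

/-- A submodule of a quasi-coherent module is quasi-coherent if its sections over an affine open
recover those over basic opens. -/
theorem isQuasicoherent [M.IsQuasicoherent]
    (h : ∀ (U : X.Opens), IsAffineOpen U → ∀ (g : Γ(X, U)) (t : Γ(M, U)),
      M.presheaf.map (homOfLE (X.basicOpen_le g)).op t ∈ P.sec (X.basicOpen g) →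
      ∃ m : ℕ, g ^ m • t ∈ P.sec U) : P.obj.IsQuasicoherent := by
  refine (isQuasicoherent_iff_smulLift_smulSep _).2 fun U hU g ↦ ?_
  obtain ⟨hl, hs⟩ := smulLift_and_smulSep_of_isAffineOpen hU M g
  refine ⟨fun s ↦ ?_, fun t ht ↦ ?_⟩
  · obtain ⟨n, t, ht⟩ := hl (P.ι.app _ s)
    have hmem : M.presheaf.map (homOfLE (X.basicOpen_le g)).op t ∈ P.sec (X.basicOpen g) :=
      ht ▸ Submodule.smul_mem _ _ (P.ι_app_mem s)
    obtain ⟨m, hm⟩ := h U hU g t hmem
    refine ⟨m + n, P.lift (g ^ m • t) hm, P.ι_app_injective _ ?_⟩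
    change M.presheaf.map (homOfLE (X.basicOpen_le g)).op (g ^ m • t) =
      (X.presheaf.map (homOfLE (X.basicOpen_le g)).op g) ^ (m + n) • P.ι.app _ s
    erw [M.map_smul]
    rw [ht, pow_add, mul_smul, map_pow]
  · obtain ⟨n, hn⟩ := hs (P.ι.app U t) (congrArg Subtype.val ht)
    exact ⟨n, P.ι_app_injective _ hn⟩

theorem isFiniteType [IsLocallyNoetherian X] (hM : Coh.IsCoh M) [P.obj.IsQuasicoherent] :
    SheafOfModules.IsFiniteType.{u, u, u} (R := X.ringCatSheaf) P.obj :=
  (isFiniteType_iff_moduleFinite _).2 fun U hU ↦ by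
    have := hM.1
    have := moduleFinite_of_isFiniteType M hM.2 hU
    have : IsNoetherianRing Γ(X, U) := IsLocallyNoetherian.component_noetherian ⟨U, hU⟩
    exact Module.Finite.of_injective (appLinear P.ι U) (P.ι_app_injective U)

end SubData

end GrothLib.QCoh
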