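import Groth.Agent.Lib.QCoh.Filtration
import Mathlib.RingTheory.Length

/-!
# Dévissage: the step at a generic point
-/

universe u

open CategoryTheory CategoryTheory.Limits Opposite AlgebraicGeometry TopologicalSpace

namespace GrothLib.QCoh

variable {X : Scheme.{u}}

/-- The kernel, image short exact sequence. -/
theorem shortExact_kernel_image {A B : X.Modules} (f : A ⟶ B) :
    ∃ w : kernel.ι f ≫ Abelian.factorThruImage f = 0,
      (ShortComplex.mk (kernel.ι f) (Abelian.factorThruImage f) w).ShortExact := by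
  have w : kernel.ι f ≫ Abelian.factorThruImage f = 0 := by
    rw [← cancel_mono (Abelian.image.ι f), Category.assoc, Abelian.image.fac, kernel.condition,
      zero_comp]
  refine ⟨w, ShortComplex.ShortExact.mk' (ShortComplex.exact_of_f_is_kernel _ ?_) inferInstance
    inferInstance⟩
  refine KernelFork.IsLimit.ofι (kernel.ι f) w
    (fun g hg ↦ kernel.lift f g (by
      rw [← Abelian.image.fac f, ← Category.assoc, hg, zero_comp]))
    (fun g hg ↦ kernel.lift_ι _ _ _) (fun g hg m hm ↦ ?_)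
  rw [← cancel_mono (kernel.ι f), kernel.lift_ι, hm]

theorem shortExact_image_cokernel {A B : X.Modules} (f : A ⟶ B) :
    (ShortComplex.mk (Abelian.image.ι f) (cokernel.π f) (kernel.condition _)).ShortExact :=
  ShortComplex.ShortExact.mk'
    (ShortComplex.exact_of_f_is_kernel _ (kernelIsKernel (cokernel.π f))) inferInstance inferInstance

section Transfer

variable [IsLocallyNoetherian X] (P : X.Modules → Prop) (T : Set X) (x : X)
  (h₁ : ∀ S : ShortComplex X.Modules, S.ShortExact → Coh.IsCoh S.X₁ → Coh.IsCoh S.X₂ →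
    Coh.IsCoh S.X₃ → CohB1.support S.X₂ ⊆ T →
    (P S.X₁ → P S.X₂ → P S.X₃) ∧ (P S.X₁ → P S.X₃ → P S.X₂) ∧ (P S.X₂ → P S.X₃ → P S.X₁))
  (hs : ∀ M : X.Modules, Coh.IsCoh M → CohB1.support M ⊆ T → x ∉ CohB1.support M → P M)

include h₁ hs in
/-- The property passes along maps that are bijective at `x`. -/
theorem iff_of_stalk_bijective {A B : X.Modules} (hA : Coh.IsCoh A) (hB : Coh.IsCoh B)
    (hAT : CohB1.support A ⊆ T) (hBT : CohB1.support B ⊆ T) (f : A ⟶ B)
    (hf : Function.Bijective (stalkLin f x)) : P A ↔ P B := by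
  obtain ⟨w, hS⟩ := shortExact_kernel_image f
  have hS' := shortExact_image_cokernel f
  have hK := isCoh_kernel f hA hB
  have hC := isCoh_cokernel f hA hB
  have hI : Coh.IsCoh (Abelian.image f) := isCoh_kernel _ hB hC
  have hKP : P (kernel f) := hs _ hK ((support_subset_of_mono (kernel.ι f)).trans hAT)
    (notMem_support_kernel_of_injective f hf.1)
  have hCP : P (cokernel f) := hs _ hC ((support_subset_of_epi (cokernel.π f)).trans hBT)
    (notMem_support_cokernel_of_surjective f hf.2)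
  obtain ⟨a₁, a₂, a₃⟩ := h₁ _ hS hK hA hI hAT
  obtain ⟨b₁, b₂, b₃⟩ := h₁ _ hS' hI hB hC hBT
  exact ⟨fun h ↦ b₂ (a₁ hKP h) hCP, fun h ↦ a₂ hKP (b₃ h hCP)⟩

end Transfer

theorem killed_stalk_surjective [IsLocallyNoetherian X] (G : X.Modules) [G.IsQuasicoherent] (x : X)
    (hm : ∀ r ∈ IsLocalRing.maximalIdeal (X.presheaf.stalk x),
      ∀ e : G.presheaf.stalk x, r • e = 0) :
    Function.Surjective (stalkLin (killed G (Scheme.IdealSheafData.vanishingIdeal
      ⟨closure {x}, isClosed_closure⟩)).ι x) := by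
  set I := Scheme.IdealSheafData.vanishingIdeal ⟨closure {x}, isClosed_closure⟩
  intro e
  obtain ⟨W, hW, hxW, -⟩ := Opens.isBasis_iff_nbhd.1 X.isBasis_affineOpens (Opens.mem_top x)
  have : IsNoetherianRing Γ(X, W) := IsLocallyNoetherian.component_noetherian ⟨W, hW⟩
  obtain ⟨c, z, hc, hz⟩ := WeakAss.exists_smul_eq_germ hW hxW e
  obtain ⟨A, hA⟩ := IsNoetherian.noetherian (I.ideal ⟨W, hW⟩)
  have key : ∀ a : A, ∃ c ∉ WeakAss.primeAt x hxW, c • a.1 • z = 0 := fun a ↦ by
    refine (WeakAss.germ_eq_zero_iff hW hxW _).1 ?_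
    rw [WeakAss.germ_smul]
    refine hm _ ?_ _
    by_contra h
    exact (mem_vanishingIdeal_iff _ ⟨W, hW⟩ a.1).1 (hA.le (Submodule.subset_span a.2)) x hxW
      (subset_closure rfl) ((Scheme.mem_basicOpen _ _ x hxW).2 (IsLocalRing.notMem_maximalIdeal.1 h))
  choose d hd hdz using key
  classical
  have hD : (∏ a, d a) ∉ WeakAss.primeAt x hxW := fun h ↦
    let ⟨a, _, ha⟩ := Ideal.IsPrime.prod_mem_iff.1 h
    hd a ha
  have hk : (∏ a, d a) • z ∈ (killed G I).sec W := by
    rw [killed_mem_iff G I ⟨W, hW⟩]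
    intro a ha
    rw [← hA] at ha
    induction ha using Submodule.span_induction with
    | mem y hy =>
      rw [← Finset.mul_prod_erase _ d (Finset.mem_univ ⟨y, hy⟩), mul_comm (d ⟨y, hy⟩), mul_smul,
        smul_comm y, smul_comm y, hdz ⟨y, hy⟩, smul_zero]
    | zero => exact zero_smul _ _
    | add y z _ _ hy hz => rw [add_smul, hy, hz, add_zero]
    | smul c y _ hy => rw [smul_eq_mul, mul_smul, hy, smul_zero]
  have hu := ((Scheme.mem_basicOpen _ _ x hxW).mp (WeakAss.notMem_primeAt_iff.mp hD)).mul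
    ((Scheme.mem_basicOpen _ c x hxW).mp (WeakAss.notMem_primeAt_iff.mp hc))
  refine ⟨((hu.unit⁻¹ : _ˣ) : X.presheaf.stalk x) •
    (killed G I).obj.presheaf.germ W x hxW ((killed G I).lift _ hk), ?_⟩
  rw [map_smul, stalkLin_germ, SubData.ι_app_lift, WeakAss.germ_smul, ← hz, smul_smul, smul_smul,
    mul_assoc, IsUnit.val_inv_mul, one_smul]

theorem graph_killedByIdeal (F G : X.Modules) (x : X)
    (φ : F.presheaf.stalk x →ₗ[X.presheaf.stalk x] G.presheaf.stalk x) (I : X.IdealSheafData)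
    (hkF : ClSub.KilledByIdeal I F) (hkG : ClSub.KilledByIdeal I G) :
    ClSub.KilledByIdeal I (graphAt F G x φ).obj := fun U a ha m ↦
  graph_ext F G x φ _
    (((appLinear (graphFst F G x φ) U.1).map_smul a m).trans (hkF U a ha _))
    (((appLinear (graphSnd F G x φ) U.1).map_smul a m).trans (hkG U a ha _))

/-- The dévissage step: from one module with one-dimensional generic stalk to all ideals. -/
theorem piece_of_generic [IsLocallyNoetherian X] {Z : Scheme.{u}} (i : Z ⟶ X) [IsClosedImmersion i]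
    [IsIntegral Z] (P : X.Modules → Prop)
    (h₁ : ∀ S : ShortComplex X.Modules, S.ShortExact → Coh.IsCoh S.X₁ → Coh.IsCoh S.X₂ →
      Coh.IsCoh S.X₃ → CohB1.support S.X₂ ⊆ Set.range i →
      (P S.X₁ → P S.X₂ → P S.X₃) ∧ (P S.X₁ → P S.X₃ → P S.X₂) ∧ (P S.X₂ → P S.X₃ → P S.X₁))
    (hs : ∀ M : X.Modules, Coh.IsCoh M → CohB1.support M ⊆ Set.range i →
      i (genericPoint Z) ∉ CohB1.support M → P M)
    (G : X.Modules) (hG : Coh.IsCoh G) (hGT : CohB1.support G ⊆ Set.range i)
    (he : Nonempty (G.presheaf.stalk (i (genericPoint Z)) ≃ₗ[X.presheaf.stalk (i (genericPoint Z))]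
      IsLocalRing.ResidueField (X.presheaf.stalk (i (genericPoint Z)))))
    (hPG : P G) (N : Z.Modules) (ι : N ⟶ Coh.structureModule Z) [Mono ι] (hN : Coh.IsCoh N) :
    P ((Coh.push i).obj N) := by
  obtain ⟨e⟩ := he
  set x := i (genericPoint Z) with hxdef
  have hrange : closure {x} = Set.range i := closure_singleton_eq_range i
  have hI := ker_eq_vanishingIdeal_closure i
  have := hG.1
  have := hN.1
  have : IsLocallyNoetherian Z := LocallyOfFiniteType.isLocallyNoetherian i
  set G₁ := (killed G i.ker).obj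
  have hG₁ : Coh.IsCoh G₁ := killed_isCoh G hG i.ker
  have := hG₁.1
  have hk₁ : ClSub.KilledByIdeal i.ker G₁ := killed_killedByIdeal G i.ker
  have hT₁ : CohB1.support G₁ ⊆ Set.range i := support_subset_range i G₁ hk₁
  have : Mono (killed G i.ker).ι := mono_of_app_injective _ (killed G i.ker).ι_app_injective
  have hm : ∀ r ∈ IsLocalRing.maximalIdeal (X.presheaf.stalk x),
      ∀ v : G.presheaf.stalk x, r • v = 0 := fun r hr v ↦ e.injective <| by
    rw [map_smul, map_zero, Algebra.smul_def]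
    exact mul_eq_zero_of_left ((IsLocalRing.residue_eq_zero_iff r).2 hr) _
  have hb₁ : Function.Bijective (stalkLin (killed G i.ker).ι x) := by
    refine ⟨stalkLin_injective _ x, ?_⟩
    rw [hI]
    exact killed_stalk_surjective G x hm
  have hPG₁ : P G₁ :=
    (iff_of_stalk_bijective P _ x h₁ hs hG₁ hG hT₁ hGT (killed G i.ker).ι hb₁).2 hPG
  obtain ⟨v, hv⟩ := hb₁.2 (e.symm 1)
  have hgen : ∀ w : G₁.presheaf.stalk x, ∃ r : X.presheaf.stalk x, r • v = w := fun w ↦ by
    obtain ⟨r, hr⟩ := IsLocalRing.residue_surjective (e (stalkLin (killed G i.ker).ι x w))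
    refine ⟨r, hb₁.1 ?_⟩
    rw [map_smul, hv, ← map_smul, Algebra.smul_def, mul_one]
    exact (congrArg e.symm hr).trans (e.symm_apply_apply _)
  have hv0 : v ≠ 0 := fun h ↦ one_ne_zero (α := IsLocalRing.ResidueField (X.presheaf.stalk x)) <| by
    rw [← e.apply_symm_apply (1 : IsLocalRing.ResidueField (X.presheaf.stalk x)), ← hv, h, map_zero,
      map_zero]
  obtain ⟨φ, -, hφi, hφs⟩ := exists_stalkMap_of_killed i G₁ hk₁ v
  have hφ : Function.Bijective φ := ⟨hφi hv0, hφs hgen⟩
  set J := (graphAt (pushUnit i) G₁ x φ).obj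
  have hJ : Coh.IsCoh J := graphAt_isCoh _ _ _ φ (pushUnit_isCoh i) hG₁ i.ker hI
    (pushUnit_killedByIdeal i) hk₁
  have := hJ.1
  have hJT : CohB1.support J ⊆ Set.range i :=
    support_subset_range i J (graph_killedByIdeal _ _ _ φ _ (pushUnit_killedByIdeal i) hk₁)
  have hF := pushUnit_isCoh i
  have hFT : CohB1.support (pushUnit i) ⊆ Set.range i := support_pushforward_subset_range i _
  have hsnd : Function.Bijective (stalkLin (graphSnd (pushUnit i) G₁ x φ) x) := by
    have : ⇑(stalkLin (graphSnd (pushUnit i) G₁ x φ) x) =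
        φ ∘ stalkLin (graphFst (pushUnit i) G₁ x φ) x :=
      funext fun j ↦ graphSnd_stalk (pushUnit i) G₁ x φ j
    rw [this]
    exact hφ.comp (graphFst_stalk_bijective _ _ _ _)
  have hPJ : P J := (iff_of_stalk_bijective P _ x h₁ hs hJ hG₁ hJT hT₁ _ hsnd).2 hPG₁
  have hPF : P (pushUnit i) :=
    (iff_of_stalk_bijective P _ x h₁ hs hJ hF hJT hFT _ (graphFst_stalk_bijective _ _ _ _)).1 hPJ
  have hpN : Coh.IsCoh ((Coh.push i).obj N) :=
    ⟨isQuasicoherent_pushforward i N, isFiniteType_pushforward i N hN.2⟩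
  have hNT := support_pushforward_subset_range i N
  by_cases hx : x ∈ CohB1.support ((Coh.push i).obj N)
  · have : Mono ((Coh.push i).map ι) :=
      mono_of_app_injective _ fun U ↦ Cohom.app_injective_of_mono ι (i ⁻¹ᵁ U)
    refine (iff_of_stalk_bijective P _ x h₁ hs hpN hF hNT hFT ((Coh.push i).map ι) ?_).2 hPF
    refine ⟨stalkLin_injective _ x, fun w ↦ ?_⟩
    obtain ⟨n, hn⟩ : ∃ n : ((Coh.push i).obj N).presheaf.stalk x, n ≠ 0 := by
      by_contra h
      push Not at h
      exact hx (subsingleton_of_forall_eq 0 h)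
    obtain ⟨r, hr⟩ := exists_smul_pushOne_eq i (stalkLin ((Coh.push i).map ι) x n)
    obtain ⟨s, hs'⟩ := exists_smul_pushOne_eq i w
    have hr0 : (i.stalkMap (genericPoint Z)).hom r ≠ 0 := fun h ↦ hn <| by
      refine stalkLin_injective ((Coh.push i).map ι) x ?_
      rw [map_zero, ← hr]
      exact (smul_pushOne_eq_zero_iff i r).2 h
    have hu : IsUnit r := (isUnit_map_iff (i.stalkMap (genericPoint Z)).hom r).1
      (IsUnit.mk0 (G₀ := Z.functionField) _ hr0)
    refine ⟨(s * ((hu.unit⁻¹ : _ˣ) : X.presheaf.stalk x)) • n, ?_⟩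
    rw [map_smul, ← hr, smul_smul, mul_assoc, IsUnit.val_inv_mul, mul_one]
    exact hs'
  · exact hs _ hpN hNT hx

theorem genericPoint_mem_support_push {Z : Scheme.{u}} (i : Z ⟶ X) [IsClosedImmersion i]
    [IsIntegral Z] (N : Z.Modules) (ι : N ⟶ Coh.structureModule Z) [Mono ι] (hN : ¬ IsZero N) :
    i (genericPoint Z) ∈ CohB1.support ((Coh.push i).obj N) := by
  by_contra hx
  have : Subsingleton (((Coh.push i).obj N).presheaf.stalk (i (genericPoint Z))) :=
    stalk_subsingleton_of_notMem hx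
  have : Mono ((Coh.push i).map ι) :=
    mono_of_app_injective _ fun U ↦ Cohom.app_injective_of_mono ι (i ⁻¹ᵁ U)
  refine hN ((IsZero.iff_id_eq_zero N).2 (Scheme.Modules.hom_ext _ _ fun W ↦ ?_))
  obtain ⟨O, hO, hOW⟩ := i.isClosedEmbedding.isInducing.isOpen_iff.1 W.isOpen
  obtain rfl : i ⁻¹ᵁ (⟨O, hO⟩ : X.Opens) = W := Opens.ext hOW
  refine AddCommGrpCat.ext fun m ↦ ?_
  refine (Cohom.app_injective_of_mono ι (i ⁻¹ᵁ ⟨O, hO⟩)) ((?_ : _ = (0 : Γ(Coh.structureModule Z,
    i ⁻¹ᵁ (⟨O, hO⟩ : X.Opens)))).trans (map_zero _).symm)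
  refine pushUnit_torsFreeAt i ⟨O, hO⟩ _ fun hxO ↦ ?_
  refine (stalkLin_germ ((Coh.push i).map ι) hxO m).symm.trans ?_
  rw [Subsingleton.elim (α := ((Coh.push i).obj N).presheaf.stalk (i (genericPoint Z)))
    (((Coh.push i).obj N).presheaf.germ _ _ hxO m) 0, map_zero]

/-- Closed points of the induction: the range of the piece lies in the support. -/
theorem range_subset_support_push [IsLocallyNoetherian X] {Z : Scheme.{u}} (i : Z ⟶ X)
    [IsClosedImmersion i] [IsIntegral Z] (N : Z.Modules) (ι : N ⟶ Coh.structureModule Z) [Mono ι]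
    (hq : Coh.IsCoh N) (hN : ¬ IsZero N) :
    Set.range i ⊆ CohB1.support ((Coh.push i).obj N) := by
  have : IsLocallyNoetherian Z := LocallyOfFiniteType.isLocallyNoetherian i
  have := hq.1
  rw [← closure_singleton_eq_range i]
  refine (isClosed_support_of_isCoh ⟨isQuasicoherent_pushforward i N,
    isFiniteType_pushforward i N hq.2⟩).closure_subset_iff.2 ?_
  exact Set.singleton_subset_iff.2 (genericPoint_mem_support_push i N ι hN)

theorem exists_integral_closedSubscheme [Nonempty X] :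
    ∃ (Z : Scheme.{u}) (i : Z ⟶ X), IsClosedImmersion i ∧ IsIntegral Z := by
  obtain ⟨x⟩ := ‹Nonempty X›
  set T : Closeds X := ⟨closure {x}, isClosed_closure⟩
  let i := (Scheme.IdealSheafData.vanishingIdeal T).subschemeι
  have hrange : Set.range i = (T : Set X) := RedSub.range_subschemeι_vanishingIdeal T
  have := RedSub.isReduced_subscheme_vanishingIdeal T
  have : IrreducibleSpace (Scheme.IdealSheafData.vanishingIdeal T).subscheme := by
    rw [irreducibleSpace_def, Set.top_eq_univ]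
    obtain ⟨z, hz⟩ : x ∈ Set.range i := hrange.symm ▸ subset_closure rfl
    have hpre : closure {z} = (Set.univ : Set _) := by
      rw [i.isClosedEmbedding.isInducing.closure_eq_preimage_closure_image, Set.image_singleton, hz]
      exact Set.eq_univ_of_forall fun w ↦ (hrange ▸ ⟨w, rfl⟩ : i w ∈ (T : Set X))
    exact hpre ▸ isIrreducible_singleton.closure
  exact ⟨_, i, inferInstance, isIntegral_of_irreducibleSpace_of_isReduced _⟩

/-- Noetherian induction: a property with two-out-of-three and one generic module for each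
integral closed subscheme inside `X'` holds for every coherent module supported in `X'`. -/
theorem devissage [IsNoetherian X] (P : X.Modules → Prop)
    (hP : ∀ M N : X.Modules, Nonempty (M ≅ N) → P M → P N)
    (h0 : ∀ M : X.Modules, IsZero M → P M)
    (h₁ : ∀ S : ShortComplex X.Modules, S.ShortExact → Coh.IsCoh S.X₁ → Coh.IsCoh S.X₂ →
      Coh.IsCoh S.X₃ →
      (P S.X₁ → P S.X₂ → P S.X₃) ∧ (P S.X₁ → P S.X₃ → P S.X₂) ∧ (P S.X₂ → P S.X₃ → P S.X₁))
    (X' : Set X)
    (hgen : ∀ (Z : Scheme.{u}) (i : Z ⟶ X) [IsClosedImmersion i] [IsIntegral Z],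
      Set.range i ⊆ X' → ∃ G : X.Modules, Coh.IsCoh G ∧ CohB1.support G ⊆ Set.range i ∧
        Nonempty (G.presheaf.stalk (i (genericPoint Z)) ≃ₗ[X.presheaf.stalk (i (genericPoint Z))]
          IsLocalRing.ResidueField (X.presheaf.stalk (i (genericPoint Z)))) ∧ P G)
    (M : X.Modules) (hM : Coh.IsCoh M) (hsupp : CohB1.support M ⊆ X') : P M := by
  suffices ∀ (T : Closeds X) (M : X.Modules), Coh.IsCoh M → CohB1.support M = T → (T : Set X) ⊆ X' →
      P M from this ⟨_, isClosed_support_of_isCoh hM⟩ M hM rfl hsupp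
  intro T
  induction T using WellFounded.induction (r := ((· < ·) : Closeds X → Closeds X → Prop))
    wellFounded_lt with
  | _ T ih =>
    intro M hM hMT hTX
    refine coh_induction P hP h0 (fun S hS a b c ↦ (h₁ S hS a b c).2.1) M hM
      fun Z i hi hZ N ι hι hN hN0 hsub ↦ ?_
    have hiT : Set.range i ⊆ (T : Set X) :=
      ((range_subset_support_push i N ι hN hN0).trans hsub).trans hMT.le
    obtain ⟨G, hG, hGT, he, hPG⟩ := hgen Z i (hiT.trans hTX)
    refine piece_of_generic i P (fun S hS a b c _ ↦ h₁ S hS a b c) (fun M' hM' hsub' hx ↦ ?_)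
      G hG hGT he hPG N ι hN
    refine ih ⟨_, isClosed_support_of_isCoh hM'⟩ (lt_of_le_of_ne (hsub'.trans hiT) fun e ↦ ?_) M' hM' rfl
      ((hsub'.trans hiT).trans hTX)
    exact hx ((SetLike.ext'_iff.1 e).symm.le (hiT ⟨genericPoint Z, rfl⟩))

/-- Dévissage on an irreducible closed set: pieces strictly inside, one generic module. -/
theorem devissage_irreducible [IsNoetherian X] (Z₀ : Set X) (hZ₀ : IsClosed Z₀) (ξ : X)
    (hξ : closure {ξ} = Z₀) (P : X.Modules → Prop)
    (hP : ∀ M N : X.Modules, Nonempty (M ≅ N) → P M → P N)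
    (h₁ : ∀ S : ShortComplex X.Modules, S.ShortExact → Coh.IsCoh S.X₁ → Coh.IsCoh S.X₂ →
      Coh.IsCoh S.X₃ → CohB1.support S.X₂ ⊆ Z₀ →
      (P S.X₁ → P S.X₂ → P S.X₃) ∧ (P S.X₁ → P S.X₃ → P S.X₂) ∧ (P S.X₂ → P S.X₃ → P S.X₁))
    (h₂ : ∀ (Z : Scheme.{u}) (i : Z ⟶ X), IsClosedImmersion i → IsIntegral Z →
      Set.range i ⊆ Z₀ → Set.range i ≠ Z₀ →
      ∀ (I : Z.Modules) (ι : I ⟶ Coh.structureModule Z), Mono ι → I.IsQuasicoherent →
        P ((Coh.push i).obj I))
    (G : X.Modules) (hG : Coh.IsCoh G) (hGZ : CohB1.support G ⊆ Z₀)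
    (he : Nonempty (G.presheaf.stalk ξ ≃ₗ[X.presheaf.stalk ξ]
      IsLocalRing.ResidueField (X.presheaf.stalk ξ))) (hPG : P G)
    (M : X.Modules) (hM : Coh.IsCoh M) (hsupp : CohB1.support M ⊆ Z₀) : P M := by
  have hzero : ∀ M : X.Modules, IsZero M → P M := by
    intro M hM0
    have := hG.1
    have hc : Coh.IsCoh (cokernel (𝟙 G)) := isCoh_cokernel _ hG hG
    have hz : IsZero (cokernel (𝟙 G)) := isZero_cokernel_of_epi _
    have hS : (ShortComplex.mk (𝟙 G) (cokernel.π (𝟙 G)) (cokernel.condition _)).ShortExact :=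
      ShortComplex.ShortExact.mk' (ShortComplex.exact_cokernel _) inferInstance inferInstance
    exact hP _ _ ⟨hz.iso hM0⟩ ((h₁ _ hS hG hG hc hGZ).1 hPG hPG)
  let P' : X.Modules → Prop := fun M ↦ CohB1.support M ⊆ Z₀ → P M
  have key : ∀ M : X.Modules, Coh.IsCoh M → (∀ (Z : Scheme.{u}) (i : Z ⟶ X), IsClosedImmersion i →
      IsIntegral Z → ∀ (N : Z.Modules) (ι : N ⟶ Coh.structureModule Z), Mono ι → Coh.IsCoh N →
      ¬ IsZero N → CohB1.support ((Coh.push i).obj N) ⊆ CohB1.support M → P' ((Coh.push i).obj N)) →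
      P' M := fun M hM h ↦ coh_induction P'
    (fun A B e hA hB ↦ hP A B e (hA ((support_eq_of_iso e.some).le.trans hB)))
    (fun A hA _ ↦ hzero A hA)
    (fun S hS a b c h₁' h₃' h2 ↦ (h₁ S hS a b c h2).2.1
      (h₁' ((have := hS.mono_f; support_subset_of_mono S.f).trans h2))
      (h₃' ((have := hS.epi_g; support_subset_of_epi S.g).trans h2))) M hM h
  refine key M hM (fun Z i hi hZ N ι hι hN hN0 _ hsub ↦ ?_) hsupp
  have hiZ : Set.range i ⊆ Z₀ := (range_subset_support_push i N ι hN hN0).trans hsub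
  by_cases heq : Set.range i = Z₀
  · have hη : i (genericPoint Z) = ξ :=
      (inseparable_iff_closure_eq.2 ((closure_singleton_eq_range i).trans (heq.trans hξ.symm))).eq
    subst hη
    refine piece_of_generic i P (fun S hS a b c h ↦ h₁ S hS a b c (h.trans hiZ))
      (fun M' hM' hsub' hx ↦ ?_) G hG (heq ▸ hGZ) he hPG N ι hN
    refine key M' hM' (fun W j hj hW N' ι' hι' hN' hN0' hsub'' hs' ↦ ?_) (hsub'.trans hiZ)
    have hjM : Set.range j ⊆ CohB1.support M' :=
      (range_subset_support_push j N' ι' hN' hN0').trans hsub''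
    refine h₂ W j hj hW ((hjM.trans hsub').trans hiZ) (fun e ↦ hx (hjM ?_)) N' ι' hι' hN'.1
    rw [e]
    exact hξ ▸ subset_closure rfl
  · exact h₂ Z i hi hZ hiZ heq N ι hι hN.1

end GrothLib.QCoh
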