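import Groth.Agent.Lib.QCoh.LocGenOpen
import Mathlib.Topology.NoetherianSpace
import Mathlib.SetTheory.Cardinal.Order

/-!
# Extension of submodules of finite type: locally Noetherian spaces, qcqs schemes
-/

universe u

open CategoryTheory CategoryTheory.Limits Opposite AlgebraicGeometry TopologicalSpace

namespace GrothLib.QCoh

variable {X : Scheme.{u}}

theorem isCompact_of_subset_of_locallyNoetherianSpace
    (hX : ∀ x : X, ∃ U : X.Opens, x ∈ U ∧ NoetherianSpace (U : Set X)) {K t : Set X}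
    (hK : IsCompact K) (h : t ⊆ K) : IsCompact t := by
  choose W hxW hW using hX
  obtain ⟨s, hs⟩ := hK.elim_finite_subcover (fun x : X ↦ (W x : Set X)) (fun x ↦ (W x).isOpen)
    fun x _ ↦ Set.mem_iUnion.2 ⟨x, hxW x⟩
  have e : t = ⋃ x ∈ s, t ∩ (W x : Set X) := by
    rw [← Set.inter_iUnion₂, Set.inter_eq_left.2 (h.trans hs)]
  rw [e]
  exact s.isCompact_biUnion fun x _ ↦
    (noetherianSpace_set_iff _).1 (hW x) _ Set.inter_subset_right

theorem quasiSeparatedSpace_of_locallyNoetherianSpace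
    (hX : ∀ x : X, ∃ U : X.Opens, x ∈ U ∧ NoetherianSpace (U : Set X)) :
    QuasiSeparatedSpace X :=
  (quasiSeparatedSpace_iff X).2 fun _ _ _ hU _ _ ↦
    isCompact_of_subset_of_locallyNoetherianSpace hX hU Set.inter_subset_left

theorem isCompact_inf_of_quasiCompact (U : X.Opens) [QuasiCompact U.ι] {V : X.Opens}
    (hV : IsCompact (V : Set X)) : IsCompact ((V ⊓ U : X.Opens) : Set X) := by
  have h := (U.ι.isCompact_preimage hV).image U.ι.continuous
  have e : U.ι '' (U.ι ⁻¹ᵁ V : Set U) = ((V ⊓ U : X.Opens) : Set X) := by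
    ext x
    refine ⟨?_, fun hx ↦ ⟨⟨x, hx.2⟩, hx.1, rfl⟩⟩
    rintro ⟨y, hy, rfl⟩
    exact ⟨hy, y.2⟩
  exact e ▸ h

theorem quasiCompact_ι_of_forall (U : X.Opens)
    (h : ∀ V : X.Opens, IsAffineOpen V → IsCompact ((V ⊓ U : X.Opens) : Set X)) :
    QuasiCompact U.ι := by
  refine quasiCompact_iff_forall_isAffineOpen.2 fun V hV ↦ ?_
  rw [U.ι.isOpenEmbedding.isEmbedding.isCompact_iff]
  have e : U.ι '' (U.ι ⁻¹ᵁ V : Set U) = ((V ⊓ U : X.Opens) : Set X) := by
    ext x
    refine ⟨?_, fun hx ↦ ⟨⟨x, hx.2⟩, hx.1, rfl⟩⟩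
    rintro ⟨y, hy, rfl⟩
    exact ⟨hy, y.2⟩
  rw [e]
  exact h V hV

variable {F : X.Modules} [F.IsQuasicoherent]

theorem exists_finiteType_extension_locallyNoetherianSpace
    (hX : ∀ x : X, ∃ U : X.Opens, x ∈ U ∧ NoetherianSpace (U : Set X)) {U : X.Opens}
    {G : (U : Scheme.{u}).Modules} (i : G ⟶ F.restrict U.ι) [Mono i] [G.IsQuasicoherent]
    (hG : SheafOfModules.IsFiniteType.{u, u, u} (R := (U : Scheme.{u}).ringCatSheaf) G) :
    ∃ (G' : X.Modules) (i' : G' ⟶ F) (e : G'.restrict U.ι ≅ G), Mono i' ∧ Coh.IsQCoh G' ∧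
      CohB1.IsFT G' ∧ e.hom ≫ i = (Scheme.Modules.restrictFunctor U.ι).map i' := by
  obtain ⟨_, _⟩ := exists_wellFoundedLT (α := X.affineOpens)
  exact exists_finiteType_extension i hG (fun l : X.affineOpens ↦ l.1) (fun l ↦ l.2)
    (by rw [iSup_affineOpens_eq_top, sup_top_eq])
    fun l ↦ isCompact_of_subset_of_locallyNoetherianSpace hX l.2.isCompact Set.inter_subset_left

theorem exists_finiteType_extension_qcqs [CompactSpace X] [QuasiSeparatedSpace X] {U : X.Opens}
    (hU : IsCompact (U : Set X)) {G : (U : Scheme.{u}).Modules} (i : G ⟶ F.restrict U.ι) [Mono i]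
    [G.IsQuasicoherent]
    (hG : SheafOfModules.IsFiniteType.{u, u, u} (R := (U : Scheme.{u}).ringCatSheaf) G) :
    ∃ (G' : X.Modules) (i' : G' ⟶ F) (e : G'.restrict U.ι ≅ G), Mono i' ∧ Coh.IsQCoh G' ∧
      CohB1.IsFT G' ∧ e.hom ≫ i = (Scheme.Modules.restrictFunctor U.ι).map i' := by
  obtain ⟨ι, _, V, hVA, -, hcov⟩ := exists_finite_affine_cover (U := (⊤ : X.Opens))
    (by simpa using isCompact_univ)
  let e := Fintype.equivFin ι
  refine exists_finiteType_extension i hG (fun l ↦ V (e.symm l)) (fun l ↦ hVA _) ?_ fun l ↦ ?_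
  · refine eq_top_iff.2 (hcov.trans (le_sup_of_le_right (iSup_le fun j ↦ ?_)))
    exact le_iSup_of_le (f := fun l ↦ V (e.symm l)) (e j) (by simp)
  · rw [inf_sup_left, inf_iSup_eq, Opens.coe_sup, Opens.coe_iSup]
    exact (QuasiSeparatedSpace.inter_isCompact _ _ (V _).isOpen (hVA _).isCompact U.isOpen hU).union
      (isCompact_iUnion fun m ↦ QuasiSeparatedSpace.inter_isCompact _ _ (V _).isOpen
        (hVA _).isCompact (V _).isOpen (hVA _).isCompact)

end GrothLib.QCoh
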