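import Groth.Agent.Lib.QCoh.Sub
import Groth.Agent.Lib.QCoh.Support
import Groth.Prelude.Def_ClSub2
import Mathlib.Topology.NoetherianSpace
import Mathlib.AlgebraicGeometry.Noetherian

/-!
# Sections killed by an ideal sheaf, sections supported in a closed set
-/

universe u

open CategoryTheory CategoryTheory.Limits Opposite AlgebraicGeometry TopologicalSpace

namespace GrothLib.QCoh

variable {X : Scheme.{u}}

/-- A section with vanishing germs vanishes. -/
theorem section_eq_zero_of_germ (M : X.Modules) {U : X.Opens} (s : Γ(M, U))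
    (h : ∀ (x : X) (hx : x ∈ U), M.presheaf.germ U x hx s = 0) : s = 0 :=
  TopCat.Presheaf.section_ext (C := Ab.{u}) (X := X.carrier) ⟨M.presheaf, M.isSheaf⟩ U s 0
    fun x hx ↦ (h x hx).trans (map_zero _).symm

theorem germ_map (M : X.Modules) {U V : X.Opens} (i : V ⟶ U) {x : X} (hx : x ∈ V) (s : Γ(M, U)) :
    M.presheaf.germ V x hx (M.presheaf.map i.op s) = M.presheaf.germ U x (i.le hx) s :=
  TopCat.Presheaf.germ_res_apply _ _ _ _ _

/-- Sections killed by an ideal sheaf. -/
noncomputable def killed (M : X.Modules) (I : X.IdealSheafData) : SubData M where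
  sec V :=
    { carrier := {s | ∀ (W : X.affineOpens) (h : W.1 ≤ V), ∀ a ∈ I.ideal W,
        a • M.presheaf.map (homOfLE h).op s = 0}
      add_mem' := fun hs ht W h a ha ↦ by rw [map_add, smul_add, hs W h a ha, ht W h a ha, add_zero]
      zero_mem' := fun W h a _ ↦ by rw [map_zero, smul_zero]
      smul_mem' := fun r s hs W h a ha ↦ by
        erw [M.map_smul]
        rw [smul_comm, hs W h a ha, smul_zero] }
  map_mem i s hs W h a ha := by
    rw [Cohom.map_map_apply]
    exact hs W (h.trans i.le) a ha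
  locality {U} s h W hW a ha := by
    refine section_eq_zero_of_germ M _ fun x hx ↦ ?_
    obtain ⟨V, i, hxV, hV⟩ := h x (hW hx)
    obtain ⟨W', hW', hxW', hle⟩ := Opens.isBasis_iff_nbhd.1 X.isBasis_affineOpens
      (show x ∈ W.1 ⊓ V from ⟨hx, hxV⟩)
    let w : X.affineOpens := ⟨W', hW'⟩
    have hl : w ≤ W := hle.trans inf_le_left
    have h0 := hV w (hle.trans inf_le_right) _ (I.ideal_le_comap_ideal hl ha)
    rw [← germ_map M (homOfLE (hle.trans inf_le_left)) hxW']
    erw [M.map_smul]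
    rw [Cohom.map_map_apply] at h0 ⊢
    erw [h0]
    exact map_zero _

theorem killed_mem_iff (M : X.Modules) (I : X.IdealSheafData) (U : X.affineOpens) (s : Γ(M, U.1)) :
    s ∈ (killed M I).sec U.1 ↔ ∀ a ∈ I.ideal U, a • s = 0 := by
  refine ⟨fun h a ha ↦ ?_, fun h W hW a ha ↦ ?_⟩
  · have := h U le_rfl a ha
    rwa [Cohom.map_self_apply] at this
  · rw [← I.map_ideal (U := W) (V := U) hW] at ha
    induction ha using Submodule.span_induction with
    | mem x hx =>
      obtain ⟨b, hb, rfl⟩ := hx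
      exact (M.map_smul _ b s).symm.trans (by rw [h b hb, map_zero])
    | zero => exact zero_smul _ _
    | add x y _ _ hx hy => rw [add_smul, hx, hy, add_zero]
    | smul c x _ hx => rw [smul_eq_mul, mul_smul, hx, smul_zero]

theorem killed_killedByIdeal (M : X.Modules) (I : X.IdealSheafData) :
    ClSub.KilledByIdeal I (killed M I).obj := fun U a ha m ↦
  (killed M I).ι_app_injective U.1
    (((appLinear (killed M I).ι U.1).map_smul a m).trans
      (((killed_mem_iff M I U _).1 ((killed M I).ι_app_mem m) a ha).trans (map_zero _).symm))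

theorem killed_isQuasicoherent [IsLocallyNoetherian X] (M : X.Modules) [M.IsQuasicoherent]
    (I : X.IdealSheafData) : (killed M I).obj.IsQuasicoherent := by
  refine (killed M I).isQuasicoherent fun U hU g t ht ↦ ?_
  have : IsNoetherianRing Γ(X, U) := IsLocallyNoetherian.component_noetherian ⟨U, hU⟩
  have hD := hU.basicOpen g
  rw [killed_mem_iff M I ⟨_, hD⟩] at ht
  obtain ⟨G, hG⟩ := IsNoetherian.noetherian (I.ideal ⟨U, hU⟩)
  have key : ∀ a ∈ I.ideal ⟨U, hU⟩, ∃ n : ℕ, g ^ n • a • t = 0 := fun a ha ↦ by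
    refine (smulLift_and_smulSep_of_isAffineOpen hU M g).2 _ ?_
    erw [M.map_smul]
    exact ht _ (I.ideal_le_comap_ideal (U := ⟨_, hD⟩) (V := ⟨U, hU⟩) (X.basicOpen_le g) ha)
  choose n hn using fun a : G ↦ key a.1 (hG.le (Ideal.subset_span a.2))
  refine ⟨Finset.univ.sup n, (killed_mem_iff M I ⟨U, hU⟩ _).2 fun a ha ↦ ?_⟩
  rw [← hG] at ha
  induction ha using Submodule.span_induction with
  | mem x hx =>
    rw [smul_comm, ← Nat.sub_add_cancel (Finset.le_sup (f := n) (Finset.mem_univ ⟨x, hx⟩)),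
      pow_add, mul_smul, hn ⟨x, hx⟩, smul_zero]
  | zero => exact zero_smul _ _
  | add x y _ _ hx hy => rw [add_smul, hx, hy, add_zero]
  | smul c x _ hx => rw [smul_eq_mul, mul_smul, hx, smul_zero]

theorem killed_isCoh [IsLocallyNoetherian X] (M : X.Modules) (hM : Coh.IsCoh M)
    (I : X.IdealSheafData) : Coh.IsCoh (killed M I).obj :=
  have := hM.1
  have := killed_isQuasicoherent M I
  ⟨this, (killed M I).isFiniteType hM⟩

/-- Sections supported in a set. -/
noncomputable def supported (M : X.Modules) (T : Set X) : SubData M where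
  sec V :=
    { carrier := {s | ∀ (x : X) (hx : x ∈ V), x ∉ T → M.presheaf.germ V x hx s = 0}
      add_mem' := fun hs ht x hx hT ↦ by rw [map_add, hs x hx hT, ht x hx hT, add_zero]
      zero_mem' := fun x hx _ ↦ map_zero _
      smul_mem' := fun r s hs x hx hT ↦ by rw [WeakAss.germ_smul, hs x hx hT, smul_zero] }
  map_mem i s hs x hx hT := by rw [germ_map]; exact hs x (i.le hx) hT
  locality {U} s h x hx hT := by
    obtain ⟨V, i, hxV, hV⟩ := h x hx
    exact (germ_map M i hxV s).symm.trans (hV x hxV hT)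

theorem supported_isQuasicoherent [IsLocallyNoetherian X] (M : X.Modules) [M.IsQuasicoherent]
    {T : Set X} (hT : IsClosed T) : (supported M T).obj.IsQuasicoherent := by
  refine (supported M T).isQuasicoherent fun U hU g t ht ↦ ?_
  have : IsNoetherianRing Γ(X, U) := IsLocallyNoetherian.component_noetherian ⟨U, hU⟩
  have : NoetherianSpace (U : Set X) := noetherianSpace_of_isAffineOpen U hU
  let W : X.Opens := U ⊓ ⟨Tᶜ, hT.isOpen_compl⟩
  have hW : IsCompact (W : Set X) := by
    have h := (NoetherianSpace.isCompact {y : (U : Set X) | (y : X) ∉ T}).image continuous_subtype_val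
    convert h using 1
    ext y
    exact ⟨fun hy ↦ ⟨⟨y, hy.1⟩, hy.2, rfl⟩, fun ⟨z, hz, e⟩ ↦ e ▸ ⟨z.2, hz⟩⟩
  have key : ∀ x ∈ W, ∃ (h : Γ(X, U)) (n : ℕ), x ∈ X.basicOpen h ∧
      ∀ (y : X) (hy : y ∈ X.basicOpen h),
        M.presheaf.germ U y (X.basicOpen_le h hy) (g ^ n • t) = 0 := by
    intro x hx
    obtain ⟨h, hh, hxh⟩ := hU.exists_basicOpen_le ⟨x, hx⟩ hx.1
    let r := homOfLE (X.basicOpen_le h)
    obtain ⟨n, hn⟩ := (smulLift_and_smulSep_of_isAffineOpen (hU.basicOpen h) M
      (X.presheaf.map r.op g)).2 (M.presheaf.map r.op t) (by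
        refine section_eq_zero_of_germ M _ fun y hy ↦ ?_
        rw [germ_map, germ_map]
        have hy' : y ∈ X.basicOpen h ⊓ X.basicOpen g := X.basicOpen_res g r.op ▸ hy
        rw [← germ_map M (homOfLE (X.basicOpen_le g)) hy'.2]
        exact ht y hy'.2 (hh hy'.1).2)
    refine ⟨h, n, hxh, fun y hy ↦ ?_⟩
    rw [← germ_map M r hy]
    erw [M.map_smul]
    rw [map_pow]
    erw [hn]
    exact map_zero _
  choose! h n hxh hn using key
  obtain ⟨F, hF⟩ := hW.elim_finite_subcover (fun x : W ↦ (X.basicOpen (h x) : Set X))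
    (fun x ↦ (X.basicOpen (h x)).isOpen) fun x hx ↦ Set.mem_iUnion.2 ⟨⟨x, hx⟩, hxh x hx⟩
  refine ⟨F.sup fun x ↦ n x, fun y hy hyT ↦ ?_⟩
  obtain ⟨x, hxF, hyx⟩ := Set.mem_iUnion₂.1 (hF (show y ∈ W from ⟨hy, hyT⟩))
  rw [← Nat.sub_add_cancel (Finset.le_sup (f := fun x : W ↦ n x) hxF), pow_add, mul_smul,
    WeakAss.germ_smul]
  erw [hn x x.2 y hyx]
  exact smul_zero _

theorem supported_isCoh [IsLocallyNoetherian X] (M : X.Modules) (hM : Coh.IsCoh M)
    {T : Set X} (hT : IsClosed T) : Coh.IsCoh (supported M T).obj :=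
  have := hM.1
  have := supported_isQuasicoherent M hT
  ⟨this, (supported M T).isFiniteType hM⟩

theorem mem_vanishingIdeal_iff (T : Closeds X) (U : X.affineOpens) (a : Γ(X, U.1)) :
    a ∈ (Scheme.IdealSheafData.vanishingIdeal T).ideal U ↔
      ∀ x ∈ U.1, x ∈ T → x ∉ X.basicOpen a := by
  rw [Scheme.IdealSheafData.vanishingIdeal_ideal, PrimeSpectrum.mem_vanishingIdeal]
  refine ⟨fun h x hx hT hxa ↦ ?_, fun h p hp ↦ ?_⟩
  · obtain ⟨p, rfl⟩ : x ∈ Set.range U.2.fromSpec := U.2.range_fromSpec.symm ▸ hx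
    have hp : p ∈ U.2.fromSpec ⁻¹ᵁ X.basicOpen a := hxa
    rw [U.2.fromSpec_preimage_basicOpen] at hp
    exact hp (h p hT)
  · by_contra ha
    have hmem : p ∈ PrimeSpectrum.basicOpen a := ha
    rw [← U.2.fromSpec_preimage_basicOpen] at hmem
    exact h _ (U.2.range_fromSpec.le ⟨p, rfl⟩) hp hmem

end GrothLib.QCoh
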