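import Groth.Agent.Lib.QCoh.DevissageSummands
import Groth.Agent.Lib.WeakAss.Basic
import Mathlib.RingTheory.Ideal.AssociatedPrime.Localization
import Mathlib.RingTheory.Ideal.AssociatedPrime.Finiteness
import Mathlib.RingTheory.Filtration

/-!
# Submodules avoiding the sections supported in a closed set

For a coherent module `M` and a set `T`, a coherent submodule which is all of `M` away from `T`
and has no nonzero section supported in `T`.
-/

universe u

open CategoryTheory CategoryTheory.Limits Opposite AlgebraicGeometry TopologicalSpace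

namespace GrothLib.QCoh

variable {X : Scheme.{u}}

/-- Krull: a high power of the maximal ideal meets the finite-length part trivially. -/
theorem exists_pow_smul_inf_torsion_eq_bot {R N : Type*} [CommRing R] [IsNoetherianRing R]
    [AddCommGroup N] [Module R N] [Module.Finite R N] (m : Ideal R) :
    ∃ n : ℕ, ∀ v : N, v ∈ m ^ n • (⊤ : Submodule R N) → (∃ k : ℕ, ∀ r ∈ m ^ k, r • v = 0) → v = 0 := by
  let H : Submodule R N :=
    { carrier := {v | ∃ k : ℕ, ∀ r ∈ m ^ k, r • v = 0}
      add_mem' := fun ⟨k, hk⟩ ⟨l, hl⟩ ↦ ⟨max k l, fun r hr ↦ by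
        rw [smul_add, hk r (Ideal.pow_le_pow_right (le_max_left k l) hr),
          hl r (Ideal.pow_le_pow_right (le_max_right k l) hr), add_zero]⟩
      zero_mem' := ⟨0, fun r _ ↦ smul_zero r⟩
      smul_mem' := fun c v ⟨k, hk⟩ ↦ ⟨k, fun r hr ↦ by rw [smul_comm, hk r hr, smul_zero]⟩ }
  obtain ⟨s, hs⟩ := (IsNoetherian.noetherian H)
  choose! k hk using fun v (hv : v ∈ s) ↦ (show v ∈ H from hs ▸ Submodule.subset_span hv)
  have hH : m ^ s.sup k • H = ⊥ := le_bot_iff.1 (Submodule.smul_le.2 fun r hr v hv ↦ by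
    rw [← hs] at hv
    simp only [Submodule.mem_bot]
    induction hv using Submodule.span_induction with
    | mem y hy => exact hk y hy r (Ideal.pow_le_pow_right (Finset.le_sup (f := k) hy) hr)
    | zero => exact smul_zero r
    | add a b _ _ ha hb => rw [smul_add, ha, hb, add_zero]
    | smul c a _ ha => rw [smul_comm, ha, smul_zero])
  obtain ⟨c, hc⟩ := Ideal.exists_pow_inf_eq_pow_smul m H
  refine ⟨s.sup k + c, fun v hv hvk ↦ ?_⟩
  have h1 : v ∈ m ^ (s.sup k + c) • (⊤ : Submodule R N) ⊓ H := ⟨hv, hvk⟩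
  rw [hc _ (Nat.le_add_left c _), Nat.add_sub_cancel] at h1
  have h2 : v ∈ m ^ s.sup k • H :=
    Submodule.smul_mono le_rfl inf_le_right h1
  rwa [hH, Submodule.mem_bot] at h2

section

variable [IsLocallyNoetherian X]

/-- An affine open meets only finitely many weakly associated points of a coherent module. -/
theorem finite_weakAssPoints (M : X.Modules) (hM : Coh.IsCoh M) {U : X.Opens}
    (hU : IsAffineOpen U) : {x | x ∈ U ∧ Curv2.IsWeakAssPoint M x}.Finite := by
  have := hM.1
  have := moduleFinite_of_isFiniteType M hM.2 hU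
  have : IsNoetherianRing Γ(X, U) := IsLocallyNoetherian.component_noetherian ⟨U, hU⟩
  refine Set.Finite.subset (((associatedPrimes.finite Γ(X, U) Γ(M, U)).preimage
    (f := PrimeSpectrum.asIdeal) fun q _ q' _ h ↦ PrimeSpectrum.ext h).image hU.fromSpec) ?_
  rintro x ⟨hx, hw⟩
  have hq := hU.fromSpec_primeIdealOf ⟨x, hx⟩
  obtain ⟨z, hz⟩ := WeakAss.exists_minimal_of_isWeakAssPoint hU hx hw
  refine ⟨hU.primeIdealOf ⟨x, hx⟩, ?_, hq⟩
  have he : (hU.primeIdealOf ⟨x, hx⟩).asIdeal = WeakAss.primeAt x hx := by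
    rw [← WeakAss.primeAt_fromSpec hU (hU.primeIdealOf ⟨x, hx⟩) (by rw [hq]; exact hx)]
    congr 1
  let S := Submodule.span Γ(X, U) {z}
  have hann : WeakAss.annSec z = Module.annihilator Γ(X, U) S := by
    ext r
    rw [WeakAss.mem_annSec]
    exact (Submodule.mem_annihilator_span_singleton z r).symm
  rw [hann] at hz
  change (hU.primeIdealOf ⟨x, hx⟩).asIdeal ∈ associatedPrimes Γ(X, U) Γ(M, U)
  rw [he]
  exact associatedPrimes.subset_of_injective S.subtype_injective
    (Module.associatedPrimes.minimalPrimes_annihilator_subset_associatedPrimes Γ(X, U) S hz)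

omit [IsLocallyNoetherian X] in
theorem stalk_finite (M : X.Modules) (hM : Coh.IsCoh M) (x : X) :
    Module.Finite (X.presheaf.stalk x) (M.presheaf.stalk x) :=
  have := hM.1
  let ⟨s, hs⟩ := exists_finset_span_stalk M hM.2 x
  ⟨⟨s, hs⟩⟩

variable (M : X.Modules) (hM : Coh.IsCoh M) (T : Set X)

include hM in
theorem exists_avoidExp (x : X) : ∃ n : ℕ, ∀ v : M.presheaf.stalk x,
    v ∈ IsLocalRing.maximalIdeal (X.presheaf.stalk x) ^ n • (⊤ : Submodule (X.presheaf.stalk x) (M.presheaf.stalk x)) →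
    (∃ k : ℕ, ∀ r ∈ IsLocalRing.maximalIdeal (X.presheaf.stalk x) ^ k, r • v = 0) → v = 0 :=
  have := stalk_finite M hM x
  exists_pow_smul_inf_torsion_eq_bot _

/-- Sections lying deep enough at every weakly associated point in `T`. -/
noncomputable def avoid : SubData M where
  sec V :=
    { carrier := {s | ∀ (x : X) (hx : x ∈ V), x ∈ T → Curv2.IsWeakAssPoint M x →
        M.presheaf.germ V x hx s ∈ IsLocalRing.maximalIdeal (X.presheaf.stalk x) ^
          (exists_avoidExp M hM x).choose • (⊤ : Submodule (X.presheaf.stalk x) (M.presheaf.stalk x))}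
      add_mem' := fun hs ht x hx h h' ↦ by rw [map_add]; exact add_mem (hs x hx h h') (ht x hx h h')
      zero_mem' := fun x hx _ _ ↦ by rw [map_zero]; exact zero_mem _
      smul_mem' := fun r s hs x hx h h' ↦ by
        rw [WeakAss.germ_smul]; exact Submodule.smul_mem _ _ (hs x hx h h') }
  map_mem i s hs x hx h h' := by rw [germ_map]; exact hs x (i.le hx) h h'
  locality {U} s hloc x hx h h' := by
    obtain ⟨V, i, hxV, hV⟩ := hloc x hx
    rw [← germ_map M i hxV s]
    exact hV x hxV h h'

theorem avoid_isQuasicoherent : (avoid M hM T).obj.IsQuasicoherent := by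
  have := hM.1
  refine (avoid M hM T).isQuasicoherent fun U hU g t ht ↦ ?_
  refine ⟨(finite_weakAssPoints M hM hU).toFinset.sup fun x ↦ (exists_avoidExp M hM x).choose,
    fun x hx h h' ↦ ?_⟩
  rw [WeakAss.germ_smul, map_pow]
  by_cases hg : x ∈ X.basicOpen g
  · refine Submodule.smul_mem _ _ ?_
    have := ht x hg h h'
    rwa [germ_map] at this
  · refine Submodule.smul_mem_smul (Ideal.pow_le_pow_right (Finset.le_sup
      (f := fun x ↦ (exists_avoidExp M hM x).choose)
      ((finite_weakAssPoints M hM hU).mem_toFinset.2 ⟨hx, h'⟩)) ?_) Submodule.mem_top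
    exact Ideal.pow_mem_pow ((IsLocalRing.mem_maximalIdeal _).2
      fun hu ↦ hg ((Scheme.mem_basicOpen _ g x hx).2 hu)) _

theorem avoid_isCoh : Coh.IsCoh (avoid M hM T).obj :=
  have := avoid_isQuasicoherent M hM T
  ⟨this, (avoid M hM T).isFiniteType hM⟩

/-- The submodule is everything away from `T`. -/
theorem mem_avoid_of_disjoint {V : X.Opens} (hV : Disjoint (V : Set X) T) (s : Γ(M, V)) :
    s ∈ (avoid M hM T).sec V :=
  fun _ hx h _ ↦ (Set.disjoint_left.1 hV hx h).elim

/-- It has no nonzero section supported in `T`. -/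
theorem eq_zero_of_mem_avoid {V : X.Opens} {s : Γ(M, V)} (hs : s ∈ (avoid M hM T).sec V)
    (hT : ∀ (x : X) (hx : x ∈ V), x ∉ T → M.presheaf.germ V x hx s = 0) : s = 0 := by
  have := hM.1
  refine TopCat.Presheaf.section_ext ⟨M.presheaf, M.isSheaf⟩ V s 0 fun y hy ↦ ?_
  obtain ⟨W, hW, hyW, hWV⟩ := Opens.isBasis_iff_nbhd.1 X.isBasis_affineOpens hy
  have h0 : M.presheaf.map (homOfLE hWV).op s = 0 := by
    by_contra hne
    obtain ⟨p, hp⟩ := Ideal.nonempty_minimalPrimes (I := WeakAss.annSec (M.presheaf.map (homOfLE hWV).op s))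
      fun h ↦ hne (by
        have := WeakAss.mem_annSec.1 (h ▸ Submodule.mem_top :
          (1 : Γ(X, W)) ∈ WeakAss.annSec (M.presheaf.map (homOfLE hWV).op s))
        rwa [one_smul] at this)
    let x := hW.fromSpec ⟨p, hp.1.1⟩
    have hx : x ∈ W := WeakAss.fromSpec_mem hW _
    have hmin : WeakAss.primeAt x hx ∈ (WeakAss.annSec (M.presheaf.map (homOfLE hWV).op s)).minimalPrimes := by
      exact (WeakAss.primeAt_fromSpec hW ⟨p, hp.1.1⟩ hx).symm ▸ hp
    have hg : M.presheaf.germ V x (hWV hx) s ≠ 0 := fun h ↦ by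
      rw [← germ_map M (homOfLE hWV) hx] at h
      obtain ⟨c, hc, hcz⟩ := (WeakAss.germ_eq_zero_iff hW hx _).1 h
      exact hc (hmin.1.2 (WeakAss.mem_annSec.2 hcz))
    have hxT : x ∈ T := by_contra fun h ↦ hg (hT x _ h)
    refine hg ((exists_avoidExp M hM x).choose_spec _
      (hs x _ hxT (WeakAss.isWeakAssPoint_of_minimal hW _ hmin)) ?_)
    obtain ⟨k, hk⟩ := Ideal.exists_radical_pow_le_of_fg _
      (IsNoetherian.noetherian (Ideal.radical (LinearMap.ker (LinearMap.toSpanSingleton
        (X.presheaf.stalk x) (M.presheaf.stalk x) (M.presheaf.germ W x hx (M.presheaf.map (homOfLE hWV).op s))))))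
    rw [(WeakAss.radical_eq_iff_minimal hW hx _).2 hmin] at hk
    refine ⟨k, fun r hr ↦ ?_⟩
    have := hk hr
    rw [LinearMap.mem_ker, LinearMap.toSpanSingleton_apply, germ_map] at this
    exact this
  change M.presheaf.germ V y hy s = M.presheaf.germ V y hy 0
  erw [map_zero]
  rw [← germ_map M (homOfLE hWV) hyW, h0, map_zero]

end

end GrothLib.QCoh
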