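import Groth.Agent.Lib.QCoh.LocGen
import Groth.Agent.Lib.QCoh.Extension

/-!
# Submodules of finite type on an open, as locally generated submodules
-/

universe u

open CategoryTheory CategoryTheory.Limits Opposite AlgebraicGeometry TopologicalSpace
open GrothLib.Cohom (map_map_apply map_self_apply ringMap_map_apply)

namespace GrothLib.QCoh

variable {X : Scheme.{u}} {F : X.Modules} {U : X.Opens} {G : (U : Scheme.{u}).Modules}
  (i : G ⟶ F.restrict U.ι)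

/-- The image of a section of `G` as a section of `F`. -/
noncomputable def emb (Z : (U : Scheme.{u}).Opens) : Γ(G, Z) →+ Γ(F, U.ι ''ᵁ Z) :=
  AddMonoidHom.comp ((F.restrictAppIso U.ι Z).hom).hom (i.app Z).hom

theorem emb_map {Z Z' : (U : Scheme.{u}).Opens} (h : Z' ≤ Z) (a : Γ(G, Z)) :
    emb i Z' (rr h a) = rr (U.ι.image_mono h) (emb i Z a) := by
  change (F.restrictAppIso U.ι Z').hom (i.app Z' (G.presheaf.map (homOfLE h).op a)) = _
  rw [← map_app i (homOfLE h) a]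
  rfl

theorem emb_smul (Z : (U : Scheme.{u}).Opens) (r : Γ(U, Z)) (a : Γ(G, Z)) :
    emb i Z (r • a) = (U.ι.appIso Z).inv r • emb i Z a := by
  change (F.restrictAppIso U.ι Z).hom (i.app Z (r • a)) = _
  rw [Scheme.Modules.Hom.app_smul, Scheme.Modules.smul_restrictAppIso_hom_apply]
  rfl

theorem emb_injective [Mono i] (Z : (U : Scheme.{u}).Opens) : Function.Injective (emb i Z) := by
  intro a b h
  have hS : (ShortComplex.mk i (cokernel.π i) (cokernel.condition i)).ShortExact :=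
    { exact := ShortComplex.exact_cokernel i }
  apply app_injective hS Z
  exact ((ConcreteCategory.isIso_iff_bijective (F.restrictAppIso U.ι Z).hom).1 inferInstance).1 h

theorem emb_mem_span (Z : (U : Scheme.{u}).Opens) {S : Set Γ(G, Z)} {a : Γ(G, Z)}
    (h : a ∈ Submodule.span Γ(U, Z) S) :
    emb i Z a ∈ Submodule.span Γ(X, U.ι ''ᵁ Z) (emb i Z '' S) := by
  induction h using Submodule.span_induction with
  | mem x hx => exact Submodule.subset_span ⟨x, hx, rfl⟩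
  | zero => rw [map_zero]; exact zero_mem _
  | add x y _ _ hx hy => rw [map_add]; exact add_mem hx hy
  | smul r x _ hx => rw [emb_smul]; exact Submodule.smul_mem _ _ hx

/-- The sections locally in `G`, with no condition outside `U`. -/
noncomputable def ofOpen : SubData F where
  sec T :=
    { carrier := {s | ∀ x : (U : Scheme.{u}), (U.ι x) ∈ T →
        ∃ (Z : (U : Scheme.{u}).Opens) (h : U.ι ''ᵁ Z ≤ T), x ∈ Z ∧ ∃ a, emb i Z a = rr h s}
      add_mem' := fun {s t} hs ht x hx ↦ by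
        obtain ⟨Z, h, hxZ, a, ha⟩ := hs x hx
        obtain ⟨Z', h', hxZ', b, hb⟩ := ht x hx
        refine ⟨Z ⊓ Z', (U.ι.image_mono inf_le_left).trans h, ⟨hxZ, hxZ'⟩,
          rr inf_le_left a + rr inf_le_right b, ?_⟩
        rw [map_add, map_add, emb_map, emb_map, ha, hb, rr_rr, rr_rr]
      zero_mem' := fun x hx ↦ ⟨U.ι ⁻¹ᵁ T, U.ι.image_preimage_le T, hx, 0, by
        rw [map_zero, map_zero]⟩
      smul_mem' := fun r s hs x hx ↦ by
        obtain ⟨Z, h, hxZ, a, ha⟩ := hs x hx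
        refine ⟨Z, h, hxZ, (U.ι.appIso Z).hom (X.presheaf.map (homOfLE h).op r) • a, ?_⟩
        rw [emb_smul, rr_smul, ha, Iso.hom_inv_id_apply] }
  map_mem {T T'} k s hs x hx := by
    obtain ⟨Z, h, hxZ, a, ha⟩ := hs x (k.le hx)
    refine ⟨Z ⊓ U.ι ⁻¹ᵁ T', (U.ι.image_mono inf_le_right).trans (U.ι.image_preimage_le T'),
      ⟨hxZ, hx⟩, rr inf_le_left a, ?_⟩
    change _ = rr _ (rr k.le s)
    rw [emb_map, ha, rr_rr, rr_rr]
  locality {T} s hs x hx := by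
    obtain ⟨T', k, hxT', hT'⟩ := hs _ hx
    obtain ⟨Z, h, hxZ, a, ha⟩ := hT' x hxT'
    refine ⟨Z, h.trans k.le, hxZ, a, ha.trans ?_⟩
    change rr h (rr k.le s) = _
    rw [rr_rr]

theorem emb_mem_ofOpen (Z : (U : Scheme.{u}).Opens) (a : Γ(G, Z)) :
    emb i Z a ∈ (ofOpen i).sec (U.ι ''ᵁ Z) := fun _ hx ↦
  ⟨Z, le_rfl, U.mem_ι_image_iff.1 hx, a, (rr_self _ _).symm⟩

theorem exists_emb_eq [Mono i] (Z : (U : Scheme.{u}).Opens) (s : Γ(F, U.ι ''ᵁ Z))
    (hs : s ∈ (ofOpen i).sec (U.ι ''ᵁ Z)) : ∃ a, emb i Z a = s := by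
  choose W hW hxW a ha using fun x : Z ↦ hs x.1 (U.mem_ι_image_iff.2 x.2)
  have hWZ : ∀ x, W x ≤ Z := fun x y hy ↦ U.mem_ι_image_iff.1 (hW x (U.mem_ι_image_iff.2 hy))
  obtain ⟨b, hb, -⟩ := TopCat.Sheaf.existsUnique_gluing' ⟨G.presheaf, G.isSheaf⟩ W Z
    (fun x ↦ homOfLE (hWZ x)) (fun y hy ↦ Opens.mem_iSup.2 ⟨⟨y, hy⟩, hxW _⟩) a (fun x y ↦ by
      apply emb_injective i
      change emb i _ (rr inf_le_left (a x)) = emb i _ (rr inf_le_right (a y))
      rw [emb_map, emb_map, ha, ha, rr_rr, rr_rr])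
  refine ⟨b, TopCat.Sheaf.eq_of_locally_eq' ⟨F.presheaf, F.isSheaf⟩ (fun x ↦ U.ι ''ᵁ W x)
    (U.ι ''ᵁ Z) (fun x ↦ homOfLE (hW x)) (fun y hy ↦ ?_) _ _ fun x ↦ ?_⟩
  · obtain ⟨y', hy', rfl⟩ := hy
    exact Opens.mem_iSup.2 ⟨⟨y', hy'⟩, U.mem_ι_image_iff.2 (hxW _)⟩
  · change rr (hW x) (emb i Z b) = rr (hW x) s
    rw [← ha x, ← show rr (hWZ x) b = a x from hb x, emb_map]

theorem locGen_ofOpen [G.IsQuasicoherent]
    (hG : SheafOfModules.IsFiniteType.{u, u, u} (R := (U : Scheme.{u}).ringCatSheaf) G) :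
    SubData.LocGen (ofOpen i) U := by
  intro x hx
  obtain ⟨_, ⟨Z, hZ, rfl⟩, hxZ, -⟩ :=
    (U : Scheme.{u}).isBasis_affineOpens.exists_subset_of_mem_open (Set.mem_univ ⟨x, hx⟩) isOpen_univ
  have hZ : IsAffineOpen Z := hZ
  obtain ⟨S, hS⟩ := (moduleFinite_of_isFiniteType G hG hZ).fg_top
  refine ⟨U.ι ''ᵁ Z, hZ.image_of_isOpenImmersion U.ι, U.mem_ι_image_iff.2 hxZ, U.ι_image_le Z,
    emb i Z '' (S : Set Γ(G, Z)), S.finite_toSet.image _, fun T hT ↦ ?_⟩
  ext s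
  constructor
  · intro hs y hy _
    obtain ⟨y', hy', rfl⟩ := hT hy
    obtain ⟨Z₁, h₁, hyZ₁, a, ha⟩ := hs y' hy
    obtain ⟨g, hg, hyg⟩ := exists_basicOpen_mem hZ hy' hyZ₁
    obtain ⟨n, b, hb⟩ := (smulLift_and_smulSep_of_isAffineOpen hZ G g).1 (rr hg a)
    change rr ((U : Scheme.{u}).basicOpen_le g) b = _ at hb
    refine ⟨U.ι ''ᵁ (U : Scheme.{u}).basicOpen g, (U.ι.image_mono hg).trans h₁,
      U.ι.image_mono ((U : Scheme.{u}).basicOpen_le g), U.mem_ι_image_iff.2 hyg, ?_⟩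
    rw [← rr_rr h₁ (U.ι.image_mono hg), ← ha, ← emb_map i hg]
    have hu : IsUnit ((U.ι.appIso _).inv
        (((U : Scheme.{u}).presheaf.map (homOfLE ((U : Scheme.{u}).basicOpen_le g)).op g) ^ n)) :=
      ((RingedSpace.isUnit_res_basicOpen (U : Scheme.{u}).toRingedSpace g).pow n).map _
    rw [← Submodule.smul_mem_iff_of_isUnit _ hu, ← emb_smul, ← hb]
    have h2 := emb_mem_span i _ (rr_mem_span ((U : Scheme.{u}).basicOpen_le g)
      (show b ∈ Submodule.span Γ(U, Z) (S : Set Γ(G, Z)) by rw [hS]; trivial))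
    rw [Set.image_image] at h2 ⊢
    simp only [emb_map] at h2 ⊢
    exact h2
  · intro hs
    refine (ofOpen i).locality s fun y hy ↦ ?_
    obtain ⟨T', h₁, h₂, hy', hm⟩ := hs y hy (hT hy)
    refine ⟨T', homOfLE h₁, hy', ?_⟩
    change rr h₁ s ∈ _
    refine Submodule.span_le.2 ?_ hm
    rintro _ ⟨_, ⟨a, _, rfl⟩, rfl⟩
    exact (ofOpen i).map_mem (homOfLE h₂) (emb_mem_ofOpen i Z a)

/-- A submodule agreeing with `G` on `U` restricts to `G`. -/
theorem exists_restrict_iso [Mono i] (Q : SubData F)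
    (hQ : ∀ T ≤ U, Q.sec T = (ofOpen i).sec T) :
    ∃ e : Q.obj.restrict U.ι ≅ G, e.hom ≫ i = (Scheme.Modules.restrictFunctor U.ι).map Q.ι := by
  let ψ : G ⟶ Q.obj.restrict U.ι :=
    ⟨PresheafOfModules.homMk
      { app := fun Z ↦ AddCommGrpCat.ofHom (AddMonoidHom.mk'
          (fun a ↦ (Q.lift (emb i Z.unop a) (by
            rw [hQ _ (U.ι_image_le _)]; exact emb_mem_ofOpen i Z.unop a) :
              Γ(Q.obj, U.ι ''ᵁ Z.unop))) fun a b ↦ Subtype.ext (map_add _ a b))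
        naturality := fun Z Z' k ↦ AddCommGrpCat.ext fun a ↦ Subtype.ext
          (emb_map i k.unop.le a) }
      (fun Z r a ↦ Subtype.ext (emb_smul i Z.unop r a))⟩
  have hψ : IsIso ψ := by
    refine Scheme.Modules.Hom.isIso_iff_isIso_app.2 fun Z ↦
      (ConcreteCategory.isIso_iff_bijective _).2 ⟨fun a b h ↦ emb_injective i Z (congrArg Subtype.val h),
        fun q ↦ ?_⟩
    obtain ⟨s, hs⟩ := (show Q.sec (U.ι ''ᵁ Z) from q)
    obtain ⟨a, ha⟩ := exists_emb_eq i Z s (hQ _ (U.ι_image_le _) ▸ hs)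
    exact ⟨a, Subtype.ext ha⟩
  refine ⟨(asIso ψ).symm, ?_⟩
  rw [Iso.symm_hom, asIso_inv, IsIso.inv_comp_eq]
  ext Z a
  rfl

/-- Extension of submodules of finite type along a well-ordered affine cover. -/
theorem exists_finiteType_extension [F.IsQuasicoherent] [Mono i] [G.IsQuasicoherent]
    (hG : SheafOfModules.IsFiniteType.{u, u, u} (R := (U : Scheme.{u}).ringCatSheaf) G)
    {L : Type*} [LinearOrder L] [WellFoundedLT L] (V : L → X.Opens)
    (hV : ∀ l, IsAffineOpen (V l)) (hcov : U ⊔ ⨆ l, V l = ⊤)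
    (hc : ∀ l, IsCompact ((V l ⊓ (U ⊔ ⨆ m : Set.Iio l, V m.1) : X.Opens) : Set X)) :
    ∃ (G' : X.Modules) (i' : G' ⟶ F) (e : G'.restrict U.ι ≅ G), Mono i' ∧ Coh.IsQCoh G' ∧
      CohB1.IsFT G' ∧ e.hom ≫ i = (Scheme.Modules.restrictFunctor U.ι).map i' := by
  obtain ⟨Q, hQ, hQU⟩ := (locGen_ofOpen i hG).exists_extension V hV U hcov hc
  obtain ⟨e, he⟩ := exists_restrict_iso i Q hQU
  have : Mono Q.ι :=
    (Scheme.Modules.toPresheaf X).mono_of_mono_map
      (@NatTrans.mono_of_mono_app _ _ _ _ _ _ _ fun T ↦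
        (AddCommGrpCat.mono_iff_injective _).2 (Q.ι_app_injective T.unop))
  exact ⟨Q.obj, Q.ι, e, this, hQ.isQuasicoherent, hQ.isFiniteType, he⟩

end GrothLib.QCoh
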