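import Groth.Agent.Lib.QCoh.Sub

/-!
# Locally finitely generated submodules of a quasi-coherent module and their extension
-/

universe u

open CategoryTheory CategoryTheory.Limits Opposite AlgebraicGeometry TopologicalSpace
open GrothLib.Cohom (map_map_apply map_self_apply ringMap_map_apply)

namespace GrothLib.QCoh

variable {X : Scheme.{u}} {F : X.Modules}

/-- Restriction of sections. -/
noncomputable def rr {U V : X.Opens} (h : V ≤ U) : Γ(F, U) →+ Γ(F, V) :=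
  (F.presheaf.map (homOfLE h).op).hom

theorem rr_rr {U V W : X.Opens} (h : V ≤ U) (h' : W ≤ V) (s : Γ(F, U)) :
    rr h' (rr h s) = rr (h'.trans h) s :=
  map_map_apply F (homOfLE h) (homOfLE h') s

theorem rr_self {U : X.Opens} (h : U ≤ U) (s : Γ(F, U)) : rr h s = s :=
  map_self_apply F (homOfLE h) s

theorem rr_smul {U V : X.Opens} (h : V ≤ U) (r : Γ(X, U)) (s : Γ(F, U)) :
    rr h (r • s) = X.presheaf.map (homOfLE h).op r • rr h s :=
  Scheme.Modules.map_smul F (homOfLE h) r s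

theorem rr_mem_span {U V : X.Opens} (h : V ≤ U) {S : Set Γ(F, U)} {s : Γ(F, U)}
    (hs : s ∈ Submodule.span Γ(X, U) S) : rr h s ∈ Submodule.span Γ(X, V) (rr h '' S) := by
  induction hs using Submodule.span_induction with
  | mem x hx => exact Submodule.subset_span ⟨x, hx, rfl⟩
  | zero => rw [map_zero]; exact zero_mem _
  | add x y _ _ hx hy => rw [map_add]; exact add_mem hx hy
  | smul a x _ hx => rw [rr_smul]; exact Submodule.smul_mem _ _ hx

theorem image_rr_rr {U V W : X.Opens} (h : V ≤ U) (h' : W ≤ V) (S : Set Γ(F, U)) :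
    rr h' '' (rr h '' S) = rr (h'.trans h) '' S := by
  rw [Set.image_image]; simp only [rr_rr]

theorem rr_mem_span' {U V W : X.Opens} (hU : V ≤ U) (h : W ≤ V) {S : Set Γ(F, U)} {s : Γ(F, V)}
    (hs : s ∈ Submodule.span Γ(X, V) (rr hU '' S)) :
    rr h s ∈ Submodule.span Γ(X, W) (rr (h.trans hU) '' S) := by
  have := rr_mem_span h hs
  rwa [image_rr_rr] at this

/-- A section in the span after restriction to `X_g` is in the span up to a power of `g`. -/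
theorem exists_pow_smul_mem_span [F.IsQuasicoherent] {U : X.Opens} (hU : IsAffineOpen U)
    (g : Γ(X, U)) (S : Set Γ(F, U)) (t : Γ(F, U))
    (ht : rr (X.basicOpen_le g) t ∈
      Submodule.span Γ(X, X.basicOpen g) (rr (X.basicOpen_le g) '' S)) :
    ∃ m : ℕ, g ^ m • t ∈ Submodule.span Γ(X, U) S := by
  let ρ := X.presheaf.map (homOfLE (X.basicOpen_le g)).op
  suffices hb : ∀ b ∈ Submodule.span Γ(X, X.basicOpen g) (rr (X.basicOpen_le g) '' S),
      ∃ k, ∃ u ∈ Submodule.span Γ(X, U) S, rr (X.basicOpen_le g) u = ρ g ^ k • b by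
    obtain ⟨k, u, hu, hk⟩ := hb _ ht
    obtain ⟨m, hm⟩ := (smulLift_and_smulSep_of_isAffineOpen hU F g).2 (g ^ k • t - u) (by
      change rr (X.basicOpen_le g) _ = 0
      rw [map_sub, rr_smul, map_pow, sub_eq_zero]
      exact hk.symm)
    refine ⟨m + k, ?_⟩
    rw [smul_sub, sub_eq_zero, ← mul_smul, ← pow_add] at hm
    rw [hm]
    exact Submodule.smul_mem _ _ hu
  intro b hb
  induction hb using Submodule.span_induction with
  | mem y hy =>
    obtain ⟨x, hx, rfl⟩ := hy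
    exact ⟨0, x, Submodule.subset_span hx, by rw [pow_zero, one_smul]⟩
  | zero => exact ⟨0, 0, zero_mem _, by rw [map_zero, smul_zero]⟩
  | add y z _ _ hy hz =>
    obtain ⟨k, u, hu, hk⟩ := hy
    obtain ⟨l, v, hv, hl⟩ := hz
    refine ⟨k + l, g ^ l • u + g ^ k • v,
      add_mem (Submodule.smul_mem _ _ hu) (Submodule.smul_mem _ _ hv), ?_⟩
    rw [map_add, rr_smul, rr_smul, hk, hl, map_pow, map_pow, smul_add, ← mul_smul, ← mul_smul,
      pow_add, mul_comm]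
  | smul c y _ hy =>
    obtain ⟨k, u, hu, hk⟩ := hy
    obtain ⟨l, a', ha'⟩ := exists_eq_pow_mul_of_isAffineOpen X U hU g c
    replace ha' : ρ a' = ρ g ^ l * c := ha'
    refine ⟨l + k, a' • u, Submodule.smul_mem _ _ hu, ?_⟩
    rw [rr_smul, hk, ha', ← mul_smul, ← mul_smul, pow_add]
    congr 1
    ring

theorem exists_basicOpen_mem {U T : X.Opens} (hU : IsAffineOpen U) {x : X} (hxU : x ∈ U)
    (hxT : x ∈ T) : ∃ g : Γ(X, U), X.basicOpen g ≤ T ∧ x ∈ X.basicOpen g :=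
  hU.exists_basicOpen_le ⟨x, hxT⟩ hxU

namespace SubData

/-- The condition `P` on `W`, no condition elsewhere. -/
noncomputable def restrictTo (P : SubData F) (W : X.Opens) : SubData F where
  sec T :=
    { carrier := {s | rr (inf_le_left : T ⊓ W ≤ T) s ∈ P.sec (T ⊓ W)}
      add_mem' := fun {a b} ha hb ↦ by
        simp only [Set.mem_ofPred_eq, map_add]; exact add_mem ha hb
      zero_mem' := by simp only [Set.mem_ofPred_eq, map_zero]; exact zero_mem _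
      smul_mem' := fun r s hs ↦ by
        simp only [Set.mem_ofPred_eq, rr_smul]; exact Submodule.smul_mem _ _ hs }
  map_mem {U V} i s hs := by
    have h := P.map_mem (homOfLE (inf_le_inf_right W i.le)) hs
    change rr inf_le_left (rr i.le s) ∈ P.sec (V ⊓ W)
    change rr (inf_le_inf_right W i.le) (rr inf_le_left s) ∈ P.sec (V ⊓ W) at h
    rwa [rr_rr] at h ⊢
  locality {U} s h := P.locality _ fun x hx ↦ by
    obtain ⟨V, i, hxV, hV⟩ := h x hx.1
    refine ⟨V ⊓ W, homOfLE (inf_le_inf_right W i.le), ⟨hxV, hx.2⟩, ?_⟩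
    change rr (inf_le_inf_right W i.le) (rr inf_le_left s) ∈ P.sec (V ⊓ W)
    change rr inf_le_left (rr i.le s) ∈ P.sec (V ⊓ W) at hV
    rwa [rr_rr] at hV ⊢

theorem mem_restrictTo (P : SubData F) (W : X.Opens) {T : X.Opens} (s : Γ(F, T)) :
    s ∈ (P.restrictTo W).sec T ↔ rr (inf_le_left : T ⊓ W ≤ T) s ∈ P.sec (T ⊓ W) := Iff.rfl

theorem mem_restrictTo_of_le (P : SubData F) {W T : X.Opens} (h : T ≤ W) (s : Γ(F, T)) :
    s ∈ (P.restrictTo W).sec T ↔ s ∈ P.sec T := by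
  rw [mem_restrictTo]
  refine ⟨fun hs ↦ ?_, fun hs ↦ P.map_mem _ hs⟩
  have := P.map_mem (homOfLE (le_inf le_rfl h)) hs
  change rr (le_inf le_rfl h) (rr inf_le_left s) ∈ _ at this
  rwa [rr_rr, rr_self] at this

/-- Intersection of a family of submodules. -/
noncomputable def inter {κ : Sort*} (P : κ → SubData F) : SubData F where
  sec T := ⨅ i, (P i).sec T
  map_mem i s hs := (Submodule.mem_iInf _).2 fun j ↦ (P j).map_mem i ((Submodule.mem_iInf _).1 hs j)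
  locality s h := (Submodule.mem_iInf _).2 fun j ↦ (P j).locality s fun x hx ↦
    let ⟨V, i, hxV, hV⟩ := h x hx
    ⟨V, i, hxV, (Submodule.mem_iInf _).1 hV j⟩

theorem mem_inter {κ : Sort*} (P : κ → SubData F) {T : X.Opens} (s : Γ(F, T)) :
    s ∈ (inter P).sec T ↔ ∀ i, s ∈ (P i).sec T := Submodule.mem_iInf _

/-- The submodule generated by sections on `V`, with no condition outside `V`. -/
noncomputable def gen {V : X.Opens} (S : Set Γ(F, V)) : SubData F where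
  sec T :=
    { carrier := {s | ∀ x ∈ T, x ∈ V → ∃ (T' : X.Opens) (h : T' ≤ T) (h' : T' ≤ V),
        x ∈ T' ∧ rr h s ∈ Submodule.span Γ(X, T') (rr h' '' S)}
      add_mem' := fun {a b} ha hb x hx hxV ↦ by
        obtain ⟨T₁, h₁, h₁', hx₁, m₁⟩ := ha x hx hxV
        obtain ⟨T₂, h₂, h₂', hx₂, m₂⟩ := hb x hx hxV
        refine ⟨T₁ ⊓ T₂, inf_le_left.trans h₁, inf_le_left.trans h₁', ⟨hx₁, hx₂⟩, ?_⟩
        rw [map_add]
        refine add_mem ?_ ?_
        · rw [← rr_rr h₁ inf_le_left]; exact rr_mem_span' h₁' inf_le_left m₁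
        · rw [← rr_rr h₂ inf_le_right]; exact rr_mem_span' h₂' inf_le_right m₂
      zero_mem' := fun x hx hxV ↦ ⟨T ⊓ V, inf_le_left, inf_le_right, ⟨hx, hxV⟩, by
        rw [map_zero]; exact zero_mem _⟩
      smul_mem' := fun r s hs x hx hxV ↦ by
        obtain ⟨T', h, h', hx', m⟩ := hs x hx hxV
        exact ⟨T', h, h', hx', by rw [rr_smul]; exact Submodule.smul_mem _ _ m⟩ }
  map_mem {U W} i s hs x hx hxV := by
    obtain ⟨T', h, h', hx', m⟩ := hs x (i.le hx) hxV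
    refine ⟨T' ⊓ W, inf_le_right, inf_le_left.trans h', ⟨hx', hx⟩, ?_⟩
    change rr _ (rr i.le s) ∈ _
    rw [rr_rr, ← rr_rr h inf_le_left]
    exact rr_mem_span' h' inf_le_left m
  locality {U} s h x hx hxV := by
    obtain ⟨W, i, hxW, hW⟩ := h x hx
    obtain ⟨T', h₁, h', hx', m⟩ := hW x hxW hxV
    refine ⟨T', h₁.trans i.le, h', hx', ?_⟩
    change rr h₁ (rr i.le s) ∈ _ at m
    rwa [rr_rr] at m

theorem mem_gen_of_mem_span {V : X.Opens} {S : Set Γ(F, V)} {T : X.Opens} (hT : T ≤ V)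
    {s : Γ(F, T)} (hs : s ∈ Submodule.span Γ(X, T) (rr hT '' S)) : s ∈ (gen S).sec T :=
  fun x hx _ ↦ ⟨T, le_rfl, hT, hx, by rw [rr_self]; exact hs⟩

theorem mem_gen_iff [F.IsQuasicoherent] {V : X.Opens} {S : Set Γ(F, V)} {U : X.Opens}
    (hU : IsAffineOpen U) (hUV : U ≤ V) (s : Γ(F, U)) :
    s ∈ (gen S).sec U ↔ s ∈ Submodule.span Γ(X, U) (rr hUV '' S) := by
  refine ⟨fun hs ↦ ?_, mem_gen_of_mem_span hUV⟩
  let N := Submodule.span Γ(X, U) (rr hUV '' S)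
  refine Submodule.mem_of_span_eq_top_of_smul_pow_mem N {g | ∃ m : ℕ, g ^ m • s ∈ N} ?_ s
    fun g ↦ g.2
  refine hU.iSup_basicOpen_eq_self_iff.1 (le_antisymm (iSup_le fun i ↦ X.basicOpen_le _) ?_)
  intro x hx
  obtain ⟨T', h, h', hx', m⟩ := hs x hx (hUV hx)
  obtain ⟨g, hg, hxg⟩ := exists_basicOpen_mem hU hx hx'
  refine Opens.mem_iSup.2 ⟨⟨g, exists_pow_smul_mem_span hU g _ s ?_⟩, hxg⟩
  rw [image_rr_rr, ← rr_rr h hg]
  exact rr_mem_span' h' hg m

theorem gen_image_rr {V U : X.Opens} (h : U ≤ V) (S : Set Γ(F, V)) {T : X.Opens} (hT : T ≤ U) :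
    (gen (rr h '' S)).sec T = (gen S).sec T := by
  ext s
  constructor
  · intro hs x hx _
    obtain ⟨T', h₁, h₂, hx', m⟩ := hs x hx (hT hx)
    rw [image_rr_rr] at m
    exact ⟨T', h₁, h₂.trans h, hx', m⟩
  · intro hs x hx hxU
    obtain ⟨T', h₁, h₂, hx', m⟩ := hs x hx (h hxU)
    refine ⟨T', h₁, h₁.trans hT, hx', ?_⟩
    rw [image_rr_rr]
    exact m

/-- `P` is generated by finitely many sections on an affine neighbourhood of each point of `W`. -/
def LocGen (P : SubData F) (W : X.Opens) : Prop :=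
  ∀ x ∈ W, ∃ U : X.Opens, IsAffineOpen U ∧ x ∈ U ∧ U ≤ W ∧
    ∃ S : Set Γ(F, U), S.Finite ∧ ∀ T ≤ U, P.sec T = (gen S).sec T

theorem LocGen.exists_basicOpen {P : SubData F} {W : X.Opens} (h : LocGen P W) {U : X.Opens}
    (hU : IsAffineOpen U) {x : X} (hxU : x ∈ U) (hxW : x ∈ W) :
    ∃ g : Γ(X, U), x ∈ X.basicOpen g ∧ X.basicOpen g ≤ W ∧
      ∃ S : Set Γ(F, X.basicOpen g), S.Finite ∧
        ∀ T ≤ X.basicOpen g, P.sec T = (gen S).sec T := by
  obtain ⟨U', _, hx', hle, S, hS, hgen⟩ := h x hxW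
  obtain ⟨g, hg, hxg⟩ := exists_basicOpen_mem hU hxU hx'
  exact ⟨g, hxg, hg.trans hle, rr hg '' S, hS.image _, fun T hT ↦
    (hgen T (hT.trans hg)).trans (gen_image_rr hg S hT).symm⟩

/-- A power of `g` moves a section into `P`, if it lies in `P` on `X_g`. -/
theorem LocGen.exists_pow_smul_mem [F.IsQuasicoherent] {P : SubData F} {W : X.Opens}
    (h : LocGen P W) {U : X.Opens} (hU : IsAffineOpen U) {W' : X.Opens} (hW' : W' ≤ W)
    (hW'U : W' ≤ U) (hc : IsCompact (W' : Set X)) (g : Γ(X, U)) (t : Γ(F, U))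
    (ht : rr (inf_le_right.trans hW'U : X.basicOpen g ⊓ W' ≤ U) t ∈
      P.sec (X.basicOpen g ⊓ W')) :
    ∃ m : ℕ, rr hW'U (g ^ m • t) ∈ P.sec W' := by
  classical
  have key : ∀ x : W', ∃ V : X.Opens, x.1 ∈ V ∧ ∃ (hV : V ≤ W') (m : ℕ), ∀ n, m ≤ n →
      rr (hV.trans hW'U) (g ^ n • t) ∈ P.sec V := fun x ↦ by
    obtain ⟨U', hU', hxU', hle, S, -, hgen⟩ := h x.1 (hW' x.2)
    obtain ⟨h', hh', hxh⟩ := exists_basicOpen_mem hU' hxU' x.2
    have hV : IsAffineOpen (X.basicOpen h') := hU'.basicOpen h'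
    have hVU : X.basicOpen h' ≤ U := hh'.trans hW'U
    have hD : X.basicOpen (X.presheaf.map (homOfLE hVU).op g) ≤ X.basicOpen g ⊓ W' := by
      rw [X.basicOpen_res]; exact le_inf inf_le_right (inf_le_left.trans hh')
    have hD' := X.basicOpen_le (X.presheaf.map (homOfLE hVU).op g)
    have m₀ := P.map_mem (homOfLE hD) ht
    change rr hD (rr _ t) ∈ _ at m₀
    rw [rr_rr, hgen _ (hD'.trans (X.basicOpen_le h')),
      mem_gen_iff (hV.basicOpen _) (hD'.trans (X.basicOpen_le h'))] at m₀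
    obtain ⟨m, hm⟩ := exists_pow_smul_mem_span hV _ (rr (X.basicOpen_le h') '' S) (rr hVU t) (by
      rw [image_rr_rr, rr_rr]; exact m₀)
    refine ⟨_, hxh, hh', m, fun n hn ↦ ?_⟩
    obtain ⟨k, rfl⟩ := Nat.exists_eq_add_of_le' hn
    rw [rr_smul, map_pow, pow_add, mul_smul]
    refine Submodule.smul_mem _ _ ?_
    rw [hgen _ (X.basicOpen_le h')]
    exact mem_gen_of_mem_span _ hm
  choose V hxV hV m hm using key
  obtain ⟨s, hs⟩ := hc.elim_finite_subcover (fun x : W' ↦ (V x : Set X))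
    (fun x ↦ (V x).isOpen) fun x hx ↦ Set.mem_iUnion.2 ⟨⟨x, hx⟩, hxV _⟩
  refine ⟨s.sup m, P.locality _ fun x hx ↦ ?_⟩
  obtain ⟨i, hi, hxi⟩ := Set.mem_iUnion₂.1 (hs hx)
  refine ⟨V i, homOfLE (hV i), hxi, ?_⟩
  change rr (hV i) (rr _ _) ∈ _
  rw [rr_rr]
  exact hm i _ (Finset.le_sup hi)

theorem LocGen.isQuasicoherent [F.IsQuasicoherent] {P : SubData F} (h : LocGen P ⊤) :
    P.obj.IsQuasicoherent := by
  refine P.isQuasicoherent fun U hU g t ht ↦ ?_
  obtain ⟨m, hm⟩ := h.exists_pow_smul_mem hU le_top le_rfl hU.isCompact g t (by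
    have := P.map_mem (homOfLE (inf_le_left : X.basicOpen g ⊓ U ≤ X.basicOpen g)) ht
    change rr _ (rr _ t) ∈ _ at this
    rwa [rr_rr] at this)
  rw [rr_self] at hm
  exact ⟨m, hm⟩

theorem LocGen.isFiniteType [F.IsQuasicoherent] {P : SubData F} (h : LocGen P ⊤) :
    SheafOfModules.IsFiniteType.{u, u, u} (R := X.ringCatSheaf) P.obj := by
  have := h.isQuasicoherent
  choose U hU hxU _ S hS hgen using fun x : X ↦ h x (Opens.mem_top x)
  refine isFiniteType_of_moduleFinite P.obj U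
    (IsOpenCover.mk (eq_top_iff.2 fun x _ ↦ Opens.mem_iSup.2 ⟨x, hxU x⟩)) hU fun x ↦ ?_
  have hr : LinearMap.range (appLinear P.ι (U x)) = Submodule.span Γ(X, U x) (S x) := by
    ext s
    rw [LinearMap.mem_range]
    change (s ∈ Set.range (P.ι.app (U x))) ↔ _
    rw [P.range_ι_app, SetLike.mem_coe, hgen x _ le_rfl, mem_gen_iff (hU x) le_rfl]
    simp only [rr_self, Set.image_id']
  have : Module.Finite Γ(X, U x) (LinearMap.range (appLinear P.ι (U x))) :=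
    Module.Finite.iff_fg.2 (hr ▸ Submodule.fg_span (hS x))
  exact Module.Finite.equiv
    (LinearEquiv.ofInjective (appLinear P.ι (U x)) (P.ι_app_injective (U x))).symm

/-- The extension step across an affine open. -/
theorem LocGen.exists_step [F.IsQuasicoherent] {P : SubData F} {W : X.Opens} (h : LocGen P W)
    {V : X.Opens} (hV : IsAffineOpen V) (hc : IsCompact ((V ⊓ W : X.Opens) : Set X)) :
    ∃ Q : SubData F, LocGen Q (W ⊔ V) ∧ ∀ T ≤ W, Q.sec T = P.sec T := by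
  classical
  have key : ∀ x : (V ⊓ W : X.Opens), ∃ g : Γ(X, V), x.1 ∈ X.basicOpen g ∧ X.basicOpen g ≤ W ∧
      ∃ S : Set Γ(F, X.basicOpen g), S.Finite ∧ ∀ T ≤ X.basicOpen g, P.sec T = (gen S).sec T :=
    fun x ↦ h.exists_basicOpen hV x.2.1 x.2.2
  choose g hxg hgW S₀ hS₀ hgen using key
  obtain ⟨s, hs⟩ := hc.elim_finite_subcover (fun x : (V ⊓ W : X.Opens) ↦ (X.basicOpen (g x) : Set X))
    (fun x ↦ (X.basicOpen (g x)).isOpen) fun x hx ↦ Set.mem_iUnion.2 ⟨⟨x, hx⟩, hxg _⟩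
  have lift : ∀ (i : (V ⊓ W : X.Opens)) (y : Γ(F, X.basicOpen (g i))), y ∈ S₀ i →
      ∃ (n : ℕ) (m : Γ(F, V)), rr (X.basicOpen_le (g i)) m =
        X.presheaf.map (homOfLE (X.basicOpen_le (g i))).op (g i) ^ n • y ∧
        rr inf_le_left m ∈ P.sec (V ⊓ W) := fun i y hy ↦ by
    obtain ⟨n, m, hm⟩ := (smulLift_and_smulSep_of_isAffineOpen hV F (g i)).1 y
    change rr (X.basicOpen_le (g i)) m = _ at hm
    have hm' : rr (X.basicOpen_le (g i)) m ∈ P.sec (X.basicOpen (g i)) := by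
      rw [hgen i _ le_rfl, hm]
      exact mem_gen_of_mem_span le_rfl
        (Submodule.smul_mem _ _ (Submodule.subset_span ⟨y, hy, rr_self _ y⟩))
    obtain ⟨k, hk⟩ := h.exists_pow_smul_mem hV (inf_le_right : V ⊓ W ≤ W) inf_le_left hc (g i) m (by
      rw [← rr_rr (X.basicOpen_le (g i)) inf_le_left]
      exact P.map_mem _ hm')
    refine ⟨k + n, g i ^ k • m, ?_, hk⟩
    rw [rr_smul, hm, map_pow, ← mul_smul, pow_add]
  choose n m hm hmem using lift
  have hSfin : (⋃ i ∈ s, Set.range fun y : S₀ i ↦ m i y.1 y.2).Finite :=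
    s.finite_toSet.biUnion fun i _ ↦ @Set.finite_range _ _ _ (hS₀ i).to_subtype
  set S := ⋃ i ∈ s, Set.range fun y : S₀ i ↦ m i y.1 y.2
  have hVW : ∀ T ≤ V ⊓ W, P.sec T = (gen S).sec T := by
    intro T hT
    ext t
    constructor
    · intro ht x hx _
      obtain ⟨i, hi, hxi⟩ := Set.mem_iUnion₂.1 (hs (hT hx))
      have ht' := P.map_mem (homOfLE (inf_le_left : T ⊓ X.basicOpen (g i) ≤ T)) ht
      change rr _ t ∈ _ at ht'
      rw [hgen i _ inf_le_right] at ht'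
      obtain ⟨T', h₁, h₂, hx', q⟩ := ht' x ⟨hx, hxi⟩ hxi
      refine ⟨T', h₁.trans inf_le_left, h₂.trans (X.basicOpen_le _), hx', ?_⟩
      rw [rr_rr] at q
      refine Submodule.span_le.2 ?_ q
      rintro _ ⟨y, hy, rfl⟩
      have hu : IsUnit (X.presheaf.map (homOfLE h₂).op
          (X.presheaf.map (homOfLE (X.basicOpen_le (g i))).op (g i) ^ n i y hy)) :=
        ((RingedSpace.isUnit_res_basicOpen X.toRingedSpace (g i)).pow _).map _
      rw [SetLike.mem_coe, ← Submodule.smul_mem_iff_of_isUnit _ hu, ← rr_smul, ← hm i y hy, rr_rr]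
      exact Submodule.subset_span ⟨_, Set.mem_iUnion₂.2 ⟨i, hi, ⟨⟨y, hy⟩, rfl⟩⟩, rfl⟩
    · intro ht
      refine P.locality _ fun x hx ↦ ?_
      obtain ⟨T', h₁, h₂, hx', q⟩ := ht x hx (hT hx).1
      refine ⟨T', homOfLE h₁, hx', ?_⟩
      change rr h₁ t ∈ _
      refine Submodule.span_le.2 ?_ q
      rintro _ ⟨z, hz, rfl⟩
      obtain ⟨i, _, ⟨y, hy⟩, rfl⟩ := Set.mem_iUnion₂.1 hz
      have := P.map_mem (homOfLE (h₁.trans hT)) (hmem i y hy)
      change rr (h₁.trans hT) (rr _ _) ∈ _ at this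
      rwa [rr_rr] at this
  let Q := inter fun b : Bool ↦ cond b (P.restrictTo W) ((gen S).restrictTo V)
  have hQ : ∀ (T : X.Opens) (t : Γ(F, T)), t ∈ Q.sec T ↔
      t ∈ (P.restrictTo W).sec T ∧ t ∈ ((gen S).restrictTo V).sec T := fun T t ↦ by
    rw [mem_inter, Bool.forall_bool]; exact and_comm
  have hQW : ∀ T ≤ W, Q.sec T = P.sec T := fun T hT ↦ by
    ext t
    rw [hQ, mem_restrictTo_of_le P hT]
    refine ⟨fun h ↦ h.1, fun ht ↦ ⟨ht, ?_⟩⟩
    rw [mem_restrictTo, ← hVW _ (le_inf inf_le_right (inf_le_left.trans hT))]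
    exact P.map_mem _ ht
  refine ⟨Q, fun x hx ↦ ?_, hQW⟩
  rcases hx with hx | hx
  · obtain ⟨U, hU, hxU, hle, S', hS', hgen'⟩ := h x hx
    exact ⟨U, hU, hxU, hle.trans le_sup_left, S', hS', fun T hT ↦
      (hQW T (hT.trans hle)).trans (hgen' T hT)⟩
  · refine ⟨V, hV, hx, le_sup_right, S, hSfin, fun T hT ↦ ?_⟩
    ext t
    rw [hQ, mem_restrictTo_of_le (gen S) hT]
    refine ⟨fun h ↦ h.2, fun ht ↦ ⟨?_, ht⟩⟩
    rw [mem_restrictTo, hVW _ (le_inf (inf_le_left.trans hT) inf_le_right)]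
    exact (gen S).map_mem _ ht

/-- Compatible submodules glue along their domains. -/
theorem LocGen.exists_union {κ : Type*} (W : κ → X.Opens) (Q : κ → SubData F)
    (hQ : ∀ a, LocGen (Q a) (W a))
    (hcompat : ∀ a b, ∀ T ≤ W a ⊓ W b, (Q a).sec T = (Q b).sec T) :
    ∃ R : SubData F, LocGen R (⨆ a, W a) ∧ ∀ a, ∀ T ≤ W a, R.sec T = (Q a).sec T := by
  let R : SubData F := inter fun a ↦ (Q a).restrictTo (W a)
  have hR : ∀ b, ∀ T ≤ W b, R.sec T = (Q b).sec T := fun b T hT ↦ by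
    ext t
    rw [mem_inter]
    refine ⟨fun h ↦ (mem_restrictTo_of_le _ hT t).1 (h b), fun ht a ↦ ?_⟩
    rw [mem_restrictTo, hcompat a b _ (le_inf inf_le_right (inf_le_left.trans hT))]
    exact (Q b).map_mem _ ht
  refine ⟨R, fun x hx ↦ ?_, hR⟩
  obtain ⟨b, hxb⟩ := Opens.mem_iSup.1 hx
  obtain ⟨U, hU, hxU, hle, S, hS, hgen⟩ := hQ b x hxb
  exact ⟨U, hU, hxU, hle.trans (le_iSup W b), S, hS, fun T hT ↦
    (hR b T (hT.trans hle)).trans (hgen T hT)⟩

set_option maxHeartbeats 800000 in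
/-- Extension to the union with a well-ordered family of affine opens. -/
theorem LocGen.exists_extension [F.IsQuasicoherent] {L : Type*} [LinearOrder L] [WellFoundedLT L]
    (V : L → X.Opens) (hV : ∀ l, IsAffineOpen (V l)) (U : X.Opens) (hcov : U ⊔ ⨆ l, V l = ⊤)
    (hc : ∀ l, IsCompact ((V l ⊓ (U ⊔ ⨆ m : Set.Iio l, V m.1) : X.Opens) : Set X))
    {P : SubData F} (h : LocGen P U) :
    ∃ Q : SubData F, LocGen Q ⊤ ∧ ∀ T ≤ U, Q.sec T = P.sec T := by
  classical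
  let W : Set L → X.Opens := fun A ↦ U ⊔ ⨆ m : A, V m.1
  have hVW : ∀ (A : Set L) (m : L), m ∈ A → V m ≤ W A := fun A m hm ↦
    le_sup_of_le_right (le_iSup (fun m : A ↦ V m.1) ⟨m, hm⟩)
  have hWle : ∀ (A : Set L) (B : X.Opens), U ≤ B → (∀ m ∈ A, V m ≤ B) → W A ≤ B := fun A B h₁ h₂ ↦
    sup_le h₁ (iSup_le fun m : A ↦ h₂ m.1 m.2)
  have hWmono : ∀ (A B : Set L), A ⊆ B → W A ≤ W B := fun A B hAB ↦
    hWle A _ le_sup_left fun m hm ↦ hVW B m (hAB hm)
  let E := { q : Set L × SubData F // IsLowerSet q.1 ∧ LocGen q.2 (W q.1) ∧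
    ∀ T ≤ U, q.2.sec T = P.sec T }
  let r : E → E → Prop := fun a b ↦
    a.1.1 ⊆ b.1.1 ∧ ∀ T ≤ W a.1.1, b.1.2.sec T = a.1.2.sec T
  have hW0 : W ∅ = U := by simp [W]
  let e₀ : E := ⟨(∅, P), fun _ _ _ ha ↦ ha, hW0.symm ▸ h, fun _ _ ↦ rfl⟩
  obtain ⟨a, ha⟩ := exists_maximal_of_chains_bounded (r := r) (fun c hc' ↦ by
    rcases c.eq_empty_or_nonempty with rfl | ⟨e₁, he₁⟩
    · exact ⟨e₀, fun a ha ↦ ha.elim⟩
    let A : Set L := ⋃ a ∈ c, a.1.1
    have hA : IsLowerSet A := isLowerSet_iUnion₂ fun a _ ↦ a.2.1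
    obtain ⟨R, hR, hR'⟩ := LocGen.exists_union (fun a : c ↦ W a.1.1.1) (fun a : c ↦ a.1.1.2)
      (fun a ↦ a.1.2.2.1) fun a b T hT ↦ by
        by_cases hab : a.1 = b.1
        · rw [hab]
        rcases hc' a.2 b.2 hab with hab | hab
        · exact (hab.2 T (hT.trans inf_le_left)).symm
        · exact hab.2 T (hT.trans inf_le_right)
    have hW : ⨆ a : c, W a.1.1.1 = W A := by
      refine le_antisymm (iSup_le fun a ↦
        hWmono _ _ (Set.subset_biUnion_of_mem (u := fun a : E ↦ a.1.1) a.2)) (sup_le ?_ ?_)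
      · exact le_iSup_of_le ⟨e₁, he₁⟩ le_sup_left
      · refine iSup_le fun ⟨m, hm⟩ ↦ ?_
        obtain ⟨b, hb, hmb⟩ := Set.mem_iUnion₂.1 hm
        exact le_iSup_of_le ⟨b, hb⟩ (hVW _ m hmb)
    exact ⟨⟨(A, R), hA, hW ▸ hR, fun T hT ↦
      (hR' ⟨e₁, he₁⟩ T (hT.trans le_sup_left)).trans (e₁.2.2.2 T hT)⟩, fun a ha' ↦
      ⟨Set.subset_biUnion_of_mem (u := fun a : E ↦ a.1.1) ha', fun T hT ↦ hR' ⟨a, ha'⟩ T hT⟩⟩)
    (fun {a b c} hab hbc ↦ ⟨hab.1.trans hbc.1, fun T hT ↦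
      (hbc.2 T (hT.trans (hWmono _ _ hab.1))).trans (hab.2 T hT)⟩)
  obtain ⟨⟨A, Q⟩, hA, hQ, hQU⟩ := a
  suffices hA' : A = Set.univ by
    refine ⟨Q, ?_, hQU⟩
    have : W A = ⊤ := eq_top_iff.2 (hcov.ge.trans (sup_le le_sup_left
      (iSup_le fun m ↦ hVW A m (hA'.symm ▸ Set.mem_univ m))))
    exact this ▸ hQ
  by_contra hne
  have hex : (Aᶜ).Nonempty := Set.nonempty_compl.2 hne
  obtain ⟨l, hl, hmin⟩ := wellFounded_lt.has_min Aᶜ hex
  have hAl : A = Set.Iio l := Set.ext fun m ↦ ⟨fun hm ↦ not_le.1 fun hle ↦ hl (hA hle hm),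
    fun hm ↦ not_not.1 fun h' ↦ hmin m h' hm⟩
  obtain ⟨Q', hQ', hQQ'⟩ := hQ.exists_step (hV l) (hAl ▸ hc l)
  have hW' : W (Set.Iic l) = W A ⊔ V l := by
    refine le_antisymm (hWle _ _ (le_sup_left.trans le_sup_left) fun m hm ↦ ?_)
      (sup_le (hWmono _ _ (hAl ▸ Set.Iio_subset_Iic_self)) (hVW _ l (le_refl l)))
    rcases (hm : m ≤ l).lt_or_eq with hlt | rfl
    · exact le_sup_of_le_left (hVW A m (hAl ▸ hlt))
    · exact le_sup_right
  let b : E := ⟨(Set.Iic l, Q'), isLowerSet_Iic l, hW'.symm ▸ hQ', fun T hT ↦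
    (hQQ' T (hT.trans le_sup_left)).trans (hQU T hT)⟩
  have := (ha b ⟨hAl ▸ Set.Iio_subset_Iic_self, hQQ'⟩).1
  exact hl (this (le_refl l : l ∈ Set.Iic l))

end SubData

end GrothLib.QCoh
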