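import Groth.Agent.Lib.QCoh.StalkPullback
import Groth.Agent.Lib.QCoh.SupportExact
import Groth.Agent.Lib.QuasiFlat.Basic
import Mathlib.RingTheory.LocalRing.Module

/-!
# The support of an inverse image
-/

universe u

open CategoryTheory CategoryTheory.Limits AlgebraicGeometry TopologicalSpace
open scoped TensorProduct

namespace GrothLib.QCoh

/-- Base change along a local homomorphism does not kill nonzero finite modules. -/
theorem subsingleton_tensor_iff {R S M : Type u} [CommRing R] [CommRing S] [IsLocalRing R]
    [IsLocalRing S] [Algebra R S] [IsLocalHom (algebraMap R S)] [AddCommGroup M] [Module R M]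
    [Module.Finite R M] : Subsingleton (S ⊗[R] M) ↔ Subsingleton M := by
  refine ⟨fun h ↦ ?_, fun h ↦ inferInstance⟩
  rw [← IsLocalRing.subsingleton_tensorProduct (R := R) (M := M)]
  let k := IsLocalRing.ResidueField R
  let l := IsLocalRing.ResidueField S
  have : Subsingleton (l ⊗[R] M) :=
    (LinearMap.rTensor_surjective M (g := (IsScalarTower.toAlgHom R S l).toLinearMap)
      IsLocalRing.residue_surjective).subsingleton
  have : Subsingleton (l ⊗[k] (k ⊗[R] M)) :=
    (TensorProduct.AlgebraTensorModule.cancelBaseChange R k l l M).toEquiv.subsingleton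
  exact (Module.FaithfullyFlat.subsingleton_tensorProduct_iff_right k l).1 this

variable {X Y : Scheme.{u}} (f : Y ⟶ X)

/-- The support of the inverse image of a module of finite type. -/
theorem support_pullback (F : X.Modules) (hF : Coh.IsCoh F) :
    CohB1.support ((Scheme.Modules.pullback f).obj F) = f.base ⁻¹' CohB1.support F := by
  ext y
  let φ := (f.stalkMap y).hom
  let _ := φ.toAlgebra
  have : IsLocalHom (algebraMap (X.presheaf.stalk (f y)) (Y.presheaf.stalk y)) :=
    inferInstanceAs (IsLocalHom (f.stalkMap y).hom)
  have : Module.Finite (X.presheaf.stalk (f y)) ((OX.stalk (f y)).obj F) :=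
    QuasiFlat.finite_stalk F hF (f y)
  have e : ((OX.stalk y).obj ((Scheme.Modules.pullback f).obj F)) ≅
      (ModuleCat.extendScalars φ).obj ((OX.stalk (f y)).obj F) := (stalkPullbackIso f y).app F
  change ¬ Subsingleton ((OX.stalk y).obj ((Scheme.Modules.pullback f).obj F)) ↔
    ¬ Subsingleton ((OX.stalk (f y)).obj F)
  exact not_congr (e.toLinearEquiv.toEquiv.subsingleton_congr.trans
    (subsingleton_tensor_iff (R := X.presheaf.stalk (f y)) (S := Y.presheaf.stalk y)
      (M := (OX.stalk (f y)).obj F)))

end GrothLib.QCoh
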