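import Groth.Agent.Lib.QCoh.DevissageRoots
import Groth.Agent.Lib.QCoh.SchSupport

/-!
# Dévissage for classes closed under extensions and roots
-/

universe u

open CategoryTheory CategoryTheory.Limits Opposite AlgebraicGeometry TopologicalSpace

namespace GrothLib.QCoh

variable {X : Scheme.{u}}

attribute [local instance] Abelian.hasFiniteBiproducts

/-- A map is injective on the submodule avoiding a set containing the support of its kernel. -/
theorem mono_avoid_ι_comp [IsLocallyNoetherian X] {A B : X.Modules} (hA : Coh.IsCoh A) (f : A ⟶ B)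
    (C : Set X) (hC : CohB1.support (kernel f) ⊆ C) : Mono ((avoid A hA C).ι ≫ f) :=
  mono_of_app_injective _ fun V ↦ (injective_iff_map_eq_zero _).2 fun s h0 ↦ by
    refine (avoid A hA C).ι_app_injective V ?_
    rw [map_zero]
    refine eq_zero_of_mem_avoid _ hA C ((avoid A hA C).ι_app_mem s) fun y hy hyC ↦ ?_
    obtain ⟨w, hw⟩ := app_exact (S := ShortComplex.mk (kernel.ι f) (Abelian.factorThruImage f)
        (shortExact_kernel_image f).1) (shortExact_kernel_image f).2 V ((avoid A hA C).ι.app V s) (by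
      refine Cohom.app_injective_of_mono (Abelian.image.ι f) V ?_
      rw [map_zero]
      refine Eq.trans ?_ h0
      change _ = f.app V ((avoid A hA C).ι.app V s)
      conv_rhs => rw [← Abelian.image.fac f]
      rfl)
    rw [← hw]
    rw [← stalkLin_germ (kernel.ι f) hy w,
      Subsingleton.elim (h := stalk_subsingleton_of_notMem fun h ↦ hyC (hC h))
        ((kernel f).presheaf.germ V y hy w) 0, map_zero]

/-- The submodule avoiding a closed set is everything at the points outside. -/
theorem bijective_stalkLin_avoid_ι [IsLocallyNoetherian X] {A : X.Modules} (hA : Coh.IsCoh A)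
    {C : Set X} (hC : IsClosed C) {x : X} (hx : x ∉ C) :
    Function.Bijective (stalkLin (avoid A hA C).ι x) := by
  let J := avoid A hA C
  have : Mono J.ι := mono_of_app_injective _ J.ι_app_injective
  refine ⟨stalkLin_injective J.ι x, fun e ↦ ?_⟩
  obtain ⟨V, hV, s, rfl⟩ := TopCat.Presheaf.exists_germ_eq A.presheaf e
  let W : X.Opens := V ⊓ ⟨Cᶜ, hC.isOpen_compl⟩
  refine ⟨J.obj.presheaf.germ W x ⟨hV, hx⟩ (J.lift _ (mem_avoid_of_disjoint _ hA C (V := W)
    (Set.disjoint_left.2 fun y hy ↦ hy.2) (A.presheaf.map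
      (homOfLE (inf_le_left : W ≤ V)).op s))), ?_⟩
  exact (stalkLin_germ _ _ _).trans (germ_map _ _ _ s)

/-- Direct images of ideals on a closed subscheme are killed by the ideal. -/
theorem killedByIdeal_push_of_mono {Z : Scheme.{u}} (i : Z ⟶ X) [IsClosedImmersion i]
    {N : Z.Modules} (ι : N ⟶ Coh.structureModule Z) [Mono ι] :
    ClSub.KilledByIdeal i.ker ((Coh.push i).obj N) := by
  have : Mono ((Coh.push i).map ι) :=
    mono_of_app_injective _ fun U ↦ Cohom.app_injective_of_mono ι (i ⁻¹ᵁ U)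
  exact fun U r hr m ↦ Cohom.app_injective_of_mono ((Coh.push i).map ι) U.1 <| by
    refine ((appLinear ((Coh.push i).map ι) U.1).map_smul r m).trans ?_
    exact (pushUnit_killedByIdeal i U r hr _).trans (map_zero _).symm

/-- A nonzero ideal is everything at the generic point. -/
theorem bijective_stalkLin_push_map [IsLocallyNoetherian X] {Z : Scheme.{u}} (i : Z ⟶ X)
    [IsClosedImmersion i] [IsIntegral Z] {N : Z.Modules} (ι : N ⟶ Coh.structureModule Z) [Mono ι]
    (hN0 : ¬ IsZero N) :
    Function.Bijective (stalkLin ((Coh.push i).map ι) (i (genericPoint Z))) := by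
  have : Mono ((Coh.push i).map ι) :=
    mono_of_app_injective _ fun U ↦ Cohom.app_injective_of_mono ι (i ⁻¹ᵁ U)
  let a := (Coh.push i).map ι
  refine ⟨stalkLin_injective a _, fun w ↦ ?_⟩
  obtain ⟨n, hn⟩ : ∃ n, stalkLin a (i (genericPoint Z)) n ≠ 0 := by
    by_contra h
    push Not at h
    refine genericPoint_mem_support_push i N ι hN0 (subsingleton_of_forall_eq 0 fun n ↦ ?_)
    exact stalkLin_injective a _ ((h n).trans (map_zero _).symm)
  obtain ⟨r, hr⟩ := exists_smul_pushOne_eq i (stalkLin a _ n)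
  obtain ⟨s, hs⟩ := exists_smul_pushOne_eq i w
  have hr0 : (i.stalkMap (genericPoint Z)).hom r ≠ 0 := fun h ↦
    hn (hr.symm.trans ((smul_pushOne_eq_zero_iff i r).2 h))
  have hu : IsUnit r := (isUnit_map_iff (i.stalkMap (genericPoint Z)).hom r).1
    (IsUnit.mk0 (G₀ := Z.functionField) _ hr0)
  refine ⟨(s * ((hu.unit⁻¹ : _ˣ) : X.presheaf.stalk _)) • n, ?_⟩
  refine (map_smul (stalkLin a _) _ n).trans ?_
  rw [← hr, smul_smul, mul_assoc, IsUnit.val_inv_mul, mul_one]
  exact hs

/-- For a class closed under extensions and roots, containing the modules that are small at the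
generic point `x` of `Z`: if every coherent submodule of `G` which is everything at `x` contains a
member of the class which is everything at `x`, the class contains the nonzero ideals of `Z`. -/
theorem piece_of_submodules [IsNoetherian X] {Z : Scheme.{u}} (i : Z ⟶ X) [IsClosedImmersion i]
    [IsIntegral Z] (P : X.Modules → Prop)
    (hiso : ∀ M N : X.Modules, Nonempty (M ≅ N) → P M → P N)
    (hext : ∀ S : ShortComplex X.Modules, S.ShortExact → Coh.IsCoh S.X₁ → Coh.IsCoh S.X₂ →
      Coh.IsCoh S.X₃ → P S.X₁ → P S.X₃ → P S.X₂)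
    (hroot : ∀ (F : X.Modules) (d : ℕ), 1 ≤ d → Coh.IsCoh F → P (∐ fun _ : Fin d => F) → P F)
    (hs : ∀ M : X.Modules, Coh.IsCoh M → CohB1.support M ⊆ Set.range i →
      i (genericPoint Z) ∉ CohB1.support M → P M)
    (G : X.Modules) (hG : Coh.IsCoh G) (hx : i (genericPoint Z) ∈ CohB1.support G)
    (hm : ∀ r ∈ IsLocalRing.maximalIdeal (X.presheaf.stalk (i (genericPoint Z))),
      ∀ e : G.presheaf.stalk (i (genericPoint Z)), r • e = 0)
    (hG' : ∀ (G₁ : X.Modules) (m : G₁ ⟶ G), Mono m → Coh.IsCoh G₁ →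
      Function.Bijective (stalkLin m (i (genericPoint Z))) →
      ∃ (A : X.Modules) (a : A ⟶ G₁), Mono a ∧ Coh.IsCoh A ∧
        Function.Bijective (stalkLin a (i (genericPoint Z))) ∧ P A)
    (N : Z.Modules) (ι : N ⟶ Coh.structureModule Z) [Mono ι] (hN : Coh.IsCoh N) (hN0 : ¬ IsZero N) :
    P ((Coh.push i).obj N) := by
  have := hG.1
  have := hN.1
  set x := i (genericPoint Z) with hxdef
  set T₀ := (Coh.push i).obj N
  have hT₀ : Coh.IsCoh T₀ :=
    ⟨isQuasicoherent_pushforward i N, isFiniteType_pushforward i N hN.2⟩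
  obtain ⟨e₀⟩ := nonempty_pushUnit_stalk_equiv i
  let e₁ := (LinearEquiv.ofBijective _ (bijective_stalkLin_push_map i ι hN0)).trans e₀
  let G₀ := (killed G i.ker).obj
  have hG₀ : Coh.IsCoh G₀ := killed_isCoh G hG i.ker
  have hk₀ : ClSub.KilledByIdeal i.ker G₀ := killed_killedByIdeal G i.ker
  have : Mono (killed G i.ker).ι := mono_of_app_injective _ (killed G i.ker).ι_app_injective
  have hb₀ : Function.Bijective (stalkLin (killed G i.ker).ι x) := by
    refine ⟨stalkLin_injective _ x, ?_⟩
    rw [ker_eq_vanishingIdeal_closure i]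
    exact killed_stalk_surjective G x hm
  have := stalk_finite G₀ hG₀ x
  have : Nontrivial (G₀.presheaf.stalk x) := by
    have : Nontrivial (G.presheaf.stalk x) := not_subsingleton_iff_nontrivial.1 hx
    exact (Equiv.ofBijective _ hb₀).nontrivial
  obtain ⟨d, hd, ⟨e₂⟩⟩ := exists_equiv_pi_residueField (R := X.presheaf.stalk x)
    (V := G₀.presheaf.stalk x) fun r hr v ↦ hb₀.1 <| by
      rw [map_smul, map_zero]; exact hm r hr _
  let T : X.Modules := ⨁ fun _ : Fin d ↦ T₀
  have hT : Coh.IsCoh T := isCoh_biproduct_fin _ fun _ ↦ hT₀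
  have hkT : ClSub.KilledByIdeal i.ker T :=
    killedByIdeal_biproduct _ _ fun _ ↦ killedByIdeal_push_of_mono i ι
  let e₃ := ((OX.stalk x).mapBiproduct (fun _ : Fin d ↦ T₀) ≪≫
    ModuleCat.biproductIsoPi _).toLinearEquiv
  let φ : T.presheaf.stalk x ≃ₗ[X.presheaf.stalk x] G₀.presheaf.stalk x :=
    e₃.trans ((LinearEquiv.piCongrRight fun _ ↦ e₁).trans e₂)
  have hI := ker_eq_vanishingIdeal_closure i
  have hJ := graphAt_isCoh T G₀ x φ.toLinearMap hT hG₀ i.ker hI hkT hk₀
  let p := graphFst T G₀ x φ.toLinearMap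
  let q := graphSnd T G₀ x φ.toLinearMap
  have hp : Function.Bijective (stalkLin p x) := graphFst_stalk_bijective T G₀ x φ.toLinearMap
  have hq : Function.Bijective (stalkLin q x) := by
    rw [show ⇑(stalkLin q x) = ⇑φ ∘ stalkLin p x from funext fun e ↦ graphSnd_stalk _ _ _ _ _]
    exact φ.bijective.comp hp
  let C := CohB1.support (kernel p) ∪ CohB1.support (kernel q)
  have hC : IsClosed C := (isClosed_support_of_isCoh (isCoh_kernel p hJ hT)).union
    (isClosed_support_of_isCoh (isCoh_kernel q hJ hG₀))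
  have hCx : x ∉ C := fun h ↦ h.elim (notMem_support_kernel_of_injective _ hp.1)
    (notMem_support_kernel_of_injective _ hq.1)
  let J := avoid _ hJ C
  have hJ' : Coh.IsCoh J.obj := avoid_isCoh _ hJ C
  have hι := bijective_stalkLin_avoid_ι hJ hC hCx
  have : Mono (J.ι ≫ p) := mono_avoid_ι_comp hJ p C Set.subset_union_left
  have : Mono (J.ι ≫ q) := mono_avoid_ι_comp hJ q C Set.subset_union_right
  obtain ⟨A, a, ha, hA, hab, hPA⟩ := hG' J.obj ((J.ι ≫ q) ≫ (killed G i.ker).ι) inferInstance hJ' <| by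
    rw [show ⇑(stalkLin ((J.ι ≫ q) ≫ (killed G i.ker).ι) x) =
      stalkLin (killed G i.ker).ι x ∘ stalkLin q x ∘ stalkLin J.ι x from
      funext fun e ↦ (stalkLin_comp _ _ _ e).trans (congrArg _ (stalkLin_comp _ _ _ e))]
    exact hb₀.comp (hq.comp hι)
  let b := a ≫ J.ι ≫ p
  have : Mono b := mono_comp a (J.ι ≫ p)
  have hb : Function.Bijective (stalkLin b x) := by
    rw [show ⇑(stalkLin b x) = stalkLin p x ∘ stalkLin J.ι x ∘ stalkLin a x from
      funext fun e ↦ (stalkLin_comp _ _ _ e).trans (stalkLin_comp _ _ _ _)]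
    exact hp.comp (hι.comp hab)
  have hC' := isCoh_cokernel b hA hT
  have hS : (ShortComplex.mk b (cokernel.π b) (cokernel.condition b)).ShortExact :=
    ShortComplex.ShortExact.mk' (ShortComplex.exact_cokernel b) inferInstance inferInstance
  have hPT : P T := hext _ hS hA hT hC' hPA (hs _ hC'
    ((support_subset_of_epi (cokernel.π b)).trans (support_subset_range i _ hkT))
    (notMem_support_cokernel_of_surjective b hb.2))
  exact hroot _ d hd hT₀ (hiso _ _ ⟨biproduct.isoCoproduct _⟩ hPT)

end GrothLib.QCoh
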