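import Groth.Agent.Lib.QCoh.DevissageSummands
import Groth.Agent.Lib.QCoh.Sub
import Groth.Agent.Lib.QCoh.Coherent
import Groth.Agent.Lib.FreeRetract9.Basic
import Groth.Agent.Lib.QCoh.Qcqs

/-!
# The centre of the category of coherent modules
-/

set_option autoImplicit false
set_option backward.isDefEq.respectTransparency false
universe u

open CategoryTheory CategoryTheory.Limits AlgebraicGeometry TopologicalSpace Opposite
open GrothLib.InvExt (mres)

noncomputable section

namespace GrothLib.QCoh

variable {X : Scheme.{u}}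

/-- The kernel of a map of modules, through its sections. -/
def kerData {M N : X.Modules} (f : M ⟶ N) : SubData M where
  sec V :=
    { carrier := {x | f.app V x = 0}
      add_mem' := fun {a b} ha hb => by
        show f.app V (a + b) = 0
        rw [map_add (f.app V).hom, show f.app V a = 0 from ha, show f.app V b = 0 from hb, add_zero]
      zero_mem' := map_zero (f.app V).hom
      smul_mem' := fun c x hx => by
        show f.app V (c • x) = 0
        rw [Scheme.Modules.Hom.app_smul, show f.app V x = 0 from hx, smul_zero] }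
  map_mem i s hs := by
    show f.app _ (M.presheaf.map i.op s) = 0
    rw [← QCoh.map_app f i s, show f.app _ s = 0 from hs, map_zero]
  locality {U} s h := by
    choose V i hV hs using h
    refine TopCat.Sheaf.eq_of_locally_eq' (⟨N.presheaf, N.isSheaf⟩ : TopCat.Sheaf Ab.{u} X.carrier)
      (fun x : U => V x.1 x.2) U (fun x => i x.1 x.2)
      (fun x hx => Opens.mem_iSup.mpr ⟨⟨x, hx⟩, hV x hx⟩) _ _ fun x => ?_
    exact (QCoh.map_app f (i x.1 x.2) s).trans ((hs x.1 x.2).trans (map_zero _).symm)

theorem isQuasicoherent_kerData {M N : X.Modules} [M.IsQuasicoherent] [N.IsQuasicoherent] (f : M ⟶ N) :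
    (kerData f).obj.IsQuasicoherent := by
  refine (kerData f).isQuasicoherent fun U hU g t ht => ?_
  obtain ⟨n, hn⟩ := (smulLift_and_smulSep_of_isAffineOpen hU N g).2 (f.app U t)
    ((QCoh.map_app f (homOfLE (X.basicOpen_le g)) t).trans ht)
  exact ⟨n, (Scheme.Modules.Hom.app_smul f (g ^ n) t).trans hn⟩

instance mono_kerData_ι {M N : X.Modules} (f : M ⟶ N) : Mono (kerData f).ι :=
  ⟨fun {Z} a b h => Scheme.Modules.hom_ext _ _ fun U => by
    ext x
    exact (kerData f).ι_app_injective U (congrArg (fun k => k.app U x) h)⟩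

/-- A compatible family of endomorphisms of all coherent modules is a multiplication. -/
theorem natural_app_eq_smul [IsNoetherian X] (ψ : ∀ M : X.Modules, Coh.IsCoh M → (M ⟶ M))
    (hnat : ∀ (M N : X.Modules) (hM : Coh.IsCoh M) (hN : Coh.IsCoh N) (g : M ⟶ N),
      g ≫ ψ N hN = ψ M hM ≫ g) (hO : Coh.IsCoh (Coh.structureModule X)) (M : X.Modules) (hM : Coh.IsCoh M)
    (U : X.Opens) (s : Γ(M, U)) :
    (ψ M hM).app U s = (show Γ(X, U) from (ψ _ hO).app U (1 : Γ(X, U))) • s := by
  let R : (↑U : Scheme.{u}).Modules := (Scheme.Modules.restrictFunctor U.ι).obj M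
  let J : X.Modules := (Scheme.Modules.pushforward U.ι).obj R
  let η : M ⟶ J := (Scheme.Modules.restrictAdjunction U.ι).unit.app M
  have hle : U.ι ''ᵁ (U.ι ⁻¹ᵁ ⊤) ≤ U := by
    rw [Scheme.Hom.image_preimage_eq_opensRange_inf, Scheme.Opens.opensRange_ι]; exact inf_le_left
  have hge : U ≤ U.ι ''ᵁ (U.ι ⁻¹ᵁ U) := by
    rw [Scheme.Hom.image_preimage_eq_opensRange_inf, Scheme.Opens.opensRange_ι, inf_idem]
  let σ : Γ(J, ⊤) := mres M hle s
  let α : Coh.structureModule X ⟶ J := (SheafOfModules.unitHomEquiv J).symm (FreeRetract9.secOf J σ)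
  haveI : M.IsQuasicoherent := hM.1
  haveI : (Coh.structureModule X).IsQuasicoherent := hO.1
  haveI : QuasiSeparatedSpace X := inferInstance
  haveI : QuasiCompact U.ι := inferInstance
  haveI : R.IsQuasicoherent := by
    haveI : (M.restrict U.ι).IsQuasicoherent := inferInstance
    exact this
  haveI : J.IsQuasicoherent := isQuasicoherent_pushforward U.ι R
  haveI : (Coh.structureModule X ⊞ M).IsQuasicoherent := (isCoh_biprod' hO hM).1
  let f : Coh.structureModule X ⊞ M ⟶ J := biprod.fst ≫ α - biprod.snd ≫ η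
  haveI := isQuasicoherent_kerData f
  have hK : Coh.IsCoh (kerData f).obj :=
    ⟨isQuasicoherent_kerData f, isFiniteType_of_mono (kerData f).ι (isCoh_biprod' hO hM).2⟩
  have hα : α.app U (1 : Γ(X, U)) = η.app U s := by
    have h1 : α.app U (1 : Γ(X, U)) = J.presheaf.map (homOfLE (le_top (a := U))).op σ :=
      congrArg (fun c : SheafOfModules.sections J => c.val (op U))
        ((SheafOfModules.unitHomEquiv J).apply_symm_apply (FreeRetract9.secOf J σ))
    refine h1.trans ?_
    show mres M _ (mres M hle s) = mres M (U.ι.image_preimage_le U) s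
    rw [InvExt.mres_mres]
  let x : Γ(Coh.structureModule X ⊞ M, U) :=
    (biprod.inl : Coh.structureModule X ⟶ _ ⊞ M).app U (1 : Γ(X, U)) +
      (biprod.inr : M ⟶ Coh.structureModule X ⊞ M).app U s
  have hfst : (biprod.fst : _ ⊞ M ⟶ Coh.structureModule X).app U x = (1 : Γ(X, U)) := by
    show (biprod.fst : _ ⊞ M ⟶ Coh.structureModule X).app U (_ + _) = _
    rw [map_add ((biprod.fst : _ ⊞ M ⟶ Coh.structureModule X).app U).hom]
    show ((biprod.inl : Coh.structureModule X ⟶ _ ⊞ M) ≫ biprod.fst).app U (1 : Γ(X, U)) +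
      ((biprod.inr : M ⟶ Coh.structureModule X ⊞ M) ≫ biprod.fst).app U s = _
    rw [biprod.inl_fst, biprod.inr_fst]
    exact add_zero _
  have hsnd : (biprod.snd : Coh.structureModule X ⊞ M ⟶ M).app U x = s := by
    show (biprod.snd : Coh.structureModule X ⊞ M ⟶ M).app U (_ + _) = _
    rw [map_add ((biprod.snd : Coh.structureModule X ⊞ M ⟶ M).app U).hom]
    show ((biprod.inl : Coh.structureModule X ⟶ _ ⊞ M) ≫ biprod.snd).app U (1 : Γ(X, U)) +
      ((biprod.inr : M ⟶ Coh.structureModule X ⊞ M) ≫ biprod.snd).app U s = _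
    rw [biprod.inl_snd, biprod.inr_snd]
    exact zero_add _
  have hf : ∀ y : Γ(Coh.structureModule X ⊞ M, U), f.app U y =
      α.app U ((biprod.fst : _ ⊞ M ⟶ Coh.structureModule X).app U y) -
        η.app U ((biprod.snd : Coh.structureModule X ⊞ M ⟶ M).app U y) := fun y => rfl
  have hx : x ∈ (kerData f).sec U := by
    show f.app U x = 0
    rw [hf, hfst, hsnd, hα, sub_self]
  let k : Γ((kerData f).obj, U) := (kerData f).lift x hx
  let k' : Γ((kerData f).obj, U) := (ψ _ hK).app U k
  have e1 : (biprod.fst : _ ⊞ M ⟶ Coh.structureModule X).app U ((kerData f).ι.app U k') =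
      (ψ _ hO).app U (1 : Γ(X, U)) :=
    (congrArg (fun g => g.app U k) (hnat _ _ hK hO ((kerData f).ι ≫ biprod.fst)).symm).trans
      (congrArg ((ψ _ hO).app U) hfst)
  have e2 : (biprod.snd : Coh.structureModule X ⊞ M ⟶ M).app U ((kerData f).ι.app U k') = (ψ M hM).app U s :=
    (congrArg (fun g => g.app U k) (hnat _ _ hK hM ((kerData f).ι ≫ biprod.snd)).symm).trans
      (congrArg ((ψ M hM).app U) hsnd)
  have h0 : f.app U ((kerData f).ι.app U k') = 0 := (kerData f).ι_app_mem k'
  rw [hf, e1, e2, sub_eq_zero] at h0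
  let a : Γ(X, U) := (ψ _ hO).app U (1 : Γ(X, U))
  have h2 : α.app U a = η.app U (a • s) := by
    rw [Scheme.Modules.Hom.app_smul η a s, ← hα]
    refine Eq.trans ?_ (Scheme.Modules.Hom.app_smul α a (1 : Γ(X, U)))
    exact congrArg (α.app U) (mul_one a).symm
  have hinj : Function.Injective (η.app U) := by
    intro p q hpq
    have hpq' : mres M (U.ι.image_preimage_le U) p = mres M (U.ι.image_preimage_le U) q := hpq
    have := congrArg (mres M hge) hpq'
    rwa [InvExt.mres_mres, InvExt.mres_mres, InvExt.mres_self, InvExt.mres_self] at this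
  exact (hinj (h2.symm.trans h0)).symm

end GrothLib.QCoh
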